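import Cfsg.Agent.Lib.NormalRankTwo.BoundLayer

/-!
# The order when `T₁` is special
-/

set_option autoImplicit false
set_option linter.unusedSectionVars false
set_option linter.style.haveILetI false

universe u

namespace CfsgLib.NormalRankTwo

open Subgroup

namespace Frame

variable {T : Type*} [Group T] [Finite T] (F : Frame T)

include F in
/-- The middle layer is abelian with trivial squares: impossible. -/
theorem false_of_elementary {U : Subgroup T} [U.Normal] (hcard : 4 < Nat.card U)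
    (h2 : ∀ u ∈ U, u ^ 2 = 1) : False := by
  have hc : IsMulCommutative U := ⟨⟨fun a b => PGroups.NoSCNThree.comm_of_sq_one
    (fun q : U => Subtype.ext (h2 q q.2)) a b⟩⟩
  have := F.noE8 U inferInstance hc h2
  omega

/-- The index of `T₁`. -/
theorem index_le (hS : SpecialSixteen F.T1) :
    F.T1.index ≤ 4 ∧ (Nat.card F.Zt = 4 → F.T1.index ≤ 2) := by
  classical
  haveI := F.normal
  haveI := F.Zt_normal
  haveI : Fact (Nat.Prime 2) := ⟨Nat.prime_two⟩
  let U := F.layer F.Zt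
  haveI : U.Normal := F.layer_normal _
  have hUle : U ≤ F.T1 := inf_le_left
  have hZU : F.Zt ≤ U := F.le_layer F.Zt_le
  have hUA : ∀ a ∈ F.A, ∀ x ∈ U, a x ∈ U := F.layer_map fun a ha x hx => F.map_Zt ha hx
  -- every coset of `T₁` contains a fixed point
  have hcos : ∀ q : T ⧸ F.T1, ∃ d ∈ F.C, (d : T ⧸ F.T1) = q := by
    intro q
    obtain ⟨t, rfl⟩ := QuotientGroup.mk_surjective q
    obtain ⟨x, hx, d, hd, rfl⟩ := mem_sup_of_normal_left.1 (F.sup_eq ▸ mem_top t)
    refine ⟨d, hd, ?_⟩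
    rw [QuotientGroup.mk_mul, (QuotientGroup.eq_one_iff x).2 hx, one_mul]
  choose s hs hsq using hcos
  have hclass : F.T1.index = Nat.card (T ⧸ F.T1) := rfl
  have hZlt : F.Zt < F.T1 := by
    refine lt_of_le_of_ne F.Zt_le fun h => ?_
    have := F.card_T1 hS
    rw [← h] at this
    have := Nat.card_pos (α := F.Zt)
    omega
  rcases F.card_between hS hUle hZU hUA with hU | hU | hU
  · exact absurd hU.symm (F.layer_lt hZlt).ne
  · -- the fixed points act trivially
    have h1 : F.T1.index = 1 := by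
      rw [Subgroup.index_eq_one, ← F.sup_eq, left_eq_sup]
      exact fun c hc => F.kernel_le hS hc fun x hx => (F.mem_layer.1 (hU.symm ▸ hx : x ∈ U)).2 c
    omega
  have hUlt : U < F.T1 := lt_of_le_of_ne hUle fun h => by
    have := F.card_T1 hS
    rw [← h, hU] at this
    have := Nat.card_pos (α := F.Zt)
    omega
  have hTU : ∀ x ∈ F.T1, ∀ t : T, x⁻¹ * (t * x * t⁻¹) ∈ U := by
    intro x hx t
    have hL : F.layer U = F.T1 := by
      have hlt := F.layer_lt hUlt
      rcases F.card_between hS (W := F.layer U) inf_le_left (hZU.trans hlt.le) (F.layer_map hUA) with h | h | h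
      · exact absurd (hlt.trans_le h.le) hZU.not_gt
      · exact h
      · exact absurd (Subgroup.eq_of_le_of_card_ge hlt.le (by show Nat.card (F.layer U) ≤ Nat.card U; rw [h, hU])) hlt.ne
    exact (F.mem_layer.1 (hL.symm ▸ hx : x ∈ F.layer U)).2 t
  -- one element outside the middle layer determines a fixed point modulo `T₁`
  have hdet : ∀ c ∈ F.C, ∀ x ∈ F.T1, x ∉ U → x⁻¹ * (c * x * c⁻¹) ∈ F.Zt → c ∈ F.T1 := by
    intro c hc x hx hxU hxc
    refine F.kernel_le hS hc fun y hy => ?_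
    have hUS : U ≤ F.devSub F.Zt c := fun v hv => ⟨hUle hv, (F.mem_layer.1 hv).2 c⟩
    have hxS : x ∈ F.devSub F.Zt c := ⟨hx, hxc⟩
    have hSA : ∀ a ∈ F.A, ∀ w ∈ F.devSub F.Zt c, a w ∈ F.devSub F.Zt c := fun a ha w hw =>
      ⟨F.map_T1 a ha w hw.1, F.map_dev ha hc w ▸ F.map_Zt ha hw.2⟩
    have hSle : F.devSub F.Zt c ≤ F.T1 := fun w hw => hw.1
    rcases F.card_between hS hSle (hZU.trans hUS) hSA with h | h | h
    · exact absurd (hZU (h ▸ hxS)) hxU
    · exact (h.symm ▸ hy : y ∈ F.devSub F.Zt c).2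
    · exact absurd (Subgroup.eq_of_le_of_card_ge hUS (by rw [h, hU]) ▸ hxS) hxU
  let π := QuotientGroup.mk' F.Zt
  have hπ : ∀ {a b : T}, π a = π b ↔ a⁻¹ * b ∈ F.Zt := fun {a b} => QuotientGroup.eq
  have hUq : Nat.card (U.map π) = 4 := by
    have hm := (F.Zt.subgroupOf U).card_mul_index
    rw [Nat.card_congr (subgroupOfEquivOfLe hZU).toEquiv, hU] at hm
    have hr : π.ker.relIndex U = Nat.card (U.map π) := Subgroup.relIndex_ker _ _
    rw [QuotientGroup.ker_mk'] at hr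
    rw [← hr]
    show (F.Zt.subgroupOf U).index = 4
    exact Nat.eq_of_mul_eq_mul_left (Nat.card_pos (α := F.Zt)) (by rw [hm, mul_comm])
  have hinj : ∀ x, ∀ hx : x ∈ F.T1, x ∉ U → Function.Injective fun q : T ⧸ F.T1 =>
      (⟨π (x⁻¹ * (s q * x * (s q)⁻¹)), _, hTU x hx (s q), rfl⟩ : U.map π) := by
    intro x hx hxU q r h
    have h' : π (x⁻¹ * (s q * x * (s q)⁻¹)) = π (x⁻¹ * (s r * x * (s r)⁻¹)) :=
      congrArg Subtype.val h
    rw [hπ] at h'
    have hd : x⁻¹ * ((s q)⁻¹ * s r * x * ((s q)⁻¹ * s r)⁻¹) ∈ F.Zt := by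
      have := F.Zt_conj (s q)⁻¹ h'
      convert this using 1
      group
    have := hdet _ (mul_mem (inv_mem (hs q)) (hs r)) x hx hxU hd
    rw [← hsq q, ← hsq r]
    exact QuotientGroup.eq.2 this
  obtain ⟨x₀, hx₀, hx₀U⟩ := SetLike.exists_of_lt hUlt
  have h4 : F.T1.index ≤ 4 := hUq ▸ Nat.card_le_card_of_injective _ (hinj x₀ hx₀ hx₀U)
  refine ⟨h4, fun hZ4 => ?_⟩
  by_contra hgt
  obtain ⟨k, hk⟩ := F.isP.index F.T1
  have hidx : F.T1.index = 4 := by
    rcases k with _ | _ | _ | k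
    · rw [hk] at hgt; norm_num at hgt
    · rw [hk] at hgt; norm_num at hgt
    · rw [hk]; norm_num
    · exfalso
      have h := Nat.pow_le_pow_right (show 0 < 2 by norm_num) (show 3 ≤ k + 1 + 1 + 1 by omega)
      rw [← hk] at h
      norm_num at h
      omega
  -- all shifts by the middle layer occur
  have hsurj : ∀ x ∈ F.T1, x ∉ U → ∀ v ∈ U, ∃ c ∈ F.C,
      (x⁻¹ * (c * x * c⁻¹))⁻¹ * v ∈ F.Zt := by
    intro x hx hxU v hv
    obtain ⟨q, hq⟩ := ((Nat.bijective_iff_injective_and_card _).2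
      ⟨hinj x hx hxU, by rw [hUq, ← hclass, hidx]⟩).2 ⟨π v, v, hv, rfl⟩
    exact ⟨s q, hs q, hπ.1 (congrArg Subtype.val hq)⟩
  have hsqZ : ∀ {y z : T}, y ∈ F.T1 → z ∈ F.Zt → (y * z) ^ 2 = y ^ 2 := fun {y z} hy hz => by
    rw [(F.Zt_commute hz hy).mul_pow, F.sq_Zt hS hz, mul_one]
  have hexp : ∀ x u : T, x ∈ F.T1 → u ∈ F.T1 →
      (x * u) ^ 2 = x ^ 2 * (x⁻¹ * (u * x * u⁻¹)) * u ^ 2 := fun x u _ _ => by
    simp only [pow_two]; group
  have hU16 : 4 < Nat.card U := by omega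
  by_cases hA : ∀ a ∈ F.A, ∀ z ∈ F.Zt, a z = z
  · -- some fixed point outside `T₁` centralises the centre
    obtain ⟨w, hwZ, hw1, hwc⟩ : ∃ w ∈ F.Zt, w ≠ 1 ∧ ∀ t : T, t * w * t⁻¹ = w := by
      obtain ⟨⟨w, hwZ, hwc⟩, hw1⟩ := ne_bot_iff_exists_ne_one.1
        (PGroups.inf_center_ne_bot F.isP (N := F.Zt) (fun h => by
          rw [h, card_bot] at hZ4; omega))
      exact ⟨w, hwZ, fun e => hw1 (Subtype.ext e), fun t => by
        rw [mem_center_iff.1 hwc t, mul_inv_cancel_right]⟩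
    obtain ⟨c, hc, hcX, hcz⟩ : ∃ c ∈ F.C, c ∉ F.T1 ∧ ∀ z ∈ F.Zt, c * z * c⁻¹ = z := by
      by_contra hcon
      push Not at hcon
      haveI := Fintype.ofFinite (T ⧸ F.T1)
      have h3 : 2 < Fintype.card (T ⧸ F.T1) := by
        rw [← Nat.card_eq_fintype_card, ← hclass, hidx]; norm_num
      obtain ⟨q, r, hq, hr, hqr⟩ : ∃ q r : T ⧸ F.T1, q ≠ 1 ∧ r ≠ 1 ∧ q ≠ r := by
        obtain ⟨a, b, c, hab, hac, hbc⟩ := Fintype.two_lt_card_iff.1 h3
        by_cases ha : a = 1
        · exact ⟨b, c, fun e => hab (ha.trans e.symm), fun e => hac (ha.trans e.symm), hbc⟩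
        · by_cases hb : b = 1
          · exact ⟨a, c, ha, fun e => hbc (hb.trans e.symm), hac⟩
          · exact ⟨a, b, ha, hb, hab⟩
      have hout : ∀ q : T ⧸ F.T1, q ≠ 1 → s q ∉ F.T1 := fun q hq h =>
        hq (by rw [← hsq q]; exact (QuotientGroup.eq_one_iff _).2 h)
      -- an element moving the centre fixes `w` and interchanges the other two
      have hswap : ∀ d : T, ∀ z ∈ F.Zt, d * z * d⁻¹ ≠ z → ∀ v ∈ F.Zt,
          d * v * d⁻¹ ≠ v → v = z ∨ v = d * z * d⁻¹ := by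
        intro d z hz hdz v hv hdv
        by_contra hcon'
        rw [not_or] at hcon'
        have hz1 : z ≠ 1 := fun e => hdz (by rw [e]; group)
        have hzw : z ≠ w := fun e => hdz (by rw [e]; exact hwc d)
        have hv1 : v ≠ 1 := fun e => hdv (by rw [e]; group)
        have hvw : v ≠ w := fun e => hdv (by rw [e]; exact hwc d)
        have h1 : d * z * d⁻¹ ≠ 1 := fun e => hz1 (conj_eq_one_iff.1 e)
        have h2 : d * z * d⁻¹ ≠ w := fun e =>
          hzw ((mul_right_injective d) (mul_left_injective d⁻¹ (e.trans (hwc d).symm)))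
        have hsub : ({1, w, z, d * z * d⁻¹, v} : Finset T) ⊆
            (Set.toFinite (F.Zt : Set T)).toFinset := by
          intro y hy
          simp only [Finset.mem_insert, Finset.mem_singleton] at hy
          rw [Set.Finite.mem_toFinset]
          rcases hy with rfl | rfl | rfl | rfl | rfl
          exacts [one_mem _, hwZ, hz, F.Zt_conj d hz, hv]
        have hcard := Finset.card_le_card hsub
        rw [← Nat.card_eq_card_finite_toFinset] at hcard
        simp [hw1.symm, hz1.symm, hv1.symm, h1.symm, hzw.symm, hvw.symm, h2.symm, hdz.symm,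
          Ne.symm hcon'.1, Ne.symm hcon'.2] at hcard
        change _ ≤ Nat.card F.Zt at hcard
        omega
      obtain ⟨z₁, hz₁, hd₁⟩ := hcon _ (hs q) (hout q hq)
      obtain ⟨z₂, hz₂, hd₂⟩ := hcon _ (hs r) (hout r hr)
      obtain ⟨z, hz, hdz⟩ := hcon _ (mul_mem (inv_mem (hs q)) (hs r)) (fun h => hqr (by
        rw [← hsq q, ← hsq r]; exact QuotientGroup.eq.2 h))
      set c₁ := s q
      set c₂ := s r
      have e : (c₁⁻¹ * c₂) * z * (c₁⁻¹ * c₂)⁻¹ = c₁⁻¹ * (c₂ * z * c₂⁻¹) * c₁ := by group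
      -- every moving element is the same transposition
      have hperm : ∀ d : T, ∀ v ∈ F.Zt, d * v * d⁻¹ ≠ v → ∀ y ∈ F.Zt, y ≠ 1 → y ≠ w →
          d * y * d⁻¹ ≠ y := by
        intro d v hv hdv y hy hy1 hyw h
        have hv1 : v ≠ 1 := fun q => hdv (by rw [q]; group)
        have hvw : v ≠ w := fun q => hdv (by rw [q]; exact hwc d)
        have h1 : d * v * d⁻¹ ≠ 1 := fun q => hv1 (conj_eq_one_iff.1 q)
        have h2 : d * v * d⁻¹ ≠ w := fun q =>
          hvw ((mul_right_injective d) (mul_left_injective d⁻¹ (q.trans (hwc d).symm)))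
        have hyv : y ≠ v := fun q => hdv (q ▸ h)
        have hyv' : y ≠ d * v * d⁻¹ := fun q => hyv
          ((mul_right_injective d) (mul_left_injective d⁻¹ (h.trans q)))
        have hsub : ({1, w, v, d * v * d⁻¹, y} : Finset T) ⊆
            (Set.toFinite (F.Zt : Set T)).toFinset := by
          intro u hu
          simp only [Finset.mem_insert, Finset.mem_singleton] at hu
          rw [Set.Finite.mem_toFinset]
          rcases hu with rfl | rfl | rfl | rfl | rfl
          exacts [one_mem _, hwZ, hv, F.Zt_conj d hv, hy]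
        have hcard := Finset.card_le_card hsub
        rw [← Nat.card_eq_card_finite_toFinset] at hcard
        simp [hw1.symm, hv1.symm, hvw.symm, h1.symm, h2.symm, hdv.symm, hy1.symm, hyw.symm,
          Ne.symm hyv, Ne.symm hyv'] at hcard
        change _ ≤ Nat.card F.Zt at hcard
        omega
      have hz1 : z ≠ 1 := fun q => hdz (by rw [q]; group)
      have hzw : z ≠ w := fun q => hdz (by rw [q]; exact hwc _)
      have h1 := hperm c₁ z₁ hz₁ hd₁ z hz hz1 hzw
      have h2 := hperm c₂ z₂ hz₂ hd₂ z hz hz1 hzw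
      have h2' : c₂ * z * c₂⁻¹ ≠ 1 := fun q => hz1 (conj_eq_one_iff.1 q)
      have h2'' : c₂ * z * c₂⁻¹ ≠ w := fun q =>
        hzw ((mul_right_injective c₂) (mul_left_injective c₂⁻¹ (q.trans (hwc c₂).symm)))
      rcases hswap c₁ z hz h1 (c₂ * z * c₂⁻¹) (F.Zt_conj c₂ hz)
          (hperm c₁ z₁ hz₁ hd₁ _ (F.Zt_conj c₂ hz) h2' h2'') with h₄ | h₄
      · exact h2 h₄
      · exact hdz (e.trans (by rw [h₄]; group))
    have hK := hdet c hc
    let E : F.T1 →* T ⧸ F.Zt :=
      MonoidHom.mk' (fun x => π ((x : T)⁻¹ * (c * x * c⁻¹))) (fun x y => by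
        rw [Subgroup.coe_mul, dev_mul, map_mul π ((y : T)⁻¹ * ((x : T)⁻¹ * (c * x * c⁻¹)) * y)]
        congr 1
        refine hπ.2 ?_
        have := F.comm_mem_Zt hS (hUle (hTU x x.2 c)) (inv_mem y.2)
        have h2 := inv_mem this
        rw [inv_inv] at h2
        convert h2 using 1
        group)
    have hker : E.ker = U.subgroupOf F.T1 := by
      ext x
      rw [MonoidHom.mem_ker, mem_subgroupOf]
      show π _ = 1 ↔ _
      rw [QuotientGroup.mk'_apply, QuotientGroup.eq_one_iff]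
      exact ⟨fun h => by_contra fun hxU => hcX (hK x x.2 hxU h),
        fun h => (F.mem_layer.1 h).2 c⟩
    have hrange : E.range = U.map π := by
      refine Subgroup.eq_of_le_of_card_ge ?_ ?_
      · rintro _ ⟨x, rfl⟩
        exact ⟨_, hTU x x.2 c, rfl⟩
      · rw [hUq, ← Subgroup.index_ker E, hker]
        have hm := (U.subgroupOf F.T1).card_mul_index
        rw [Nat.card_congr (subgroupOfEquivOfLe hUle).toEquiv, hU, F.card_T1 hS] at hm
        have := Nat.card_pos (α := F.Zt)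
        nlinarith
    have hsq2 : ∀ x ∈ F.T1,
        (x⁻¹ * ((x⁻¹ * (c * x * c⁻¹)) * x * (x⁻¹ * (c * x * c⁻¹))⁻¹)) *
          (x⁻¹ * (c * x * c⁻¹)) ^ 2 = 1 := by
      intro x hx
      have h1 : (c * x * c⁻¹) ^ 2 = x ^ 2 := by rw [conj_pow, hcz _ (F.sq_mem_Zt hS hx)]
      rw [show c * x * c⁻¹ = x * (x⁻¹ * (c * x * c⁻¹)) by group,
        hexp x _ hx (hUle (hTU x hx c)), mul_assoc] at h1
      exact mul_eq_left.1 h1
    have habel : ∀ v ∈ U, ∀ v' ∈ U, Commute v v' := by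
      intro v hv v' hv'
      obtain ⟨x, hx⟩ : π v' ∈ E.range := hrange ▸ ⟨v', hv', rfl⟩
      have hz := hπ.1 hx
      set e := (x : T)⁻¹ * (c * x * c⁻¹) with he
      have heU : e ∈ F.T1 := hUle (hTU x x.2 c)
      have hxv := hsq2 _ (mul_mem x.2 (hUle hv))
      have hxx := hsq2 x x.2
      obtain ⟨z, hzZ, he'⟩ : ∃ z ∈ F.Zt,
          ((x : T) * v)⁻¹ * (c * ((x : T) * v) * c⁻¹) = e * z := by
        refine ⟨e⁻¹ * (((x : T) * v)⁻¹ * (c * ((x : T) * v) * c⁻¹)), ?_, by group⟩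
        rw [← hπ, dev_mul, map_mul π (v⁻¹ * e * v),
          show π (v⁻¹ * (c * v * c⁻¹)) = 1 from (QuotientGroup.eq_one_iff _).2 ((F.mem_layer.1 hv).2 c),
          mul_one]
        refine hπ.2 ?_
        have := F.comm_mem_Zt hS heU (inv_mem (hUle hv))
        rwa [inv_inv] at this
      rw [he', hsqZ heU hzZ] at hxv
      have hcomm : ((x : T) * v)⁻¹ * (e * z * ((x : T) * v) * (e * z)⁻¹) =
          ((x : T) * v)⁻¹ * (e * ((x : T) * v) * e⁻¹) := by
        have hzc : z * ((x : T) * v) * z⁻¹ = (x : T) * v := by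
          rw [← (F.Zt_commute hzZ (mul_mem x.2 (hUle hv))).eq, mul_inv_cancel_right]
        calc _ = ((x : T) * v)⁻¹ * (e * (z * ((x : T) * v) * z⁻¹) * e⁻¹) := by group
          _ = _ := by rw [hzc]
      rw [hcomm, dev_mul, ← hxx] at hxv
      have hev : v⁻¹ * (e * v * e⁻¹) = 1 := by
        have hbz : (x : T)⁻¹ * (e * x * e⁻¹) ∈ F.Zt := F.comm_mem_Zt hS x.2 heU
        have hvz : v⁻¹ * ((x : T)⁻¹ * (e * x * e⁻¹)) * v = (x : T)⁻¹ * (e * x * e⁻¹) := by
          rw [mul_assoc, ← (F.Zt_commute hbz (hUle hv)).eq, inv_mul_cancel_left]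
        rw [hvz] at hxv
        exact mul_eq_left.1 (mul_right_cancel hxv)
      have hce : Commute v e := by
        rw [inv_mul_eq_one, eq_mul_inv_iff_mul_eq] at hev
        exact hev
      have hvz : Commute v (e⁻¹ * v') := F.Zt_commute hz (hUle hv)
      have := hce.mul_right hvz
      rwa [mul_inv_cancel_left] at this
    refine F.false_of_elementary hU16 fun v hv => ?_
    let S₀ : Subgroup T :=
      { carrier := {y | y ∈ U ∧ y ^ 2 = 1}
        one_mem' := ⟨one_mem _, one_pow 2⟩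
        mul_mem' := fun {y y'} hy hy' => ⟨mul_mem hy.1 hy'.1, by
          rw [(habel y hy.1 y' hy'.1).mul_pow, hy.2, hy'.2, one_mul]⟩
        inv_mem' := fun {y} hy => ⟨inv_mem hy.1, by rw [inv_pow, hy.2, inv_one]⟩ }
    rcases F.card_between hS (W := S₀) (fun y hy => hUle hy.1)
        (fun z hz => ⟨hZU hz, F.sq_Zt hS hz⟩)
        (fun a ha y hy => ⟨hUA a ha y hy.1, by rw [← map_pow, hy.2, map_one]⟩ :
          ∀ a ∈ F.A, ∀ y ∈ S₀, a y ∈ S₀) with h | h | h
    · exfalso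
      have hUZ : U ≤ F.Zt := fun y hy => F.mem_Zt_of_fixed hS (hUle hy) fun a ha => by
        rw [← h]
        refine ⟨mul_mem (inv_mem hy) (hUA a ha y hy), ?_⟩
        rw [(habel _ (inv_mem hy) _ (hUA a ha y hy)).mul_pow, inv_pow, ← map_pow,
          hA a ha _ (F.sq_mem_Zt hS (hUle hy)), inv_mul_cancel]
      have := Subgroup.card_le_of_le hUZ
      omega
    · exact (h.symm ▸ hUle hv : v ∈ S₀).2
    · have := Subgroup.eq_of_le_of_card_ge (show S₀ ≤ U from fun y hy => hy.1) (by rw [h, hU])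
      exact (this.symm ▸ hv : v ∈ S₀).2
  push Not at hA
  obtain ⟨a, ha, z₀, hz₀, hmove⟩ := hA
  refine F.false_of_elementary hU16 fun v hv => ?_
  have key : ∀ x ∈ F.T1, x ∉ U → (x⁻¹ * (v * x * v⁻¹)) * v ^ 2 = 1 := by
    intro x hx hxU
    obtain ⟨c, hc, hz⟩ := hsurj x hx hxU v hv
    have hcx : c * x * c⁻¹ ∈ F.T1 := F.conj_mem_T1 c hx
    have h1 : (x * v) ^ 2 = (c * x * c⁻¹) ^ 2 := by
      rw [show x * v = (c * x * c⁻¹) * ((x⁻¹ * (c * x * c⁻¹))⁻¹ * v) by group, hsqZ hcx hz]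
    rw [conj_pow, F.conj_Zt_eq hZ4.le ha hz₀ hmove hc _ (F.sq_mem_Zt hS hx),
      hexp x v hx (hUle hv), mul_assoc] at h1
    exact mul_eq_left.1 h1
  obtain ⟨x, y, hx, hy, hxU, hyU, hxyU⟩ : ∃ x y, x ∈ F.T1 ∧ y ∈ F.T1 ∧ x ∉ U ∧ y ∉ U ∧
      x * y ∉ U := by
    by_contra hcon
    push Not at hcon
    refine hUlt.ne (F.eq_T1_of_relIndex hUle hUA ?_)
    have : (U.subgroupOf F.T1).index = 2 := by
      rw [Subgroup.index_eq_two_iff]
      refine ⟨⟨x₀, hx₀⟩⁻¹, fun y => ?_⟩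
      simp only [mem_subgroupOf, coe_mul, coe_inv]
      by_cases hyU : (y : T) ∈ U
      · exact Or.inr ⟨hyU, fun h => hx₀U (by
          have := mul_mem (inv_mem hyU) h
          rwa [inv_mul_cancel_left, inv_mem_iff] at this)⟩
      · refine Or.inl ⟨?_, hyU⟩
        exact hcon _ _ y.2 (inv_mem hx₀) hyU (by rwa [inv_mem_iff])
    exact this.le
  have h1 := key x hx hxU
  have h2 := key y hy hyU
  have h3 := key _ (mul_mem hx hy) hxyU
  have hbx : x⁻¹ * (v * x * v⁻¹) ∈ F.Zt := F.comm_mem_Zt hS hx (hUle hv)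
  rw [dev_mul, show y⁻¹ * (x⁻¹ * (v * x * v⁻¹)) * y = x⁻¹ * (v * x * v⁻¹) by
    rw [mul_assoc, ← (F.Zt_commute hbx hy).eq, inv_mul_cancel_left], mul_assoc, h2, mul_one] at h3
  rwa [h3, one_mul] at h1

end Frame

/-- Piece four: the order of `T` when `T₁` is special. -/
theorem bound : BoundStmt.{u} := by
  intro T _ _ F hS
  haveI := F.normal
  haveI : Fact (Nat.Prime 2) := ⟨Nat.prime_two⟩
  obtain ⟨h4, h2⟩ := F.index_le hS
  have hT : Nat.card T = 16 * Nat.card F.Zt * F.T1.index := by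
    rw [← F.card_T1 hS, card_mul_index]
  obtain ⟨k, hk⟩ := F.isP.index F.T1
  have hk2 : k ≤ 2 := by
    by_contra h
    have : 2 ^ 3 ≤ 2 ^ k := Nat.pow_le_pow_right (by norm_num) (by omega)
    omega
  rcases (F.card_Zt.symm ▸ hS.card : Nat.card F.Zt = 2 ∨ Nat.card F.Zt = 4) with hz | hz
  · rw [hT, hz, hk]
    interval_cases k <;> simp
  · have := h2 hz
    rw [hT, hz, hk]
    rw [hk] at this
    interval_cases k <;> simp at this ⊢

end CfsgLib.NormalRankTwo
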