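import Cfsg.Agent.Lib.NormalRankTwo.Defs
import Cfsg.Agent.Lib.PGroups.Basic

/-!
# The centre of a special `T₁` and the layers above it
-/

set_option autoImplicit false
set_option linter.unusedSectionVars false
set_option linter.style.haveILetI false

namespace CfsgLib.NormalRankTwo.Frame

open Subgroup
open scoped commutatorElement

variable {T : Type*} [Group T] [Finite T] (F : Frame T)

/-- The centre of `T₁`, in `T`. -/
def Zt : Subgroup T := (center F.T1).map F.T1.subtype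

theorem Zt_le : F.Zt ≤ F.T1 := map_subtype_le _

theorem mem_Zt {z : T} : z ∈ F.Zt ↔ z ∈ F.T1 ∧ ∀ x ∈ F.T1, x * z = z * x := by
  constructor
  · rintro ⟨w, hw, rfl⟩
    exact ⟨w.2, fun x hx => congrArg Subtype.val (mem_center_iff.1 hw ⟨x, hx⟩)⟩
  · rintro ⟨h1, h2⟩
    exact ⟨⟨z, h1⟩, mem_center_iff.2 fun x => Subtype.ext (h2 x x.2), rfl⟩

theorem coe_mem_Zt {w : F.T1} : (w : T) ∈ F.Zt ↔ w ∈ center F.T1 :=
  ⟨fun ⟨v, hv, e⟩ => Subtype.ext e ▸ hv, fun h => ⟨w, h, rfl⟩⟩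

theorem conj_mem_T1 (t : T) {x : T} (hx : x ∈ F.T1) : t * x * t⁻¹ ∈ F.T1 :=
  F.normal.conj_mem x hx t

theorem Zt_conj (t : T) {z : T} (hz : z ∈ F.Zt) : t * z * t⁻¹ ∈ F.Zt := by
  rw [mem_Zt] at hz ⊢
  refine ⟨F.conj_mem_T1 t hz.1, fun x hx => ?_⟩
  have h := hz.2 (t⁻¹ * x * t) (by simpa using F.conj_mem_T1 t⁻¹ hx)
  calc x * (t * z * t⁻¹) = t * ((t⁻¹ * x * t) * z) * t⁻¹ := by group
    _ = t * (z * (t⁻¹ * x * t)) * t⁻¹ := by rw [h]
    _ = t * z * t⁻¹ * x := by group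

theorem Zt_normal : F.Zt.Normal := ⟨fun _ hz t => F.Zt_conj t hz⟩

theorem map_Zt {a : MulAut T} (ha : a ∈ F.A) {z : T} (hz : z ∈ F.Zt) : a z ∈ F.Zt := by
  rw [mem_Zt] at hz ⊢
  refine ⟨F.map_T1 a ha z hz.1, fun x hx => ?_⟩
  obtain ⟨y, rfl⟩ : ∃ y, a y = x := ⟨a.symm x, a.apply_symm_apply x⟩
  rw [← map_mul, hz.2 y ((F.mem_inv ha).1 hx), map_mul]

theorem fixC {a : MulAut T} (ha : a ∈ F.A) {c : T} (hc : c ∈ F.C) : a c = c :=
  (F.mem_C c).1 hc a ha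

theorem map_conjC {a : MulAut T} (ha : a ∈ F.A) {c : T} (hc : c ∈ F.C) (x : T) :
    a (c * x * c⁻¹) = c * a x * c⁻¹ := by
  rw [map_mul, map_mul, map_inv, F.fixC ha hc]

theorem sq_mem_Zt (hS : SpecialSixteen F.T1) {x : T} (hx : x ∈ F.T1) : x ^ 2 ∈ F.Zt := by
  haveI : Fact (Nat.Prime 2) := ⟨Nat.prime_two⟩
  have h := PGroups.pow_mem_frattini hS.isSpecial.1 (⟨x, hx⟩ : F.T1)
  rw [hS.isSpecial.2.1] at h
  exact ⟨_, h, rfl⟩

theorem comm_mem_Zt (hS : SpecialSixteen F.T1) {x y : T} (hx : x ∈ F.T1) (hy : y ∈ F.T1) :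
    x⁻¹ * (y * x * y⁻¹) ∈ F.Zt := by
  have h : (⟨x, hx⟩⁻¹ * (⟨y, hy⟩ * ⟨x, hx⟩ * ⟨y, hy⟩⁻¹) : F.T1) ∈ commutator F.T1 := by
    have := commutator_mem_commutator (mem_top (⟨x, hx⟩⁻¹ : F.T1)) (mem_top (⟨y, hy⟩ : F.T1))
    rw [← commutator_def] at this
    simpa [commutatorElement_def, mul_assoc] using this
  rw [hS.isSpecial.2.2] at h
  exact ⟨_, h, rfl⟩

theorem sq_Zt (hS : SpecialSixteen F.T1) {z : T} (hz : z ∈ F.Zt) : z ^ 2 = 1 := by
  obtain ⟨w, hw, rfl⟩ := hz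
  exact congrArg Subtype.val (hS.sq w hw)

theorem card_Zt : Nat.card F.Zt = Nat.card (center F.T1) :=
  card_map_of_injective F.T1.subtype_injective

theorem card_T1 (hS : SpecialSixteen F.T1) : Nat.card F.T1 = 16 * Nat.card F.Zt := by
  rw [F.card_Zt, ← (center F.T1).card_mul_index, hS.index]
  ring

theorem mem_Zt_of_fixed (hS : SpecialSixteen F.T1) {g : T} (hg : g ∈ F.T1)
    (hfix : ∀ a ∈ F.A, g⁻¹ * a g ∈ F.Zt) : g ∈ F.Zt := by
  have h := PGroups.NoSCNThree.mem_commutator_of_fixed_mod hS.isSpecial.1 F.A1 F.odd_A1 F.A1_gen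
    (g := ⟨g, hg⟩) (by
      rintro _ ⟨a, rfl⟩
      rw [hS.isSpecial.2.2]
      exact F.coe_mem_Zt.1 (hfix a a.2))
  rw [hS.isSpecial.2.2] at h
  exact F.coe_mem_Zt.2 h

/-- An invariant subgroup of index at most two in `T₁` is everything. -/
theorem eq_T1_of_relIndex {S : Subgroup T} (hS : S ≤ F.T1) (hA : ∀ a ∈ F.A, ∀ x ∈ S, a x ∈ S)
    (h2 : S.relIndex F.T1 ≤ 2) : S = F.T1 := by
  refine le_antisymm hS ?_
  conv_lhs => rw [← F.gen]
  rw [closure_le]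
  rintro _ ⟨a, ha, x, hx, rfl⟩
  by_cases hxS : x ∈ S
  · exact mul_mem (inv_mem hxS) (hA a ha x hxS)
  have hax : a x ∉ S := fun h => hxS (by
    have := hA a⁻¹ (inv_mem ha) _ h
    rwa [MulAut.inv_def, MulEquiv.symm_apply_apply] at this)
  rcases (show S.relIndex F.T1 = 2 ∨ S.relIndex F.T1 = 1 by
    have : S.relIndex F.T1 ≠ 0 := Nat.ne_of_gt (Nat.pos_of_ne_zero Subgroup.index_ne_zero_of_finite)
    omega) with h | h
  · have := (mul_mem_iff_of_index_two (H := S.subgroupOf F.T1) h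
      (a := (⟨x, hx⟩ : F.T1)⁻¹) (b := ⟨a x, F.map_T1 a ha x hx⟩)).2
      (by simp only [inv_mem_iff, mem_subgroupOf, hxS, hax])
    exact this
  · exact absurd (relIndex_eq_one.1 h hx) hxS

/-- There is an element of `T₁` central modulo a smaller normal subgroup. -/
theorem exists_layer {U : Subgroup T} (hU : U.Normal) (hlt : U < F.T1) :
    ∃ x ∈ F.T1, x ∉ U ∧ ∀ t : T, x⁻¹ * (t * x * t⁻¹) ∈ U := by
  haveI := hU
  haveI : Fact (Nat.Prime 2) := ⟨Nat.prime_two⟩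
  obtain ⟨x₀, hx₀, hx₀U⟩ := SetLike.exists_of_lt hlt
  have hne : F.T1.map (QuotientGroup.mk' U) ≠ ⊥ := fun h => hx₀U (by
    rw [Subgroup.map_eq_bot_iff, QuotientGroup.ker_mk'] at h
    exact h hx₀)
  haveI : (F.T1.map (QuotientGroup.mk' U)).Normal :=
    F.normal.map _ (QuotientGroup.mk'_surjective U)
  obtain ⟨⟨q, hq⟩, hq1⟩ :=
    ne_bot_iff_exists_ne_one.1 (PGroups.inf_center_ne_bot (F.isP.to_quotient U) hne)
  have hq1 : q ≠ 1 := fun e => hq1 (Subtype.ext e)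
  obtain ⟨x, hx, rfl⟩ := hq.1
  refine ⟨x, hx, fun h => hq1 ((QuotientGroup.eq_one_iff x).2 h), fun t => ?_⟩
  have hc := mem_center_iff.1 hq.2 (QuotientGroup.mk' U t)
  rw [← QuotientGroup.eq_one_iff]
  show QuotientGroup.mk' U (x⁻¹ * (t * x * t⁻¹)) = 1
  rw [map_mul, map_mul, map_mul, hc, map_inv, map_inv]
  group

/-- Centralisers of `T₁` among fixed points lie in `T₁`. -/
theorem centC_le (hS : SpecialSixteen F.T1) {c : T} (hc : ∀ x ∈ F.T1, x * c = c * x) :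
    c ∈ F.T1 := by
  by_contra hcX
  haveI : Fact (Nat.Prime 2) := ⟨Nat.prime_two⟩
  obtain ⟨k, hk⟩ := F.isP c
  obtain ⟨d, hd, hd2, hdX⟩ : ∃ d : T, (∀ x ∈ F.T1, x * d = d * x) ∧ d ^ 2 ∈ F.T1 ∧ d ∉ F.T1 := by
    induction k generalizing c with
    | zero => exact absurd (by rw [pow_zero, pow_one] at hk; rw [hk]; exact one_mem _) hcX
    | succ k ih =>
      by_cases h : c ^ 2 ∈ F.T1
      · exact ⟨c, hc, h, hcX⟩
      · exact ih (c := c ^ 2) (fun x hx => (Commute.pow_right (hc x hx) 2).eq) h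
          (by rw [← pow_mul, ← pow_succ']; exact hk)
  let W := F.T1 ⊔ zpowers d
  have hdZ : d ^ 2 ∈ F.Zt := F.mem_Zt.2 ⟨hd2, fun x hx => (Commute.pow_right (hd x hx) 2).eq⟩
  haveI := F.Zt_normal
  have hsq : ∀ w : W, w ^ 2 ∈ F.Zt.subgroupOf W := by
    intro w
    rw [mem_subgroupOf]
    obtain ⟨x, hx, y, hy, hxy⟩ := mem_sup_of_normal_left.1 w.2
    obtain ⟨j, rfl⟩ := mem_zpowers_iff.1 hy
    push_cast
    rw [← hxy, Commute.mul_pow ((show Commute x d from hd x hx).zpow_right j)]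
    refine mul_mem (F.sq_mem_Zt hS hx) ?_
    rw [← zpow_natCast, ← zpow_mul, mul_comm, zpow_mul, zpow_natCast]
    exact zpow_mem hdZ j
  haveI : (F.Zt.subgroupOf W).Normal := inferInstance
  have hle := PGroups.NoSCNThree.frattini_le_of_squares (F.isP.to_subgroup W) hsq
  have h16 : (frattini W).index ≤ 16 := F.rankFour W
  have hidx : (F.Zt.subgroupOf W).index ≤ 16 :=
    (Nat.le_of_dvd (Nat.pos_of_ne_zero Subgroup.index_ne_zero_of_finite)
      (index_dvd_of_le hle)).trans h16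
  have h2 : 2 * Nat.card F.T1 ≤ Nat.card W := by
    have h : F.T1.relIndex W * Nat.card F.T1 = Nat.card W := by
      rw [← Nat.card_congr (subgroupOfEquivOfLe (le_sup_left : F.T1 ≤ W)).toEquiv, relIndex,
        mul_comm, card_mul_index]
    have h1 : F.T1.relIndex W ≠ 1 := fun h => hdX (relIndex_eq_one.1 h (mem_sup_right (mem_zpowers d)))
    have h0 : F.T1.relIndex W ≠ 0 := Subgroup.index_ne_zero_of_finite
    rw [← h]
    exact Nat.mul_le_mul_right _ (by omega)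
  have hcard := (F.Zt.subgroupOf W).card_mul_index
  rw [Nat.card_congr (subgroupOfEquivOfLe (F.Zt_le.trans le_sup_left)).toEquiv] at hcard
  have := F.card_T1 hS
  have hpos := Nat.card_pos (α := F.Zt)
  nlinarith

end CfsgLib.NormalRankTwo.Frame
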