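import Cfsg.Agent.Lib.NormalRankTwo.BoundBase

/-!
# The action of the fixed points on the layers of a special `T₁`
-/

set_option autoImplicit false
set_option linter.unusedSectionVars false
set_option linter.style.haveILetI false

namespace CfsgLib.NormalRankTwo.Frame

open Subgroup

variable {T : Type*} [Group T] [Finite T] (F : Frame T)

/-- The product formula for `x ↦ x⁻¹ (c x c⁻¹)`. -/
theorem dev_mul (c x y : T) :
    (x * y)⁻¹ * (c * (x * y) * c⁻¹) =
      y⁻¹ * (x⁻¹ * (c * x * c⁻¹)) * y * (y⁻¹ * (c * y * c⁻¹)) := by group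

theorem map_dev {a : MulAut T} (ha : a ∈ F.A) {c : T} (hc : c ∈ F.C) (x : T) :
    a (x⁻¹ * (c * x * c⁻¹)) = (a x)⁻¹ * (c * a x * c⁻¹) := by
  rw [map_mul, map_inv, F.map_conjC ha hc]

theorem Zt_commute {z x : T} (hz : z ∈ F.Zt) (hx : x ∈ F.T1) : Commute x z :=
  (F.mem_Zt.1 hz).2 x hx

/-- Elements of `T₁` moved into `W` by `c`, for a normal `W` inside `T₁`. -/
def devSub (W : Subgroup T) [W.Normal] (c : T) : Subgroup T where
  carrier := {x | x ∈ F.T1 ∧ x⁻¹ * (c * x * c⁻¹) ∈ W}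
  one_mem' := ⟨one_mem _, by simp⟩
  mul_mem' := by
    rintro x y ⟨hx, hx'⟩ ⟨hy, hy'⟩
    refine ⟨mul_mem hx hy, ?_⟩
    rw [dev_mul]
    refine mul_mem ?_ hy'
    have := (inferInstance : W.Normal).conj_mem _ hx' y⁻¹
    rwa [inv_inv] at this
  inv_mem' := by
    rintro x ⟨hx, hx'⟩
    refine ⟨inv_mem hx, ?_⟩
    have := (inferInstance : W.Normal).conj_mem _ (inv_mem hx') x
    convert this using 1
    group

theorem mem_devSub {W : Subgroup T} [W.Normal] {c x : T} :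
    x ∈ F.devSub W c ↔ x ∈ F.T1 ∧ x⁻¹ * (c * x * c⁻¹) ∈ W := Iff.rfl

/-- Elements of `T₁` central modulo `W`. -/
def layer (W : Subgroup T) [W.Normal] : Subgroup T :=
  F.T1 ⊓ ⨅ t : T, F.devSub W t

theorem mem_layer {W : Subgroup T} [W.Normal] {x : T} :
    x ∈ F.layer W ↔ x ∈ F.T1 ∧ ∀ t : T, x⁻¹ * (t * x * t⁻¹) ∈ W := by
  simp only [layer, mem_inf, mem_iInf, mem_devSub]
  exact ⟨fun h => ⟨h.1, fun t => (h.2 t).2⟩, fun h => ⟨h.1, fun t => ⟨h.1, h.2 t⟩⟩⟩

theorem layer_normal (W : Subgroup T) [W.Normal] : (F.layer W).Normal := by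
  refine ⟨fun x hx s => ?_⟩
  rw [mem_layer] at hx ⊢
  refine ⟨F.conj_mem_T1 s hx.1, fun t => ?_⟩
  have h := (inferInstance : W.Normal).conj_mem _ (hx.2 (s⁻¹ * t * s)) s
  convert h using 1
  group

theorem layer_map {W : Subgroup T} [W.Normal] (hW : ∀ a ∈ F.A, ∀ x ∈ W, a x ∈ W) :
    ∀ a ∈ F.A, ∀ x ∈ F.layer W, a x ∈ F.layer W := by
  intro a ha x hx
  rw [mem_layer] at hx ⊢
  refine ⟨F.map_T1 a ha x hx.1, fun t => ?_⟩
  obtain ⟨s, rfl⟩ : ∃ s, a s = t := ⟨a.symm t, a.apply_symm_apply t⟩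
  have := hW a ha _ (hx.2 s)
  rwa [map_mul, map_mul, map_mul, map_inv, map_inv] at this

theorem le_layer {W : Subgroup T} [W.Normal] (hW : W ≤ F.T1) : W ≤ F.layer W := fun x hx =>
  F.mem_layer.2 ⟨hW hx, fun t => mul_mem (inv_mem hx) ((inferInstance : W.Normal).conj_mem x hx t)⟩

theorem layer_lt {W : Subgroup T} [W.Normal] (hW : W < F.T1) : W < F.layer W := by
  refine lt_of_le_of_ne (F.le_layer hW.le) fun h => ?_
  obtain ⟨x, hx, hxW, hxt⟩ := F.exists_layer inferInstance hW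
  exact hxW (h ▸ F.mem_layer.2 ⟨hx, hxt⟩)

/-- A subgroup twice the centre cannot be invariant. -/
theorem card_ne_two_mul (hS : SpecialSixteen F.T1) {W : Subgroup T} (hW : W ≤ F.T1)
    (hZ : F.Zt ≤ W) (hA : ∀ a ∈ F.A, ∀ x ∈ W, a x ∈ W) : Nat.card W ≠ 2 * Nat.card F.Zt := by
  intro hc
  have hidx : (F.Zt.subgroupOf W).index = 2 := by
    have h := (F.Zt.subgroupOf W).card_mul_index
    rw [Nat.card_congr (subgroupOfEquivOfLe hZ).toEquiv, hc, mul_comm 2] at h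
    exact Nat.eq_of_mul_eq_mul_left (Nat.card_pos (α := F.Zt)) h
  have hall : ∀ x ∈ W, x ∈ F.Zt := fun x hx => F.mem_Zt_of_fixed hS (hW hx) fun a ha => by
    by_cases hxZ : x ∈ F.Zt
    · exact mul_mem (inv_mem hxZ) (F.map_Zt ha hxZ)
    have hax : a x ∉ F.Zt := fun h => hxZ (by
      have := F.map_Zt (inv_mem ha) h
      rwa [MulAut.inv_def, MulEquiv.symm_apply_apply] at this)
    exact (mul_mem_iff_of_index_two hidx (a := (⟨x, hx⟩ : W)⁻¹) (b := ⟨a x, hA a ha x hx⟩)).2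
      (by simp only [inv_mem_iff, mem_subgroupOf, hxZ, hax])
  have := Subgroup.card_le_of_le (show W ≤ F.Zt from hall)
  have := Nat.card_pos (α := F.Zt)
  omega

/-- The possible orders of subgroups between the centre and `T₁`. -/
theorem card_between (hS : SpecialSixteen F.T1) {W : Subgroup T} (hW : W ≤ F.T1)
    (hZ : F.Zt ≤ W) (hA : ∀ a ∈ F.A, ∀ x ∈ W, a x ∈ W) :
    W = F.Zt ∨ W = F.T1 ∨ Nat.card W = 4 * Nat.card F.Zt := by
  haveI : Fact (Nat.Prime 2) := ⟨Nat.prime_two⟩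
  have h1 : Nat.card W ∣ 16 * Nat.card F.Zt := F.card_T1 hS ▸ Subgroup.card_dvd_of_le hW
  obtain ⟨k, hk⟩ := Subgroup.card_dvd_of_le hZ
  have hpos := Nat.card_pos (α := F.Zt)
  have hk16 : k ∣ 16 := by
    rw [hk, mul_comm 16] at h1
    exact Nat.dvd_of_mul_dvd_mul_left hpos h1
  have hk' : k ∈ Nat.divisors 16 := Nat.mem_divisors.2 ⟨hk16, by norm_num⟩
  rw [show Nat.divisors 16 = {1, 2, 4, 8, 16} by decide] at hk'
  simp only [Finset.mem_insert, Finset.mem_singleton] at hk'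
  rcases hk' with rfl | rfl | rfl | rfl | rfl
  · exact Or.inl (Subgroup.eq_of_le_of_card_ge hZ (by rw [hk, mul_one])).symm
  · exact absurd (by rw [hk]; ring) (F.card_ne_two_mul hS hW hZ hA)
  · exact Or.inr (Or.inr (by rw [hk]; ring))
  · refine Or.inr (Or.inl (F.eq_T1_of_relIndex hW hA (le_of_eq ?_)))
    have h := (W.subgroupOf F.T1).card_mul_index
    rw [Nat.card_congr (subgroupOfEquivOfLe hW).toEquiv, F.card_T1 hS, hk] at h
    show (W.subgroupOf F.T1).index = 2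
    nlinarith
  · exact Or.inr (Or.inl (Subgroup.eq_of_le_of_card_ge hW (by rw [F.card_T1 hS, hk]; omega)))

/-- When the odd group moves the centre, the fixed points centralise it. -/
theorem conj_Zt_eq (h4 : Nat.card F.Zt ≤ 4) {a : MulAut T} (ha : a ∈ F.A) {z₀ : T}
    (hz₀ : z₀ ∈ F.Zt) (hmove : a z₀ ≠ z₀) {c : T} (hc : c ∈ F.C) :
    ∀ z ∈ F.Zt, c * z * c⁻¹ = z := by
  intro z hz
  by_contra hne
  have hpow := PGroups.NoSCNThree.odd_pow_eq_one ha
  have hfix : ∀ w ∈ F.Zt, a w = w → w = 1 := fun w hw hwf => by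
    by_contra hw1
    exact hmove (PGroups.NoSCNThree.fix_of_card_four F.oddA hpow h4
      (fun _ h => F.map_Zt ha h) hw hw1 hwf hz₀)
  have hz1 : z ≠ 1 := fun h => hne (by rw [h]; group)
  have haz : a z ≠ z := fun h => hz1 (hfix z hz h)
  have ha2 : a (a z) ≠ z := fun h => haz (PGroups.NoSCNThree.pow_odd_fix F.oddA hpow h)
  have hmem : c * z * c⁻¹ = a z ∨ c * z * c⁻¹ = a (a z) := by
    classical
    by_contra hcon
    rw [not_or] at hcon
    have haa : a z ≠ a (a z) := fun h => haz (a.injective h).symm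
    have h1 : a z ≠ 1 := fun h => hz1 (a.injective (h.trans (map_one a).symm))
    have h2 : a (a z) ≠ 1 := fun h => h1 (a.injective (h.trans (map_one a).symm))
    have h3 : c * z * c⁻¹ ≠ 1 := fun h => hz1 (conj_eq_one_iff.1 h)
    have hsub : ({1, z, a z, a (a z), c * z * c⁻¹} : Finset T) ⊆
        (Set.toFinite (F.Zt : Set T)).toFinset := by
      intro w hw
      simp only [Finset.mem_insert, Finset.mem_singleton] at hw
      rw [Set.Finite.mem_toFinset]
      rcases hw with rfl | rfl | rfl | rfl | rfl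
      exacts [one_mem _, hz, F.map_Zt ha hz, F.map_Zt ha (F.map_Zt ha hz), F.Zt_conj c hz]
    have hcard := Finset.card_le_card hsub
    rw [← Nat.card_eq_card_finite_toFinset] at hcard
    simp [hz1.symm, h1.symm, h2.symm, h3.symm, haz.symm, ha2.symm, Ne.symm hne, haa,
      Ne.symm hcon.1, Ne.symm hcon.2] at hcard
    change _ ≤ Nat.card F.Zt at hcard
    omega
  obtain ⟨i, hi, hci⟩ : ∃ i : ℕ, (i = 1 ∨ i = 2) ∧ c * z * c⁻¹ = (a ^ i) z := by
    rcases hmem with h | h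
    · exact ⟨1, Or.inl rfl, by rw [pow_one]; exact h⟩
    · exact ⟨2, Or.inr rfl, by rw [pow_two]; exact h⟩
  have hcomm : ∀ (j : ℕ) (w : T), (a ^ j) (c * w * c⁻¹) = c * (a ^ j) w * c⁻¹ := fun j w =>
    F.map_conjC (pow_mem ha j) hc w
  have hiter : ∀ j : ℕ, c ^ j * z * (c ^ j)⁻¹ = (a ^ (i * j)) z := by
    intro j
    induction j with
    | zero => simp
    | succ j ih =>
      calc c ^ (j + 1) * z * (c ^ (j + 1))⁻¹ = c * (c ^ j * z * (c ^ j)⁻¹) * c⁻¹ := by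
            rw [pow_succ']; group
        _ = (a ^ (i * j)) (c * z * c⁻¹) := by rw [ih, hcomm]
        _ = (a ^ (i * (j + 1))) z := by rw [hci, ← MulAut.mul_apply, ← pow_add, mul_add, mul_one]
  obtain ⟨m, hm⟩ := F.isP c
  have hstab : (a ^ (i * 2 ^ m)) z = z := by rw [← hiter, hm]; group
  have hcop : (i * 2 ^ m).Coprime (orderOf a) := by
    have h2 : Nat.Coprime 2 (orderOf a) := Nat.coprime_two_left.2
      (F.oddA.of_dvd_nat (orderOf_dvd_of_pow_eq_one hpow))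
    rcases hi with rfl | rfl
    · rw [one_mul]; exact h2.pow_left m
    · exact Nat.Coprime.mul_left h2 (h2.pow_left m)
  obtain ⟨r, hr⟩ := exists_pow_eq_self_of_coprime hcop
  apply haz
  conv_lhs => rw [← hr]
  clear hr
  induction r with
  | zero => simp
  | succ r ih => rw [pow_succ, MulAut.mul_apply, hstab, ih]

/-- Fixed points trivial on `T₁` modulo the centre lie in `T₁`. -/
theorem kernel_le (hS : SpecialSixteen F.T1) {c : T} (hc : c ∈ F.C)
    (hK : ∀ x ∈ F.T1, x⁻¹ * (c * x * c⁻¹) ∈ F.Zt) : c ∈ F.T1 := by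
  by_cases hA : ∀ a ∈ F.A, ∀ z ∈ F.Zt, a z = z
  · refine F.centC_le hS fun x hx => ?_
    haveI : (⊥ : Subgroup T).Normal := inferInstance
    have h : F.T1 ≤ F.devSub ⊥ c := by
      conv_lhs => rw [← F.gen]
      rw [closure_le]
      rintro _ ⟨a, ha, y, hy, rfl⟩
      refine ⟨mul_mem (inv_mem hy) (F.map_T1 a ha y hy), ?_⟩
      rw [mem_bot, dev_mul]
      have hay := F.map_T1 a ha y hy
      rw [← F.map_dev ha hc, hA a ha _ (hK y hy),
        (show (y⁻¹)⁻¹ * (c * y⁻¹ * c⁻¹) = y * (y⁻¹ * (c * y * c⁻¹))⁻¹ * y⁻¹ by group),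
        (F.Zt_commute (inv_mem (hK y hy)) hy).eq, mul_inv_cancel_right, mul_assoc (a y)⁻¹,
        ← (F.Zt_commute (inv_mem (hK y hy)) hay).eq, inv_mul_cancel_left, inv_mul_cancel]
    have := (h hx).2
    rw [mem_bot, inv_mul_eq_one] at this
    exact eq_mul_inv_iff_mul_eq.1 this
  push Not at hA
  obtain ⟨a, ha, z₀, hz₀, hmove⟩ := hA
  have h4 : Nat.card F.Zt ≤ 4 := by
    rw [F.card_Zt]; rcases hS.card with h | h <;> omega
  have hcent : ∀ d ∈ F.C, ∀ z ∈ F.Zt, d * z * d⁻¹ = z := fun d hd =>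
    F.conj_Zt_eq h4 ha hz₀ hmove hd
  have hXC : ∀ d ∈ F.C, d ∈ F.T1 → d = 1 := by
    intro d hd hdX
    have hdZ := F.mem_Zt_of_fixed hS hdX fun b hb => by
      rw [F.fixC hb hd, inv_mul_cancel]; exact one_mem _
    by_contra hd1
    exact hmove (PGroups.NoSCNThree.fix_of_card_four F.oddA
      (PGroups.NoSCNThree.odd_pow_eq_one ha) h4 (fun _ h => F.map_Zt ha h) hdZ hd1
      (F.fixC ha hd) hz₀)
  let K : Subgroup T :=
    { carrier := {d | d ∈ F.C ∧ ∀ x ∈ F.T1, x⁻¹ * (d * x * d⁻¹) ∈ F.Zt}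
      one_mem' := ⟨one_mem _, fun x _ => by simp⟩
      mul_mem' := by
        rintro d e ⟨hd, hd'⟩ ⟨he, he'⟩
        refine ⟨mul_mem hd he, fun x hx => ?_⟩
        rw [show x⁻¹ * (d * e * x * (d * e)⁻¹) =
          x⁻¹ * (d * x * d⁻¹) * (d * (x⁻¹ * (e * x * e⁻¹)) * d⁻¹) by group]
        exact mul_mem (hd' x hx) (F.Zt_conj d (he' x hx))
      inv_mem' := by
        rintro d ⟨hd, hd'⟩
        refine ⟨inv_mem hd, fun x hx => ?_⟩
        have := F.Zt_conj d⁻¹ (inv_mem (hd' x hx))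
        convert this using 1
        group }
  by_contra hcX
  have hsqK : ∀ d ∈ K, d ^ 2 = 1 := fun d hd => by
    refine hXC _ (pow_mem hd.1 2) (F.centC_le hS fun x hx => ?_)
    set f := x⁻¹ * (d * x * d⁻¹) with hf
    have hfz : d * f * d⁻¹ = f := hcent d hd.1 f (hd.2 x hx)
    have hf2 : f * f = 1 := by rw [← pow_two]; exact F.sq_Zt hS (hd.2 x hx)
    have : d ^ 2 * x * (d ^ 2)⁻¹ = x := by
      calc d ^ 2 * x * (d ^ 2)⁻¹ = d * (x * f) * d⁻¹ := by rw [hf, pow_two]; group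
        _ = x * f * (d * f * d⁻¹) := by rw [hf]; group
        _ = x := by rw [hfz, mul_assoc, hf2, mul_one]
    exact (mul_inv_eq_iff_eq_mul.1 this).symm
  haveI : (K.subgroupOf F.C).Normal := by
    refine ⟨fun k hk g => ?_⟩
    rw [mem_subgroupOf] at hk ⊢
    push_cast
    refine ⟨mul_mem (mul_mem g.2 hk.1) (inv_mem g.2), fun x hx => ?_⟩
    have := F.Zt_conj (g : T) (hk.2 _ (F.conj_mem_T1 (g : T)⁻¹ hx))
    convert this using 1
    group
  haveI : Fact (Nat.Prime 2) := ⟨Nat.prime_two⟩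
  have hne : K.subgroupOf F.C ≠ ⊥ := fun h => hcX (by
    have : (⟨c, hc⟩ : F.C) ∈ K.subgroupOf F.C := ⟨hc, hK⟩
    rw [h, mem_bot] at this
    rw [show c = 1 from congrArg Subtype.val this]
    exact one_mem _)
  obtain ⟨⟨⟨u, huC⟩, huK, huZ⟩, hu1⟩ :=
    ne_bot_iff_exists_ne_one.1 (PGroups.inf_center_ne_bot (F.isP.to_subgroup F.C) hne)
  replace huK : u ∈ K := huK
  haveI := F.Zt_normal
  haveI := F.normal
  have huCx : ∀ t : T, t * u * t⁻¹ * u⁻¹ ∈ F.Zt := by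
    intro t
    obtain ⟨x, hx, d, hd, rfl⟩ := mem_sup_of_normal_left.1 (F.sup_eq ▸ mem_top t)
    have hdu : d * u = u * d := congrArg Subtype.val (mem_center_iff.1 huZ ⟨d, hd⟩)
    rw [show x * d * u * (x * d)⁻¹ * u⁻¹ = x * ((d * u) * d⁻¹ * x⁻¹ * u⁻¹) by group, hdu,
      show x * ((u * d) * d⁻¹ * x⁻¹ * u⁻¹) = (x⁻¹)⁻¹ * (u * x⁻¹ * u⁻¹) by group]
    exact huK.2 _ (inv_mem hx)
  have huZt : u ∈ F.Zt := by
    refine PGroups.NoSCNThree.mem_of_involution F.noE8 ⟨⟨fun p q => Subtype.ext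
      ((F.Zt_commute q.2 (F.Zt_le p.2)).eq)⟩⟩ (fun e he => F.sq_Zt hS he) ?_ (hsqK u huK)
      (fun e he => (mul_inv_eq_iff_eq_mul.1 (hcent u huC e he)).symm) huCx
    -- the moved centre is a four-group
    rw [F.card_Zt]
    rcases hS.card with h | h
    · exfalso
      have hz1 : z₀ ≠ 1 := fun e => hmove (by rw [e, map_one])
      rw [← F.card_Zt, Nat.card_eq_two_iff' (⟨1, one_mem _⟩ : F.Zt)] at h
      have := h.unique (y₁ := (⟨z₀, hz₀⟩ : F.Zt)) (y₂ := ⟨a z₀, F.map_Zt ha hz₀⟩)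
        (fun e => hz1 (congrArg Subtype.val e))
        (fun e => hz1 (a.injective ((congrArg Subtype.val e).trans (map_one a).symm)))
      exact hmove (congrArg Subtype.val this).symm
    · omega
  exact hu1 (Subtype.ext (Subtype.ext (hXC u huC (F.Zt_le huZt))))

end CfsgLib.NormalRankTwo.Frame
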