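import Cfsg.Agent.Lib.Transfer.Fusion
import Cfsg.Agent.S0215

/-!
# Moving a centraliser into the Sylow subgroup
-/

set_option autoImplicit false

namespace CfsgLib.NormalRankTwo

open Subgroup

variable {G : Type*} [Group G] [Finite G]

/-- If `z` is central in `T` and conjugate to `t`, some element moves `t` to `z` and the centraliser
of `t` in `T` into `T`. -/
theorem exists_conj_into (T : Sylow 2 G) {t z g₀ : G} (hg₀ : g₀ * t * g₀⁻¹ = z)
    (hz : ∀ x ∈ (T : Subgroup G), x * z = z * x) :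
    ∃ g : G, g * t * g⁻¹ = z ∧
      ∀ x ∈ (T : Subgroup G), x * t = t * x → g * x * g⁻¹ ∈ (T : Subgroup G) := by
  haveI : Fact (Nat.Prime 2) := ⟨Nat.prime_two⟩
  have hTK : (T : Subgroup G) ≤ centralizer ({z} : Set G) := fun x hx =>
    mem_centralizer_singleton_iff.2 (hz x hx)
  obtain ⟨k, hk, hkT⟩ := CfsgLib.Transfer.exists_conj_le_of_isPGroup (p := 2) T.isPGroup'
    (K := centralizer ({z} : Set G)) hTK
    (fun hd => T.not_dvd_index (hd.trans (Dvd.intro _ (relIndex_mul_index hTK))))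
    (V := ((T : Subgroup G) ⊓ centralizer ({t} : Set G)).map (MulAut.conj g₀).toMonoidHom)
    ((T.isPGroup'.to_le inf_le_left).map _)
    (by
      rintro _ ⟨x, hx, rfl⟩
      rw [mem_centralizer_singleton_iff, MulEquiv.coe_toMonoidHom, MulAut.conj_apply]
      have h := mem_centralizer_singleton_iff.1 hx.2
      calc g₀ * x * g₀⁻¹ * z = g₀ * x * g₀⁻¹ * (g₀ * t * g₀⁻¹) := by rw [hg₀]
        _ = g₀ * (x * t) * g₀⁻¹ := by group
        _ = g₀ * (t * x) * g₀⁻¹ := by rw [h]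
        _ = (g₀ * t * g₀⁻¹) * (g₀ * x * g₀⁻¹) := by group
        _ = z * (g₀ * x * g₀⁻¹) := by rw [hg₀])
  refine ⟨k⁻¹ * g₀, ?_, fun x hx hxt => ?_⟩
  · have h := mem_centralizer_singleton_iff.1 hk
    calc k⁻¹ * g₀ * t * (k⁻¹ * g₀)⁻¹ = k⁻¹ * (g₀ * t * g₀⁻¹) * k := by group
      _ = k⁻¹ * (z * k) := by rw [hg₀, mul_assoc]
      _ = z := by rw [← h]; group
  · have h := hkT _ ⟨x, ⟨hx, mem_centralizer_singleton_iff.2 hxt⟩, rfl⟩
    rw [MulEquiv.coe_toMonoidHom, MulAut.conj_apply] at h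
    have e : k⁻¹ * g₀ * x * (k⁻¹ * g₀)⁻¹ = k⁻¹ * (g₀ * x * g₀⁻¹) * k := by group
    rwa [e]

/-- An involution of a simple group is not isolated. -/
theorem exists_conj_ne [IsSimpleGroup G] (hna : ¬ IsMulCommutative G) (T : Sylow 2 G) {z : G}
    (hzT : z ∈ T) (hz : orderOf z = 2) :
    ∃ g : G, g * z * g⁻¹ ∈ T ∧ g * z * g⁻¹ ≠ z := by
  by_contra h
  push Not at h
  obtain ⟨N, hN, hodd, hmem⟩ := Cfsg.Agent.S0215.result T z hz hzT h
  rcases hN.eq_bot_or_eq_top with rfl | rfl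
  · have hc : z ∈ center G := Subgroup.mem_center_iff.2 fun g => by
      have h1 : z * g * z⁻¹ * g⁻¹ = 1 := Subgroup.mem_bot.1 (hmem g)
      calc g * z = (z * g * z⁻¹ * g⁻¹) * g * z := by rw [h1, one_mul]
        _ = z * g := by group
    rcases (inferInstance : (center G).Normal).eq_bot_or_eq_top with hb | ht
    · rw [hb, Subgroup.mem_bot] at hc
      rw [hc, orderOf_one] at hz
      omega
    · exact hna ⟨⟨fun a b => (Subgroup.mem_center_iff.1 (ht ▸ mem_top b) a)⟩⟩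
  · rw [Nat.card_congr topEquiv.toEquiv] at hodd
    exact Nat.not_even_iff_odd.2 hodd (even_iff_two_dvd.2 (hz ▸ orderOf_dvd_natCard z))

end CfsgLib.NormalRankTwo
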