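import Mathlib
import Cfsg.Prelude.Def_Transfer
import Cfsg.Agent.Lib.PGroups.NoSCNThree.Basic
import Cfsg.Agent.Lib.PGroups.MacWilliams.Main

/-!
# Sylow two-subgroups of normal rank two with an extra normaliser: interface
-/

set_option autoImplicit false
set_option linter.unusedSectionVars false

universe u

namespace CfsgLib.NormalRankTwo

open Subgroup

/-- Every subgroup has Frattini index at most sixteen. -/
def RankFour (X : Type*) [Group X] : Prop :=
  ∀ H : Subgroup X, (frattini H).index ≤ 16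

/-- Every characteristic elementary abelian subgroup has order at most four. -/
def CharE8 (X : Type*) [Group X] : Prop :=
  ∀ N : Subgroup X, N.Characteristic → IsMulCommutative N → (∀ x ∈ N, x ^ 2 = 1) → Nat.card N ≤ 4

/-- The decomposition `T = T₁ C` given by an odd group of automorphisms. -/
structure Frame (T : Type*) [Group T] where
  isP : IsPGroup 2 T
  twoGen : ∀ A : Subgroup T, A.Normal → IsMulCommutative A → ∃ a b : T, closure {a, b} = A
  noE8 : CfsgLib.PGroups.NoSCNThree.NoE8 T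
  A : Subgroup (MulAut T)
  oddA : Odd (Nat.card A)
  T1 : Subgroup T
  C : Subgroup T
  normal : T1.Normal
  map_T1 : ∀ a ∈ A, ∀ x ∈ T1, a x ∈ T1
  mem_C : ∀ c, c ∈ C ↔ ∀ a ∈ A, a c = c
  sup_eq : T1 ⊔ C = ⊤
  gen : closure {g : T | ∃ a ∈ A, ∃ x ∈ T1, g = x⁻¹ * a x} = T1
  ne_bot : T1 ≠ ⊥

namespace Frame

variable {T : Type*} [Group T] (F : Frame T)

instance : F.T1.Normal := F.normal

include F in
theorem rankFour [Finite T] : RankFour T := fun H =>
  CfsgLib.PGroups.MacWilliams.index_frattini_le_sixteen (H := H) F.isP F.noE8 H.subtype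
    H.subtype_injective

theorem rankFour_T1 [Finite T] : RankFour F.T1 := fun H =>
  CfsgLib.PGroups.MacWilliams.index_frattini_le_sixteen (H := H) F.isP F.noE8
    (F.T1.subtype.comp H.subtype) (F.T1.subtype_injective.comp H.subtype_injective)

theorem mem_inv {a : MulAut T} (ha : a ∈ F.A) {x : T} : a x ∈ F.T1 ↔ x ∈ F.T1 := by
  refine ⟨fun h => ?_, F.map_T1 a ha x⟩
  have := F.map_T1 a⁻¹ (inv_mem ha) _ h
  rwa [MulAut.inv_def, MulEquiv.symm_apply_apply] at this

/-- The action of the odd group on `T₁`. -/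
def act : F.A →* MulAut F.T1 where
  toFun a :=
    { toFun := fun x => ⟨(a : MulAut T) (x : T), F.map_T1 a a.2 x x.2⟩
      invFun := fun x => ⟨(a : MulAut T).symm (x : T), by
        rw [← F.mem_inv a.2, MulEquiv.apply_symm_apply]; exact x.2⟩
      left_inv := fun x => Subtype.ext ((a : MulAut T).symm_apply_apply (x : T))
      right_inv := fun x => Subtype.ext ((a : MulAut T).apply_symm_apply (x : T))
      map_mul' := fun x y => Subtype.ext (map_mul (a : MulAut T) (x : T) (y : T)) }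
  map_one' := by ext x; rfl
  map_mul' a b := by ext x; rfl

/-- The group of automorphisms induced on `T₁`. -/
def A1 : Subgroup (MulAut F.T1) := F.act.range

theorem odd_A1 : Odd (Nat.card F.A1) :=
  F.oddA.of_dvd_nat (Subgroup.card_range_dvd F.act)

theorem A1_gen : closure {g : F.T1 | ∃ φ ∈ F.A1, ∃ x : F.T1, g = x⁻¹ * φ x} = ⊤ := by
  apply map_injective F.T1.subtype_injective
  rw [MonoidHom.map_closure, ← MonoidHom.range_eq_map, range_subtype]
  conv_rhs => rw [← F.gen]
  congr 1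
  ext g
  constructor
  · rintro ⟨_, ⟨_, ⟨a, rfl⟩, x, rfl⟩, rfl⟩
    exact ⟨a, a.2, x, x.2, rfl⟩
  · rintro ⟨a, ha, x, hx, rfl⟩
    exact ⟨_, ⟨F.act ⟨a, ha⟩, ⟨_, rfl⟩, ⟨x, hx⟩, rfl⟩, rfl⟩

theorem charE8_T1 : CharE8 F.T1 := by
  intro N hN hab h2
  have := hN
  rw [Nat.card_congr (N.equivMapOfInjective F.T1.subtype F.T1.subtype_injective).toEquiv]
  refine F.noE8 _ inferInstance ⟨⟨?_⟩⟩ ?_
  · rintro ⟨_, a, ha, rfl⟩ ⟨_, b, hb, rfl⟩
    exact Subtype.ext (congrArg (fun z : N => ((z : F.T1) : T))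
      (hab.is_comm.comm ⟨a, ha⟩ ⟨b, hb⟩) :)
  · rintro _ ⟨a, ha, rfl⟩
    exact congrArg Subtype.val (h2 a ha)

end Frame

/-- The extra structure when `T₁` is homocyclic and the fixed subgroup is not trivial. -/
structure Twisted {T : Type*} [Group T] (F : Frame T) : Prop where
  homo : ∃ n, 3 ≤ n ∧ Nonempty (F.T1 ≃* Multiplicative (ZMod (2 ^ n) × ZMod (2 ^ n)))
  disjoint : F.T1 ⊓ F.C = ⊥
  cyclic : ∃ c, c ≠ 1 ∧ zpowers c = F.C
  central : ∀ e ∈ F.T1, e ^ 2 = 1 → ∀ t : T, t * e = e * t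
  fixed : ∀ u ∈ F.C, u ^ 2 = 1 → u ≠ 1 → ∀ y ∈ F.T1, u * y = y * u → y ^ 2 = 1
  inverts : ∀ u ∈ F.C, u ^ 2 = 1 → u ≠ 1 → ∀ y ∈ F.T1, y ^ 4 = 1 → u * y * u⁻¹ = y⁻¹

/-- A special group with central quotient of order sixteen. -/
structure SpecialSixteen (X : Type*) [Group X] : Prop where
  isSpecial : Cfsg.IsSpecial 2 X
  sq : ∀ z ∈ center X, z ^ 2 = 1
  index : (center X).index = 16
  card : Nat.card (center X) = 2 ∨ Nat.card (center X) = 4

/-- The frame is invariant under the normaliser in the ambient group. -/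
def NormalizerInv {G : Type*} [Group G] {T : Sylow 2 G} (F : Frame ↥T) : Prop :=
  ∀ g ∈ Subgroup.normalizer ((T : Subgroup G) : Set G), ∀ x y : ↥T,
    (y : G) = g * (x : G) * g⁻¹ → x ∈ F.T1 → y ∈ F.T1

/-- Piece one: the classes of `T₁`. -/
def SpecialClassesStmt : Prop :=
  ∀ (X : Type u) [Group X] [Finite X], IsPGroup 2 X → CharE8 X → RankFour X →
    ¬ IsMulCommutative X → ∀ A : Subgroup (MulAut X), Odd (Nat.card A) →
    closure {g : X | ∃ φ ∈ A, ∃ x : X, g = x⁻¹ * φ x} = ⊤ →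
    Nonempty (X ≃* QuaternionGroup 2) ∨ SpecialSixteen X

/-- Piece two: existence of the frame. -/
def FrameStmt : Prop :=
  ∀ (G : Type u) [Group G] [Finite G] (T : Sylow 2 G),
    (∀ A : Subgroup ↥T, A.Normal → IsMulCommutative A → ∃ a b : ↥T, closure {a, b} = A) →
    ¬ Subgroup.normalizer ((T : Subgroup G) : Set G) ≤
      (T : Subgroup G) ⊔ Subgroup.centralizer ((T : Subgroup G) : Set G) →
    ∃ F : Frame ↥T, NormalizerInv F

/-- Piece three: `T₁` is not a quaternion group. -/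
def QuaternionStmt : Prop :=
  ∀ (G : Type u) [Group G] [Finite G] [IsSimpleGroup G], ¬ IsMulCommutative G →
    ∀ (T : Sylow 2 G) (F : Frame ↥T), NormalizerInv F →
      Nonempty (F.T1 ≃* QuaternionGroup 2) → False

/-- Piece four: the order when `T₁` is special. -/
def BoundStmt : Prop :=
  ∀ (T : Type u) [Group T] [Finite T] (F : Frame T), SpecialSixteen F.T1 →
    Nat.card T = 32 ∨ Nat.card T = 64 ∨ Nat.card T = 128

/-- Piece five: the extraspecial group of order thirty-two does not occur. -/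
def ThirtyTwoStmt : Prop :=
  ∀ (G : Type u) [Group G] [Finite G] [IsSimpleGroup G], ¬ IsMulCommutative G →
    ∀ (T : Sylow 2 G) (F : Frame ↥T), SpecialSixteen F.T1 → Nat.card ↥T = 32 → False

/-- Piece six: abelian `T₁`. -/
def HomocyclicStmt : Prop :=
  ∀ (T : Type u) [Group T] [Finite T] (F : Frame T), IsMulCommutative F.T1 →
    (F.C = ⊥ ∧ ∃ n, 1 ≤ n ∧ Nonempty (F.T1 ≃* Multiplicative (ZMod (2 ^ n) × ZMod (2 ^ n)))) ∨
      Twisted F

/-- Piece seven: the twisted homocyclic case does not occur. -/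
def TwistedStmt : Prop :=
  ∀ (G : Type u) [Group G] [Finite G] [IsSimpleGroup G], ¬ IsMulCommutative G →
    ∀ (T : Sylow 2 G) (F : Frame ↥T), Twisted F → False

end CfsgLib.NormalRankTwo
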