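import Cfsg.Agent.Lib.NormalRankTwo.Defs
import Cfsg.Agent.Lib.Coprime.Action

/-!
# The frame given by a complement of `T` in its normaliser
-/

set_option autoImplicit false

universe u

namespace CfsgLib.NormalRankTwo

open Subgroup
open scoped commutatorElement

theorem noE8_of_twoGen {T : Type*} [Group T]
    (hd2 : ∀ A : Subgroup T, A.Normal → IsMulCommutative A → ∃ a b : T, closure {a, b} = A) :
    CfsgLib.PGroups.NoSCNThree.NoE8 T := by
  intro N hN hab h2
  obtain ⟨a, b, hab'⟩ := hd2 N hN hab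
  have ha : a ∈ N := hab' ▸ subset_closure (Or.inl rfl)
  have hb : b ∈ N := hab' ▸ subset_closure (Or.inr rfl)
  have hc : ∀ x ∈ N, ∀ y ∈ N, Commute x y := fun x hx y hy =>
    congrArg Subtype.val (hab.is_comm.comm ⟨x, hx⟩ ⟨y, hy⟩)
  have key : ∀ x ∈ closure ({a, b} : Set T), ∃ i j : ℕ, x = a ^ i * b ^ j := by
    intro x hx
    induction hx using closure_induction with
    | mem x h =>
      rcases h with rfl | rfl
      · exact ⟨1, 0, by simp⟩
      · exact ⟨0, 1, by simp⟩
    | one => exact ⟨0, 0, by simp⟩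
    | mul x y _ _ hx hy =>
      obtain ⟨i, j, rfl⟩ := hx
      obtain ⟨k, l, rfl⟩ := hy
      exact ⟨i + k, j + l, by
        rw [pow_add, pow_add, mul_assoc, ← mul_assoc (b ^ j),
          (hc _ (pow_mem hb j) _ (pow_mem ha k)).eq, mul_assoc, mul_assoc]⟩
    | inv x _ hx =>
      obtain ⟨i, j, rfl⟩ := hx
      refine ⟨i, j, inv_eq_of_mul_eq_one_right ?_⟩
      rw [← pow_two]
      exact h2 _ (mul_mem (pow_mem ha i) (pow_mem hb j))
  have hmod : ∀ (x : T), x ∈ N → ∀ i : ℕ, x ^ i = x ^ (i % 2) := fun x hx i => by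
    conv_lhs => rw [← Nat.mod_add_div i 2, pow_add, pow_mul, h2 x hx, one_pow, mul_one]
  let f : Fin 2 × Fin 2 → N := fun p =>
    ⟨a ^ (p.1 : ℕ) * b ^ (p.2 : ℕ), mul_mem (pow_mem ha _) (pow_mem hb _)⟩
  have hf : Function.Surjective f := fun x => by
    obtain ⟨i, j, h⟩ := key x (hab' ▸ x.2)
    exact ⟨(⟨i % 2, Nat.mod_lt _ two_pos⟩, ⟨j % 2, Nat.mod_lt _ two_pos⟩), Subtype.ext (by
      show a ^ (i % 2) * b ^ (j % 2) = (x : T)
      rw [← hmod a ha, ← hmod b hb, h])⟩
  exact (Nat.card_le_card_of_surjective f hf).trans (by simp)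

/-- Piece two. -/
theorem frame : FrameStmt.{u} := by
  intro G _ _ T hd2 hN
  have : Fact (Nat.Prime 2) := ⟨Nat.prime_two⟩
  set N := Subgroup.normalizer ((T : Subgroup G) : Set G) with hNdef
  have hTN : (T : Subgroup G) ≤ N := Subgroup.le_normalizer
  obtain ⟨n, hn⟩ := IsPGroup.iff_card.1 T.isPGroup'
  have hidx : ¬ 2 ∣ ((T : Subgroup G).subgroupOf N).index := fun h =>
    T.not_dvd_index (h.trans (Dvd.intro _ (relIndex_mul_index hTN)))
  obtain ⟨K', hK'⟩ :=
    Subgroup.exists_right_complement'_of_coprime (N := (T : Subgroup G).subgroupOf N) (by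
      rw [Nat.card_congr (subgroupOfEquivOfLe hTN).toEquiv, hn]
      exact Nat.Coprime.pow_left n ((Nat.prime_two.coprime_iff_not_dvd).2 hidx))
  set K := K'.map N.subtype with hK
  have hKN : K ≤ N := map_subtype_le _
  have hoddK : Odd (Nat.card K) := by
    rw [hK, ← Nat.card_congr (K'.equivMapOfInjective N.subtype N.subtype_injective).toEquiv,
      ← hK'.symm.index_eq_card]
    exact Nat.not_even_iff_odd.1 fun h => hidx (even_iff_two_dvd.1 h)
  have hcop : (Nat.card K).Coprime (Nat.card (T : Subgroup G)) := by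
    rw [hn]; exact (Nat.coprime_two_right.2 hoddK).pow_right n
  have hsolv : Group.IsSolvable K ∨ Group.IsSolvable (T : Subgroup G) :=
    Or.inr (haveI := T.isPGroup'.isNilpotent; inferInstance)
  have hfac : ∀ g ∈ N, ∃ t ∈ (T : Subgroup G), ∃ k ∈ K, g = t * k := fun g hg => by
    have hmem : (⟨g, hg⟩ : N) ∈ (T : Subgroup G).subgroupOf N ⊔ K' := hK'.sup_eq_top ▸ mem_top _
    obtain ⟨t, ht, k, hk, h⟩ := mem_sup_of_normal_left.1 hmem
    exact ⟨t, ht, k, ⟨k, hk, rfl⟩, (congrArg Subtype.val h).symm⟩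
  have hconj : ∀ k ∈ K, ∀ x ∈ (T : Subgroup G), k * x * k⁻¹ ∈ (T : Subgroup G) := fun k hk x hx =>
    (Subgroup.mem_normalizer_iff.1 (hKN hk) x).1 hx
  let act : K →* MulAut ↥T :=
    { toFun := fun k =>
        { toFun := fun x => ⟨(k : G) * x * (k : G)⁻¹, hconj k k.2 x x.2⟩
          invFun := fun x => ⟨(k : G)⁻¹ * x * (k : G), by
            have h := hconj (k : G)⁻¹ (inv_mem k.2) x x.2
            rwa [inv_inv] at h⟩
          left_inv := fun x => Subtype.ext (by simp [mul_assoc])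
          right_inv := fun x => Subtype.ext (by simp [mul_assoc])
          map_mul' := fun x y => Subtype.ext (by simp [mul_assoc]) }
      map_one' := by ext x; simp
      map_mul' := fun a b => by ext x; simp [mul_assoc] }
  have hact : ∀ (k : K) (x : ↥T), (act k x : G) = (k : G) * x * (k : G)⁻¹ := fun _ _ => rfl
  set D := ⁅(T : Subgroup G), K⁆ with hD
  have hDT : D ≤ (T : Subgroup G) := CfsgLib.Coprime.commutator_le_of_le_normalizer hKN
  have hDN : N ≤ Subgroup.normalizer (D : Set G) := fun g hg => by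
    obtain ⟨t, ht, k, hk, rfl⟩ := hfac g hg
    exact mul_mem (Subgroup.normalizer_commutator_ge_left _ _ ht)
      (Subgroup.normalizer_commutator_ge_right _ _ hk)
  refine ⟨{ isP := T.isPGroup'
            twoGen := hd2
            noE8 := noE8_of_twoGen hd2
            A := act.range
            oddA := hoddK.of_dvd_nat (card_range_dvd act)
            T1 := D.subgroupOf (T : Subgroup G)
            C := (centralizer (K : Set G)).subgroupOf (T : Subgroup G)
            normal := ?_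
            map_T1 := ?_
            mem_C := ?_
            sup_eq := ?_
            gen := ?_
            ne_bot := ?_ }, ?_⟩
  · exact ⟨fun x hx g => (Subgroup.mem_normalizer_iff.1 (hDN (hTN g.2)) (x : G)).1 hx⟩
  · rintro _ ⟨k, rfl⟩ x hx
    exact (Subgroup.mem_normalizer_iff.1 (hDN (hKN k.2)) (x : G)).1 hx
  · intro c
    rw [mem_subgroupOf, mem_centralizer_iff]
    constructor
    · rintro h _ ⟨k, rfl⟩
      exact Subtype.ext (by rw [hact, h k k.2, mul_inv_cancel_right])
    · intro h k hk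
      have h' := congrArg Subtype.val (h _ ⟨⟨k, hk⟩, rfl⟩)
      rw [hact] at h'
      calc k * (c : G) = k * c * k⁻¹ * k := by group
        _ = c * k := by rw [h']
  · refine eq_top_iff.2 fun x _ => ?_
    obtain ⟨c, hc, h⟩ :=
      CfsgLib.Coprime.exists_commutator_mul_centralizer hKN hcop hsolv x.2
    have e : x = (⟨(x : G) * c⁻¹, hDT h⟩ : ↥T) * ⟨c, hc.1⟩ := Subtype.ext (by simp)
    rw [e]
    exact mul_mem_sup h hc.2
  · refine le_antisymm ?_ ?_
    · rw [closure_le]
      rintro _ ⟨_, ⟨k, rfl⟩, x, hx, rfl⟩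
      exact mul_mem (inv_mem hx) ((Subgroup.mem_normalizer_iff.1 (hDN (hKN k.2)) (x : G)).1 hx)
    · intro y hy
      have hDD : ⁅D, K⁆ = D := CfsgLib.Coprime.commutator_commutator_eq hKN hcop hsolv
      rw [mem_subgroupOf, ← hDD] at hy
      have hle : ⁅D, K⁆ ≤ (closure {g : ↥T | ∃ a ∈ act.range, ∃ x ∈ D.subgroupOf (T : Subgroup G),
          g = x⁻¹ * a x}).map (T : Subgroup G).subtype := by
        refine commutator_le.2 fun d hd k hk => ?_
        refine ⟨(⟨d, hDT hd⟩ : ↥T) * act ⟨k, hk⟩ (⟨d, hDT hd⟩)⁻¹, subset_closure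
          ⟨_, ⟨⟨k, hk⟩, rfl⟩, (⟨d, hDT hd⟩)⁻¹, inv_mem (show (⟨d, hDT hd⟩ : ↥T) ∈ _ from hd),
            by rw [inv_inv]⟩, ?_⟩
        show d * (k * d⁻¹ * k⁻¹) = ⁅d, k⁆
        rw [commutatorElement_def]; group
      obtain ⟨w, hw, hwy⟩ := hle hy
      rwa [← Subtype.ext hwy]
  · intro h
    have hbot : D = ⊥ := by
      rw [subgroupOf_eq_bot, disjoint_iff, inf_eq_left.2 hDT] at h
      exact h
    refine hN fun g hg => ?_
    obtain ⟨t, ht, k, hk, rfl⟩ := hfac g hg
    refine mul_mem (mem_sup_left ht) (mem_sup_right (mem_centralizer_iff.2 fun x hx => ?_))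
    have := commutator_mem_commutator hx hk (H₁ := (T : Subgroup G)) (H₂ := K)
    rw [← hD, hbot, Subgroup.mem_bot, commutatorElement_eq_one_iff_commute] at this
    exact this
  · intro g hg x y hy hx
    show (y : G) ∈ D
    rw [hy]
    exact (Subgroup.mem_normalizer_iff.1 (hDN hg) (x : G)).1 hx

end CfsgLib.NormalRankTwo
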