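import Cfsg.Agent.Lib.NormalRankTwo.Defs
import Cfsg.Agent.Lib.PGroups.UniqueOrderP

/-!
# The case of abelian `T₁`
-/

set_option autoImplicit false
set_option linter.unusedSectionVars false

universe u

namespace CfsgLib.NormalRankTwo

open Subgroup
open scoped commutatorElement

/-- An involution `φ`-orbit spanning the four-group of an abelian normal subgroup. -/
structure Spin {T : Type u} [Group T] (F : Frame T) where
  φ : MulAut T
  mem : φ ∈ F.A
  comm : ∀ a ∈ F.T1, ∀ b ∈ F.T1, a * b = b * a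
  e : T
  e_mem : e ∈ F.T1
  e_sq : e ^ 2 = 1
  e_ne : e ≠ 1
  moved : φ e ≠ e
  cases : ∀ x ∈ F.T1, x ^ 2 = 1 → x = 1 ∨ x = e ∨ x = φ e ∨ x = φ (φ e)

theorem exists_spin {T : Type u} [Group T] [Finite T] (F : Frame T) (hab : IsMulCommutative F.T1) :
    Nonempty (Spin F) := by
  classical
  have hcom : ∀ a ∈ F.T1, ∀ b ∈ F.T1, a * b = b * a := fun a ha b hb =>
    congrArg Subtype.val (hab.is_comm.comm ⟨a, ha⟩ ⟨b, hb⟩)
  have hX := F.isP.to_subgroup F.T1
  obtain ⟨φ, hφ, e, he, he2, hne⟩ : ∃ φ ∈ F.A, ∃ e ∈ F.T1, e ^ 2 = 1 ∧ φ e ≠ e := by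
    by_contra hno
    push Not at hno
    refine F.ne_bot ?_
    rw [← F.gen, closure_eq_bot_iff]
    rintro _ ⟨a, ha, x, hx, rfl⟩
    have h := CfsgLib.PGroups.NoSCNThree.fix_of_fix_involutions hX F.odd_A1
      (CfsgLib.PGroups.NoSCNThree.odd_pow_eq_one (⟨⟨a, ha⟩, rfl⟩ : F.act ⟨a, ha⟩ ∈ F.A1))
      (D := ⊤) ⟨⟨fun p q => Subtype.ext (hab.is_comm.comm p.1 q.1)⟩⟩ (fun _ _ => mem_top _)
      (fun d _ hd => Subtype.ext (hno a ha d d.2 (congrArg Subtype.val hd))) ⟨x, hx⟩ (mem_top _)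
    have h' : a x = x := congrArg Subtype.val h
    simp [h']
  have he1 : e ≠ 1 := fun h => hne (by rw [h, map_one])
  refine ⟨⟨φ, hφ, hcom, e, he, he2, he1, hne, fun x hx hx2 => ?_⟩⟩
  let W : Subgroup T :=
    { carrier := {b | b ∈ F.T1 ∧ b ^ 2 = 1}
      one_mem' := ⟨one_mem _, one_pow 2⟩
      mul_mem' := fun {a b} ha hb => ⟨mul_mem ha.1 hb.1, by
        rw [Commute.mul_pow (hcom a ha.1 b hb.1), ha.2, hb.2, one_mul]⟩
      inv_mem' := fun {a} ha => ⟨inv_mem ha.1, by rw [inv_pow, ha.2, inv_one]⟩ }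
  have hW : W.Normal := ⟨fun w hw g => ⟨F.normal.conj_mem w hw.1 g, by
    rw [conj_pow, hw.2, mul_one, mul_inv_cancel]⟩⟩
  have h4 := F.noE8 W hW ⟨⟨fun a b => Subtype.ext (hcom a a.2.1 b b.2.1)⟩⟩ fun _ h => h.2
  have hWφ : ∀ w ∈ W, φ w ∈ W := fun w hw =>
    ⟨F.map_T1 φ hφ w hw.1, by rw [← map_pow, hw.2, map_one]⟩
  have heW : e ∈ W := ⟨he, he2⟩
  by_contra hcon
  simp only [not_or] at hcon
  obtain ⟨h1, h2, h3, h4'⟩ := hcon
  have hodd := CfsgLib.PGroups.NoSCNThree.odd_pow_eq_one hφ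
  have q1 : φ (φ e) ≠ e := fun h => hne (CfsgLib.PGroups.NoSCNThree.pow_odd_fix F.oddA hodd h)
  have q2 : φ (φ e) ≠ φ e := fun h => hne (φ.injective h)
  have q3 : φ e ≠ 1 := fun h => he1 (φ.injective (h.trans (map_one φ).symm))
  have q4 : φ (φ e) ≠ 1 := fun h => q3 (φ.injective (h.trans (map_one φ).symm))
  have hsub : ({1, e, φ e, φ (φ e), x} : Finset T) ⊆ (Set.toFinite (W : Set T)).toFinset := by
    intro y hy
    simp only [Finset.mem_insert, Finset.mem_singleton] at hy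
    rw [Set.Finite.mem_toFinset]
    rcases hy with rfl | rfl | rfl | rfl | rfl
    exacts [one_mem _, heW, hWφ _ heW, hWφ _ (hWφ _ heW), ⟨hx, hx2⟩]
  have hcard := Finset.card_le_card hsub
  have hW' : (Set.toFinite (W : Set T)).toFinset.card = Nat.card W :=
    (Nat.card_eq_card_finite_toFinset _).symm
  simp [he1.symm, q3.symm, q4.symm, Ne.symm hne, q1.symm, q2.symm, Ne.symm h1, Ne.symm h2,
    Ne.symm h3, Ne.symm h4'] at hcard
  omega

namespace Spin

variable {T : Type u} [Group T] [Finite T] {F : Frame T} (S : Spin F)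

include S

theorem comm' {a b : T} (ha : a ∈ F.T1) (hb : b ∈ F.T1) : Commute a b := S.comm a ha b hb

theorem map_mem {x : T} (hx : x ∈ F.T1) : S.φ x ∈ F.T1 := F.map_T1 _ S.mem x hx

/-- A nontrivial involution spans the others under `φ`. -/
theorem orbit {d : T} (hd : d ∈ F.T1) (hd2 : d ^ 2 = 1) (hd1 : d ≠ 1) {x : T} (hx : x ∈ F.T1)
    (hx2 : x ^ 2 = 1) : x = 1 ∨ x = d ∨ x = S.φ d ∨ x = S.φ (S.φ d) := by
  have h3 : S.φ (S.φ (S.φ S.e)) = S.e := by
    rcases S.cases _ (S.map_mem (S.map_mem (S.map_mem S.e_mem)))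
      (by rw [← map_pow, ← map_pow, ← map_pow, S.e_sq]; simp) with h | h | h | h
    · exact absurd (S.φ.injective (S.φ.injective (S.φ.injective (h.trans (by simp :
        (1 : T) = S.φ (S.φ (S.φ 1))))))) S.e_ne
    · exact h
    · exact absurd (CfsgLib.PGroups.NoSCNThree.pow_odd_fix F.oddA
        (CfsgLib.PGroups.NoSCNThree.odd_pow_eq_one S.mem) (S.φ.injective h)) S.moved
    · exact absurd (S.φ.injective (S.φ.injective h)) S.moved
  rcases S.cases d hd hd2 with h | h | h | h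
  · exact absurd h hd1
  all_goals
    subst h
    rcases S.cases x hx hx2 with h | h | h | h <;> subst h <;> simp [h3]

theorem central (x : T) (hx : x ∈ F.T1) (hx2 : x ^ 2 = 1) (t : T) : t * x = x * t := by
  let W : Subgroup T :=
    { carrier := {b | b ∈ F.T1 ∧ b ^ 2 = 1}
      one_mem' := ⟨one_mem _, one_pow 2⟩
      mul_mem' := fun {a b} ha hb => ⟨mul_mem ha.1 hb.1, by
        rw [(S.comm' ha.1 hb.1).mul_pow, ha.2, hb.2, one_mul]⟩
      inv_mem' := fun {a} ha => ⟨inv_mem ha.1, by rw [inv_pow, ha.2, inv_one]⟩ }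
  have : W.Normal := ⟨fun w hw g => ⟨F.normal.conj_mem w hw.1 g, by
    rw [conj_pow, hw.2, mul_one, mul_inv_cancel]⟩⟩
  have : Fact (Nat.Prime 2) := ⟨Nat.prime_two⟩
  have hWne : W ≠ ⊥ := fun h => S.e_ne (Subgroup.mem_bot.1 (h ▸ (⟨S.e_mem, S.e_sq⟩ : S.e ∈ W)))
  obtain ⟨w, hw, hw1⟩ :=
    (Subgroup.bot_or_exists_ne_one _).resolve_left (CfsgLib.PGroups.inf_center_ne_bot F.isP hWne)
  have hmap : ∀ y ∈ center T, S.φ y ∈ center T := fun y hy => Subgroup.mem_center_iff.2 fun g => by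
    have h := congrArg S.φ (Subgroup.mem_center_iff.1 hy (S.φ.symm g))
    rwa [map_mul, map_mul, MulEquiv.apply_symm_apply] at h
  have hx' : x ∈ center T := by
    rcases S.orbit hw.1.1 hw.1.2 hw1 hx hx2 with rfl | rfl | rfl | rfl
    exacts [one_mem _, hw.2, hmap _ hw.2, hmap _ (hmap _ hw.2)]
  exact Subgroup.mem_center_iff.1 hx' t

/-- The only fixed point of the odd group in `T₁` is trivial. -/
theorem disjoint : F.T1 ⊓ F.C = ⊥ := by
  rw [eq_bot_iff]
  intro g hg
  have hX := F.isP.to_subgroup F.T1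
  have hc : commutator F.T1 = ⊥ := by
    rw [eq_bot_iff, _root_.commutator_def, Subgroup.commutator_le]
    intro a _ b _
    rw [Subgroup.mem_bot, commutatorElement_eq_one_iff_commute]
    exact Subtype.ext (S.comm a a.2 b b.2)
  have h := CfsgLib.PGroups.NoSCNThree.mem_commutator_of_fixed_mod hX F.A1 F.odd_A1 F.A1_gen
    (g := ⟨g, hg.1⟩) (by
      rintro _ ⟨a, rfl⟩
      have h' : F.act a ⟨g, hg.1⟩ = ⟨g, hg.1⟩ := Subtype.ext ((F.mem_C g).1 hg.2 a a.2)
      rw [h', inv_mul_cancel]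
      exact one_mem _)
  rw [hc, Subgroup.mem_bot] at h
  exact Subgroup.mem_bot.2 (congrArg Subtype.val h)

/-- Elements of the fixed subgroup commute with `φ` in their action on `T₁`. -/
theorem conj_comm {c : T} (hc : c ∈ F.C) (x : T) : S.φ (c * x * c⁻¹) = c * S.φ x * c⁻¹ := by
  rw [map_mul, map_mul, map_inv, (F.mem_C c).1 hc _ S.mem]

theorem centralizer_C {c : T} (hc : c ∈ F.C) (hct : ∀ x ∈ F.T1, c * x = x * c) : c = 1 := by
  have : Fact (Nat.Prime 2) := ⟨Nat.prime_two⟩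
  by_contra hc1
  set K := F.C ⊓ centralizer (F.T1 : Set T) with hK
  have hKn : K.Normal := ⟨fun k hk g => by
    have hg : g ∈ F.T1 ⊔ F.C := F.sup_eq ▸ mem_top g
    obtain ⟨x, hx, d, hd, rfl⟩ := mem_sup_of_normal_left.1 hg
    have hkC : k ∈ F.C := hk.1
    have hdk : d * k * d⁻¹ ∈ K := ⟨F.C.mul_mem (F.C.mul_mem hd hkC) (F.C.inv_mem hd), by
      refine mem_centralizer_iff.2 fun y hy => ?_
      have hy' : d⁻¹ * y * d ∈ F.T1 := by
        have := F.normal.conj_mem y hy d⁻¹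
        rwa [inv_inv] at this
      have h := mem_centralizer_iff.1 hk.2 _ hy'
      calc y * (d * k * d⁻¹) = d * (d⁻¹ * y * d * k) * d⁻¹ := by group
        _ = d * (k * (d⁻¹ * y * d)) * d⁻¹ := by rw [h]
        _ = d * k * d⁻¹ * y := by group⟩
    have h := mem_centralizer_iff.1 hdk.2 x hx
    have e : x * d * k * (x * d)⁻¹ = x * (d * k * d⁻¹) * x⁻¹ := by group
    rw [e, h, mul_inv_cancel_right]
    exact hdk⟩
  have hKne : K ≠ ⊥ := fun h => hc1 (Subgroup.mem_bot.1
    (h ▸ (⟨hc, mem_centralizer_iff.2 fun x hx => (hct x hx).symm⟩ : c ∈ K)))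
  obtain ⟨k, hk, hk1⟩ :=
    (Subgroup.bot_or_exists_ne_one _).resolve_left (CfsgLib.PGroups.inf_center_ne_bot F.isP hKne)
  obtain ⟨j, hj⟩ := IsPGroup.iff_orderOf.1 F.isP k
  obtain ⟨i, rfl⟩ : ∃ i, j = i + 1 := ⟨j - 1, by
    rcases j with _ | j
    · rw [pow_zero, orderOf_eq_one_iff] at hj; exact absurd hj hk1
    · rfl⟩
  set u := k ^ 2 ^ i with hu
  have hu2 : u ^ 2 = 1 := by rw [hu, ← pow_mul, ← pow_succ, ← hj, pow_orderOf_eq_one]
  have hu1 : u ≠ 1 := fun h => by
    have := Nat.le_of_dvd (by positivity) (hj ▸ orderOf_dvd_of_pow_eq_one h)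
    have := Nat.pow_lt_pow_right (show 1 < 2 by norm_num) (show i < i + 1 by omega)
    omega
  have huZ : ∀ t : T, t * u = u * t := Subgroup.mem_center_iff.1 (pow_mem hk.2 _)
  let W : Subgroup T :=
    { carrier := {b | b ∈ F.T1 ∧ b ^ 2 = 1}
      one_mem' := ⟨one_mem _, one_pow 2⟩
      mul_mem' := fun {a b} ha hb => ⟨mul_mem ha.1 hb.1, by
        rw [(S.comm' ha.1 hb.1).mul_pow, ha.2, hb.2, one_mul]⟩
      inv_mem' := fun {a} ha => ⟨inv_mem ha.1, by rw [inv_pow, ha.2, inv_one]⟩ }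
  have : W.Normal := ⟨fun w hw g => by rw [S.central w hw.1 hw.2 g, mul_inv_cancel_right]; exact hw⟩
  have h4 : 4 ≤ Nat.card W := by
    classical
    have hm := S.map_mem S.e_mem
    have hsub : ({1, S.e, S.φ S.e, S.φ (S.φ S.e)} : Finset T) ⊆
        (Set.toFinite (W : Set T)).toFinset := by
      intro y hy
      simp only [Finset.mem_insert, Finset.mem_singleton] at hy
      rw [Set.Finite.mem_toFinset]
      rcases hy with rfl | rfl | rfl | rfl
      exacts [one_mem _, ⟨S.e_mem, S.e_sq⟩, ⟨hm, by rw [← map_pow, S.e_sq, map_one]⟩,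
        ⟨S.map_mem hm, by rw [← map_pow, ← map_pow, S.e_sq, map_one, map_one]⟩]
    have hcard := Finset.card_le_card hsub
    have hW' : (Set.toFinite (W : Set T)).toFinset.card = Nat.card W :=
      (Nat.card_eq_card_finite_toFinset _).symm
    have q1 : S.φ (S.φ S.e) ≠ S.e := fun h => S.moved (CfsgLib.PGroups.NoSCNThree.pow_odd_fix
      F.oddA (CfsgLib.PGroups.NoSCNThree.odd_pow_eq_one S.mem) h)
    have q2 : S.φ (S.φ S.e) ≠ S.φ S.e := fun h => S.moved (S.φ.injective h)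
    have q3 : S.φ S.e ≠ 1 := fun h => S.e_ne (S.φ.injective (h.trans (map_one _).symm))
    have q4 : S.φ (S.φ S.e) ≠ 1 := fun h => q3 (S.φ.injective (h.trans (map_one _).symm))
    simp [S.e_ne.symm, q3.symm, q4.symm, Ne.symm S.moved, q1.symm, q2.symm] at hcard
    omega
  have hmem := CfsgLib.PGroups.NoSCNThree.mem_of_involution F.noE8 (E := W)
    ⟨⟨fun a b => Subtype.ext (S.comm a a.2.1 b b.2.1)⟩⟩ (fun _ h => h.2) h4 hu2
    (fun e _ => huZ e) (fun t => by
      rw [commutatorElement_eq_one_iff_commute.2 (huZ t)]; exact one_mem _)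
  have : u ∈ F.T1 ⊓ F.C := ⟨hmem.1, pow_mem hk.1.1 _⟩
  rw [S.disjoint, Subgroup.mem_bot] at this
  exact hu1 this

/-- A `φ`-invariant subgroup containing an element of exact level `m` contains that level. -/
theorem level {H : Subgroup T} (hH : H ≤ F.T1) (hHφ : ∀ h ∈ H, S.φ h ∈ H) :
    ∀ (l : ℕ) {s : T}, s ∈ H → s ^ 2 ^ (l + 1) = 1 → s ^ 2 ^ l ≠ 1 →
      ∀ z ∈ F.T1, z ^ 2 ^ (l + 1) = 1 → z ∈ H := by
  intro l
  induction l with
  | zero =>
    intro s hs h1 h0 z hz hz2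
    rw [zero_add, pow_one] at h1 hz2
    rw [pow_zero, pow_one] at h0
    rcases S.orbit (hH hs) h1 h0 hz hz2 with rfl | rfl | rfl | rfl
    exacts [one_mem _, hs, hHφ _ hs, hHφ _ (hHφ _ hs)]
  | succ l ih =>
    intro s hs h1 h0 z hz hz2
    have e1 : ∀ w : T, w ^ 2 ^ (l + 1 + 1) = (w ^ 2 ^ (l + 1)) ^ 2 := fun w => by
      rw [← pow_mul, ← pow_succ]
    have e2 : ∀ w : T, w ^ 2 ^ (l + 1) = (w ^ 2) ^ 2 ^ l := fun w => by
      rw [← pow_mul, ← pow_succ']
    have e3 : ∀ w : T, w ^ 2 ^ (l + 1 + 1) = (w ^ 2) ^ 2 ^ (l + 1) := fun w => by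
      rw [← pow_mul, ← pow_succ']
    have key : ∀ w ∈ H, z ^ 2 ^ (l + 1) = w ^ 2 ^ (l + 1) → z ∈ H := fun w hw h => by
      have h' : (z * w⁻¹) ^ 2 ^ (l + 1) = 1 := by
        rw [(S.comm' hz (inv_mem (hH hw))).mul_pow, inv_pow, h, mul_inv_cancel]
      have := ih (pow_mem hs 2) (by rw [← e3]; exact h1) (by rw [← e2]; exact h0)
        _ (mul_mem hz (inv_mem (hH hw))) h'
      simpa using mul_mem this hw
    rcases S.orbit (pow_mem (hH hs) _) (by rw [← e1]; exact h1) h0 (pow_mem hz _)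
      (by rw [← e1]; exact hz2) with h | h | h | h
    · exact key 1 (one_mem _) (by rw [h, one_pow])
    · exact key s hs h
    · exact key (S.φ s) (hHφ _ hs) (by rw [h, map_pow])
    · exact key (S.φ (S.φ s)) (hHφ _ (hHφ _ hs)) (by rw [h, map_pow, map_pow])

end Spin

/-- Piece six. -/
theorem homocyclic : HomocyclicStmt.{u} := by
  intro T _ _ F hab
  classical
  have : Fact (Nat.Prime 2) := ⟨Nat.prime_two⟩
  obtain ⟨S⟩ := exists_spin F hab
  -- the exponent
  obtain ⟨N, hN⟩ := IsPGroup.iff_card.1 F.isP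
  have hex : ∃ n, ∀ x ∈ F.T1, x ^ 2 ^ n = 1 :=
    ⟨N, fun x _ => by rw [← hN]; exact pow_card_eq_one'⟩
  set n := Nat.find hex with hndef
  have hexp : ∀ x ∈ F.T1, x ^ 2 ^ n = 1 := Nat.find_spec hex
  have hn1 : 1 ≤ n := by
    by_contra h
    have := hexp S.e S.e_mem
    rw [show n = 0 by omega, pow_zero, pow_one] at this
    exact S.e_ne this
  obtain ⟨x, hx, hxn⟩ : ∃ x ∈ F.T1, x ^ 2 ^ (n - 1) ≠ 1 := by
    have := Nat.find_min hex (show n - 1 < n by omega)
    push Not at this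
    exact this
  set y := S.φ x with hydef
  have hy : y ∈ F.T1 := S.map_mem hx
  -- `x` and `y` form a basis
  have hval : ∀ (a b : ℕ) (z : T), z ∈ F.T1 →
      z ^ ((a + b) % 2 ^ n) = z ^ a * z ^ b := fun a b z hz => by
    rw [← pow_add]
    conv_rhs => rw [← Nat.mod_add_div (a + b) (2 ^ n), pow_add, pow_mul, hexp z hz, one_pow,
      mul_one]
  have : NeZero (2 ^ n) := ⟨by positivity⟩
  let f : Multiplicative (ZMod (2 ^ n) × ZMod (2 ^ n)) →* F.T1 :=
    MonoidHom.mk' (fun p => ⟨x ^ p.toAdd.1.val * y ^ p.toAdd.2.val,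
      mul_mem (pow_mem hx _) (pow_mem hy _)⟩) (fun p q => Subtype.ext (by
      show x ^ (p.toAdd.1 + q.toAdd.1).val * y ^ (p.toAdd.2 + q.toAdd.2).val =
        x ^ p.toAdd.1.val * y ^ p.toAdd.2.val * (x ^ q.toAdd.1.val * y ^ q.toAdd.2.val)
      rw [ZMod.val_add, ZMod.val_add, hval _ _ x hx, hval _ _ y hy, mul_assoc, mul_assoc,
        ← mul_assoc (x ^ q.toAdd.1.val), (S.comm' (pow_mem hx _) (pow_mem hy _)).eq, mul_assoc]))
  have hinj : Function.Injective f := by
    rw [injective_iff_map_eq_one]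
    intro p hp
    have hp' : x ^ p.toAdd.1.val * y ^ p.toAdd.2.val = 1 := congrArg Subtype.val hp
    have key : ∀ m ≤ n, ∀ i j : ℕ, x ^ i * y ^ j = 1 → 2 ^ m ∣ i ∧ 2 ^ m ∣ j := by
      intro m
      induction m with
      | zero => intros; simp
      | succ m ih =>
        intro hm i j hij
        obtain ⟨⟨i', rfl⟩, ⟨j', rfl⟩⟩ := ih (by omega) i j hij
        set d := x ^ 2 ^ (n - 1) with hd
        have hd2 : d ^ 2 = 1 := by
          rw [hd, ← pow_mul, ← pow_succ, show n - 1 + 1 = n by omega, hexp x hx]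
        have h1 : d ^ i' * (S.φ d) ^ j' = 1 := by
          have h := congrArg (· ^ 2 ^ (n - 1 - m)) hij
          simp only [one_pow] at h
          rw [(S.comm' (pow_mem hx _) (pow_mem hy _)).mul_pow, ← pow_mul, ← pow_mul] at h
          rw [hd, map_pow, ← pow_mul, ← pow_mul]
          have e : ∀ r : ℕ, 2 ^ (n - 1) * r = 2 ^ m * r * 2 ^ (n - 1 - m) := fun r => by
            rw [show n - 1 = m + (n - 1 - m) by omega, pow_add,
              show m + (n - 1 - m) - m = n - 1 - m by omega]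
            ring
          rw [e, e]; exact h
        have hφd : S.φ d ≠ 1 := fun h => hxn (S.φ.injective (h.trans (map_one _).symm))
        have hred : ∀ (r : ℕ) (w : T), w ^ 2 = 1 → w ^ r = w ^ (r % 2) := fun r w hw => by
          conv_lhs => rw [← Nat.mod_add_div r 2, pow_add, pow_mul, hw, one_pow, mul_one]
        rw [hred i' d hd2, hred j' _ (by rw [← map_pow, hd2, map_one])] at h1
        have hmoved : S.φ d ≠ d := fun h => by
          rcases S.orbit (pow_mem hx _) hd2 hxn S.e_mem S.e_sq with he | he | he | he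
          · exact S.e_ne he
          all_goals
            rw [hd] at h
            exact S.moved (by rw [he]; simp only [h])
        rcases Nat.mod_two_eq_zero_or_one i' with hi | hi <;>
          rcases Nat.mod_two_eq_zero_or_one j' with hj | hj <;>
          rw [hi, hj] at h1 <;> simp only [pow_zero, pow_one, one_mul, mul_one] at h1
        · exact ⟨Nat.mul_dvd_mul_left _ (Nat.dvd_of_mod_eq_zero hi),
            Nat.mul_dvd_mul_left _ (Nat.dvd_of_mod_eq_zero hj)⟩
        · exact absurd h1 hφd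
        · exact absurd h1 hxn
        · refine absurd ?_ hmoved
          calc S.φ d = d * d * S.φ d := by rw [← pow_two, hd2, one_mul]
            _ = d := by rw [mul_assoc, h1, mul_one]
    obtain ⟨h1, h2⟩ := key n le_rfl _ _ hp'
    apply Multiplicative.toAdd.injective
    exact Prod.ext ((ZMod.val_eq_zero _).1 (Nat.eq_zero_of_dvd_of_lt h1 (ZMod.val_lt _)))
      ((ZMod.val_eq_zero _).1 (Nat.eq_zero_of_dvd_of_lt h2 (ZMod.val_lt _)))
  have hsurj : Function.Surjective f := by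
    let H := f.range.map F.T1.subtype
    have hHle : H ≤ F.T1 := map_subtype_le _
    have hxy : ∀ i j : ℕ, x ^ i * y ^ j ∈ H := fun i j => ⟨_,
      ⟨Multiplicative.ofAdd ((i : ZMod (2 ^ n)), (j : ZMod (2 ^ n))), rfl⟩, by
        show x ^ (i : ZMod (2 ^ n)).val * y ^ (j : ZMod (2 ^ n)).val = x ^ i * y ^ j
        have e : ∀ (r : ℕ) (w : T), w ∈ F.T1 → w ^ (r % 2 ^ n) = w ^ r := fun r w hw => by
          conv_rhs => rw [← Nat.mod_add_div r (2 ^ n), pow_add, pow_mul, hexp w hw, one_pow,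
            mul_one]
        rw [ZMod.val_natCast, ZMod.val_natCast, e i x hx, e j y hy]⟩
    -- strong version of the spanning: every level lies in `H`
    have key : ∀ l ≤ n, ∀ z ∈ F.T1, z ^ 2 ^ l = 1 → z ∈ H := by
      intro l
      induction l with
      | zero => intro _ z _ h; rw [pow_zero, pow_one] at h; rw [h]; exact one_mem _
      | succ l ih =>
        intro hl z hz hzl
        set d := x ^ 2 ^ (n - 1) with hd
        have hd2 : d ^ 2 = 1 := by
          rw [hd, ← pow_mul, ← pow_succ, show n - 1 + 1 = n by omega, hexp x hx]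
        have hpw : ∀ w : T, (w ^ 2 ^ (n - 1 - l)) ^ 2 ^ l = w ^ 2 ^ (n - 1) := fun w => by
          rw [← pow_mul, ← pow_add, show n - 1 - l + l = n - 1 by omega]
        have step : ∀ w ∈ H, z ^ 2 ^ l = w ^ 2 ^ l → z ∈ H := fun w hw h => by
          have hm := ih (by omega) (z * w⁻¹) (mul_mem hz (inv_mem (hHle hw))) (by
            rw [(S.comm' hz (inv_mem (hHle hw))).mul_pow, inv_pow, h, mul_inv_cancel])
          simpa using mul_mem hm hw
        have hyd : y ^ 2 ^ (n - 1) = S.φ d := by rw [hydef, hd, map_pow]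
        have hxH : x ∈ H := by simpa using hxy 1 0
        have hyH : y ∈ H := by simpa using hxy 0 1
        rcases S.orbit (pow_mem hx _) hd2 hxn (pow_mem hz (2 ^ l))
          (by rw [← pow_mul, ← pow_succ]; exact hzl) with h | h | h | h
        · exact step 1 (one_mem _) (by rw [h, one_pow])
        · exact step _ (pow_mem hxH _) (by rw [h, hpw])
        · exact step _ (pow_mem hyH _) (by rw [h, hpw, hyd])
        · refine step ((x * y) ^ 2 ^ (n - 1 - l)) (pow_mem (mul_mem hxH hyH) _) ?_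
          rw [h, hpw, (S.comm' hx hy).mul_pow, hyd, ← hd]
          rcases S.orbit (pow_mem hx _) hd2 hxn (mul_mem (pow_mem hx _) (S.map_mem (pow_mem hx _)))
            (by rw [(S.comm' (pow_mem hx _) (S.map_mem (pow_mem hx _))).mul_pow, ← map_pow, hd2,
              map_one, mul_one] : (d * S.φ d) ^ 2 = 1) with h' | h' | h' | h'
          · exfalso
            have hmd : S.φ d = d := by
              calc S.φ d = d * d * S.φ d := by rw [← pow_two, hd2, one_mul]
                _ = d := by rw [mul_assoc, h', mul_one]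
            rcases S.orbit (pow_mem hx _) hd2 hxn S.e_mem S.e_sq with he | he | he | he
            · exact S.e_ne he
            all_goals
              rw [hd] at hmd
              exact S.moved (by rw [he]; simp only [hmd])
          · exact absurd (S.φ.injective ((mul_eq_left.1 h').trans (map_one _).symm)) hxn
          · exact absurd (mul_eq_right.1 h') hxn
          · exact h'.symm
    intro z
    obtain ⟨w, ⟨p, rfl⟩, hw⟩ := key n le_rfl z z.2 (hexp z z.2)
    exact ⟨p, Subtype.ext hw⟩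
  let iso := (MulEquiv.ofBijective f ⟨hinj, hsurj⟩).symm
  by_cases hC : F.C = ⊥
  · exact Or.inl ⟨hC, n, hn1, ⟨iso⟩⟩
  refine Or.inr ?_
  -- the fixed subgroup is abelian
  have hCab : ∀ c ∈ F.C, ∀ d ∈ F.C, c * d = d * c := by
    intro c hc d hd
    have hexpand : ∀ (a : T), a ∈ F.C → ∃ i j : ℕ, a * x * a⁻¹ = x ^ i * y ^ j := fun a _ => by
      obtain ⟨p, hp⟩ := hsurj ⟨a * x * a⁻¹, F.normal.conj_mem x hx a⟩
      exact ⟨_, _, (congrArg Subtype.val hp).symm⟩
    have hx2 : ∀ a ∈ F.C, ∀ b ∈ F.C, ∀ i j k l : ℕ, a * x * a⁻¹ = x ^ i * y ^ j →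
        b * x * b⁻¹ = x ^ k * y ^ l →
        a * (b * x * b⁻¹) * a⁻¹ = x ^ (i * k) * y ^ (j * k + i * l) * (S.φ y) ^ (j * l) := by
      intro a ha b _ i j k l hi hk
      have hay : a * y * a⁻¹ = y ^ i * (S.φ y) ^ j := by
        rw [hydef, ← S.conj_comm ha, hi, map_mul, map_pow, map_pow]
      rw [hk, ← conj_mul, ← conj_pow, ← conj_pow, hi, hay,
        (S.comm' (pow_mem hx _) (pow_mem hy _)).mul_pow,
        (S.comm' (pow_mem hy _) (pow_mem (S.map_mem hy) _)).mul_pow, ← pow_mul, ← pow_mul,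
        ← pow_mul, ← pow_mul, pow_add]
      simp only [mul_assoc]
    obtain ⟨i, j, hi⟩ := hexpand c hc
    obtain ⟨k, l, hk⟩ := hexpand d hd
    set w := (d * c)⁻¹ * (c * d) with hw
    have hwC : w ∈ F.C := mul_mem (inv_mem (mul_mem hd hc)) (mul_mem hc hd)
    have hwx : w * x * w⁻¹ = x := by
      have h1 := hx2 c hc d hd i j k l hi hk
      have h2 := hx2 d hd c hc k l i j hk hi
      have h3 : c * (d * x * d⁻¹) * c⁻¹ = d * (c * x * c⁻¹) * d⁻¹ := by
        rw [h1, h2, mul_comm i k, mul_comm j l, add_comm (j * k), mul_comm j k, mul_comm i l]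
      calc w * x * w⁻¹ = (d * c)⁻¹ * (c * (d * x * d⁻¹) * c⁻¹) * (d * c) := by rw [hw]; group
        _ = x := by rw [h3]; group
    have hwy : w * y * w⁻¹ = y := by rw [hydef, ← S.conj_comm hwC, hwx]
    have h1 : w = 1 := S.centralizer_C hwC fun z hz => by
      obtain ⟨p, hp⟩ := hsurj ⟨z, hz⟩
      have hp' : x ^ p.toAdd.1.val * y ^ p.toAdd.2.val = z := congrArg Subtype.val hp
      refine mul_inv_eq_iff_eq_mul.1 ?_
      rw [← hp', ← conj_mul, ← conj_pow, ← conj_pow, hwx, hwy]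
    rw [hw, inv_mul_eq_one] at h1
    exact h1.symm
  -- involutions of the fixed subgroup
  have hinv : ∀ u ∈ F.C, u ^ 2 = 1 → u ≠ 1 →
      3 ≤ n ∧ (∀ z ∈ F.T1, u * z = z * u → z ^ 2 = 1) ∧
        ∀ z ∈ F.T1, z ^ 4 = 1 → u * z * u⁻¹ = z⁻¹ := by
    intro u hu hu2 hu1
    have huu : u * u = 1 := by rw [← pow_two, hu2]
    have hui : u⁻¹ = u := inv_eq_of_mul_eq_one_right huu
    have hmem : ∀ z ∈ F.T1, z⁻¹ * (u * z * u⁻¹) ∈ F.T1 := fun z hz =>
      mul_mem (inv_mem hz) (F.normal.conj_mem z hz u)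
    let I : Subgroup T :=
      { carrier := {w | ∃ z ∈ F.T1, z⁻¹ * (u * z * u⁻¹) = w}
        one_mem' := ⟨1, one_mem _, by simp⟩
        mul_mem' := fun {a b} ⟨z, hz, ha⟩ ⟨z', hz', hb⟩ => ⟨z * z', mul_mem hz hz', by
          rw [← ha, ← hb, ← conj_mul]
          calc (z * z')⁻¹ * (u * z * u⁻¹ * (u * z' * u⁻¹))
              = (z'⁻¹ * z⁻¹ * (u * z * u⁻¹)) * (u * z' * u⁻¹) := by group
            _ = (z⁻¹ * (u * z * u⁻¹) * z'⁻¹) * (u * z' * u⁻¹) := by
              rw [mul_assoc z'⁻¹, (S.comm' (inv_mem hz') (hmem z hz)).eq]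
            _ = z⁻¹ * (u * z * u⁻¹) * (z'⁻¹ * (u * z' * u⁻¹)) := by group⟩
        inv_mem' := fun {a} ⟨z, hz, ha⟩ => ⟨z⁻¹, inv_mem hz, by
          rw [← ha, inv_inv, mul_inv_rev, inv_inv, ← conj_inv]
          exact (S.comm' hz (inv_mem (F.normal.conj_mem z hz u))).eq.trans (by rw [conj_inv])⟩ }
    have hI : I ≤ F.T1 := by rintro _ ⟨z, hz, rfl⟩; exact hmem z hz
    have hIφ : ∀ w ∈ I, S.φ w ∈ I := by
      rintro _ ⟨z, hz, rfl⟩
      exact ⟨S.φ z, S.map_mem hz, by rw [map_mul, map_inv, S.conj_comm hu]⟩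
    have hIinv : ∀ w ∈ I, u * w * u⁻¹ = w⁻¹ := by
      rintro _ ⟨z, hz, rfl⟩
      rw [mul_inv_rev, inv_inv, hui]
      calc u * (z⁻¹ * (u * z * u)) * u = (u * z⁻¹ * u) * (z * (u * u)) := by group
        _ = (u * z * u)⁻¹ * z := by rw [huu, mul_one, mul_inv_rev, mul_inv_rev, hui, mul_assoc u]
    -- the image has an element of order four
    obtain ⟨s, hs, hs2⟩ : ∃ s ∈ I, s ^ 2 ≠ 1 := by
      by_contra hno
      push Not at hno
      let W : Subgroup T :=
        { carrier := {b | b ∈ F.T1 ∧ b ^ 2 = 1}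
          one_mem' := ⟨one_mem _, one_pow 2⟩
          mul_mem' := fun {a b} ha hb => ⟨mul_mem ha.1 hb.1, by
            rw [(S.comm' ha.1 hb.1).mul_pow, ha.2, hb.2, one_mul]⟩
          inv_mem' := fun {a} ha => ⟨inv_mem ha.1, by rw [inv_pow, ha.2, inv_one]⟩ }
      have : W.Normal :=
        ⟨fun w hw g => by rw [S.central w hw.1 hw.2 g, mul_inv_cancel_right]; exact hw⟩
      have h4 : 4 ≤ Nat.card W := by
        let g : Fin 2 × Fin 2 → W := fun p => ⟨(x ^ 2 ^ (n - 1)) ^ (p.1 : ℕ) *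
          (y ^ 2 ^ (n - 1)) ^ (p.2 : ℕ), mul_mem (pow_mem hx _ |> (pow_mem · _))
            (pow_mem hy _ |> (pow_mem · _)), by
          have e : ∀ w ∈ F.T1, (w ^ 2 ^ (n - 1)) ^ 2 = 1 := fun w hw => by
            rw [← pow_mul, ← pow_succ, show n - 1 + 1 = n by omega, hexp w hw]
          rw [(S.comm' (pow_mem (pow_mem hx _) _) (pow_mem (pow_mem hy _) _)).mul_pow, ← pow_mul,
            ← pow_mul _ (p.2 : ℕ), mul_comm (p.1 : ℕ), mul_comm (p.2 : ℕ), pow_mul, pow_mul,
            e x hx, e y hy, one_pow, one_pow, one_mul]⟩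
        have hg : Function.Injective g := by
          intro p q h
          have h' := congrArg Subtype.val h
          have hlt : ∀ r : Fin 2, (r : ℕ) * 2 ^ (n - 1) < 2 ^ n := fun r => by
            have h2 : 2 ^ n = 2 * 2 ^ (n - 1) := by
              rw [← pow_succ', show n - 1 + 1 = n by omega]
            have := r.is_lt
            rw [h2]
            exact Nat.mul_lt_mul_of_pos_right this (by positivity)
          have e : ∀ r : Fin 2 × Fin 2, (g r : T) =
              (f (Multiplicative.ofAdd ((((r.1 : ℕ) * 2 ^ (n - 1) : ℕ) : ZMod (2 ^ n)),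
                (((r.2 : ℕ) * 2 ^ (n - 1) : ℕ) : ZMod (2 ^ n)))) : T) := fun r => by
            show _ = x ^ ((((r.1 : ℕ) * 2 ^ (n - 1) : ℕ) : ZMod (2 ^ n))).val *
              y ^ ((((r.2 : ℕ) * 2 ^ (n - 1) : ℕ) : ZMod (2 ^ n))).val
            rw [ZMod.val_natCast, ZMod.val_natCast, Nat.mod_eq_of_lt (hlt _),
              Nat.mod_eq_of_lt (hlt _)]
            show (x ^ 2 ^ (n - 1)) ^ (r.1 : ℕ) * (y ^ 2 ^ (n - 1)) ^ (r.2 : ℕ) = _
            rw [← pow_mul, ← pow_mul, mul_comm (2 ^ (n - 1)), mul_comm (2 ^ (n - 1))]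
          rw [e p, e q] at h'
          have h'' := Multiplicative.ofAdd.injective (hinj (Subtype.ext h'))
          simp only [Prod.mk.injEq] at h''
          have hpos : 0 < 2 ^ (n - 1) := by positivity
          have a1 := congrArg ZMod.val h''.1
          have a2 := congrArg ZMod.val h''.2
          rw [ZMod.val_natCast, ZMod.val_natCast, Nat.mod_eq_of_lt (hlt _),
            Nat.mod_eq_of_lt (hlt _)] at a1 a2
          exact Prod.ext (Fin.ext (Nat.eq_of_mul_eq_mul_right hpos a1))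
            (Fin.ext (Nat.eq_of_mul_eq_mul_right hpos a2))
        simpa using Nat.card_le_card_of_injective g hg
      have htx : ∀ t : T, ⁅t, u⁆ ∈ W := by
        intro t
        have ht : t ∈ F.T1 ⊔ F.C := F.sup_eq ▸ mem_top t
        obtain ⟨z, hz, c, hc, rfl⟩ := mem_sup_of_normal_left.1 ht
        have hw : z⁻¹ * (u * z * u⁻¹) ∈ I := ⟨z, hz, rfl⟩
        have hwW : z⁻¹ * (u * z * u⁻¹) ∈ W := ⟨hI hw, hno _ hw⟩
        have e : ⁅z * c, u⁆ = z * (z⁻¹ * (u * z * u⁻¹))⁻¹ * z⁻¹ := by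
          rw [commutatorElement_def, mul_inv_rev]
          calc z * c * u * (c⁻¹ * z⁻¹) * u⁻¹ = z * (c * u * c⁻¹) * z⁻¹ * u⁻¹ := by group
            _ = z * (z⁻¹ * (u * z * u⁻¹))⁻¹ * z⁻¹ := by
              rw [hCab c hc u hu, mul_inv_cancel_right]; group
        rw [e]
        exact ‹W.Normal›.conj_mem _ (inv_mem hwW) z
      have hmem := CfsgLib.PGroups.NoSCNThree.mem_of_involution F.noE8 (E := W)
        ⟨⟨fun a b => Subtype.ext (S.comm a a.2.1 b b.2.1)⟩⟩ (fun _ h => h.2) h4 hu2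
        (fun e he => (S.central e he.1 he.2 u).symm) htx
      have : u ∈ F.T1 ⊓ F.C := ⟨hmem.1, hu⟩
      rw [S.disjoint, Subgroup.mem_bot] at this
      exact hu1 this
    -- hence it contains every element of order four
    obtain ⟨r, hr⟩ := IsPGroup.iff_orderOf.1 F.isP s
    have hr2 : 2 ≤ r := by
      by_contra h
      refine hs2 (orderOf_dvd_iff_pow_eq_one.1 ?_)
      rw [hr]
      exact (pow_dvd_pow 2 (by omega : r ≤ 1)).trans (by norm_num)
    have hlev : ∀ z ∈ F.T1, z ^ 4 = 1 → z ∈ I := by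
      intro z hz hz4
      refine S.level hI hIφ 1 (pow_mem hs (2 ^ (r - 2))) ?_ ?_ z hz (by simpa using hz4)
      · rw [← pow_mul, ← pow_add, show r - 2 + (1 + 1) = r by omega, ← hr, pow_orderOf_eq_one]
      · rw [← pow_mul, ← pow_add, show r - 2 + 1 = r - 1 by omega]
        intro h
        have := Nat.le_of_dvd (by positivity) (hr ▸ orderOf_dvd_of_pow_eq_one h)
        have := Nat.pow_lt_pow_right (show 1 < 2 by norm_num) (show r - 1 < r by omega)
        omega
    have hfix : ∀ z ∈ F.T1, u * z = z * u → z ^ 2 = 1 := by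
      intro z hz hzu
      by_contra hz2
      obtain ⟨q, hq⟩ := IsPGroup.iff_orderOf.1 F.isP z
      have hq2 : 2 ≤ q := by
        by_contra h
        refine hz2 (orderOf_dvd_iff_pow_eq_one.1 ?_)
        rw [hq]
        exact (pow_dvd_pow 2 (by omega : q ≤ 1)).trans (by norm_num)
      set w := z ^ 2 ^ (q - 2) with hw
      have hw4 : w ^ 4 = 1 := by
        rw [show 4 = 2 ^ 2 by rfl, hw, ← pow_mul, ← pow_add, show q - 2 + 2 = q by omega, ← hq,
          pow_orderOf_eq_one]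
      have hwinv := hIinv w (hlev w (pow_mem hz _) hw4)
      rw [(Commute.pow_right (show Commute u z from hzu) _).eq, mul_inv_cancel_right] at hwinv
      have hw2 : z ^ 2 ^ (q - 1) = 1 := by
        rw [show 2 ^ (q - 1) = 2 ^ (q - 2) * 2 by rw [← pow_succ]; congr 1; omega, pow_mul, pow_two,
          ← hw]
        exact mul_eq_one_iff_eq_inv.2 (hw.trans hwinv)
      have := Nat.le_of_dvd (by positivity) (hq ▸ orderOf_dvd_of_pow_eq_one hw2)
      have := Nat.pow_lt_pow_right (show 1 < 2 by norm_num) (show q - 1 < q by omega)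
      omega
    refine ⟨?_, hfix, fun z hz hz4 => hIinv z (hlev z hz hz4)⟩
    by_contra hn
    -- otherwise `u` inverts everything and the image consists of squares
    obtain ⟨z, hz, hzs⟩ := hs
    have hz4 : z ^ 4 = 1 := by
      have := hexp z hz
      obtain ⟨q, hq⟩ := pow_dvd_pow 2 (show n ≤ 2 by omega)
      rw [show 4 = 2 ^ 2 by rfl, hq, pow_mul, this, one_pow]
    have h := hIinv z (hlev z hz hz4)
    rw [h] at hzs
    apply hs2
    rw [← hzs, ← pow_two, ← pow_mul, show 2 * 2 = 4 by rfl, inv_pow, hz4, inv_one]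
  obtain ⟨c₀, hc₀, hc₀1⟩ := (Subgroup.bot_or_exists_ne_one F.C).resolve_left hC
  obtain ⟨j, hj⟩ := IsPGroup.iff_orderOf.1 F.isP c₀
  obtain ⟨i, rfl⟩ : ∃ i, j = i + 1 := ⟨j - 1, by
    rcases j with _ | j
    · rw [pow_zero, orderOf_eq_one_iff] at hj; exact absurd hj hc₀1
    · rfl⟩
  set u := c₀ ^ 2 ^ i with hudef
  have hu2 : u ^ 2 = 1 := by rw [hudef, ← pow_mul, ← pow_succ, ← hj, pow_orderOf_eq_one]
  have hu1 : u ≠ 1 := fun h => by
    have := Nat.le_of_dvd (by positivity) (hj ▸ orderOf_dvd_of_pow_eq_one h)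
    have := Nat.pow_lt_pow_right (show 1 < 2 by norm_num) (show i < i + 1 by omega)
    omega
  have huC : u ∈ F.C := pow_mem hc₀ _
  obtain ⟨hn3, hufix, huinv⟩ := hinv u huC hu2 hu1
  have huniq : ∀ w ∈ F.C, w ^ 2 = 1 → w ≠ 1 → w = u := by
    intro w hw hw2 hw1
    by_contra hwu
    have hwC : w * u ∈ F.C := mul_mem hw huC
    have hwu2 : (w * u) ^ 2 = 1 := by
      rw [Commute.mul_pow (hCab w hw u huC), hw2, hu2, one_mul]
    have hne : w * u ≠ 1 := fun h => hwu (by
      rw [← inv_eq_of_mul_eq_one_left h]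
      exact inv_eq_of_mul_eq_one_right (by rw [← pow_two, hu2]))
    obtain ⟨-, hwfix, hwinv⟩ := hinv w hw hw2 hw1
    obtain ⟨-, hprod, -⟩ := hinv (w * u) hwC hwu2 hne
    set z := x ^ 2 ^ (n - 2) with hzdef
    have hz : z ∈ F.T1 := pow_mem hx _
    have hz4 : z ^ 4 = 1 := by
      rw [show 4 = 2 ^ 2 by rfl, hzdef, ← pow_mul, ← pow_add, show n - 2 + 2 = n by omega, hexp x hx]
    have hcomm : w * u * z * (w * u)⁻¹ = z := by
      calc w * u * z * (w * u)⁻¹ = w * (u * z * u⁻¹) * w⁻¹ := by group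
        _ = z := by rw [huinv z hz hz4, ← conj_inv, hwinv z hz hz4, inv_inv]
    have h2 := hprod z hz (mul_inv_eq_iff_eq_mul.1 hcomm)
    rw [hzdef, ← pow_mul, ← pow_succ, show n - 2 + 1 = n - 1 by omega] at h2
    exact hxn h2
  have hCcyc : IsCyclic F.C := by
    rcases CfsgLib.PGroups.isCyclic_or_quaternion_of_unique (p := 2) (F.isP.to_subgroup F.C)
      (z := ⟨u, huC⟩) (Subtype.ext hu2) (fun w hw => by
        by_cases hw1 : w = 1
        · rw [hw1]; exact one_mem _
        · rw [show w = ⟨u, huC⟩ from Subtype.ext (huniq w w.2 (congrArg Subtype.val hw)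
            fun h => hw1 (Subtype.ext h))]
          exact mem_zpowers _) with h | ⟨-, q, hq, ⟨e⟩⟩
    · exact h
    · exfalso
      have hcomm : (QuaternionGroup.xa 0 : QuaternionGroup (2 ^ q)) * QuaternionGroup.a 1 =
          QuaternionGroup.a 1 * QuaternionGroup.xa 0 := by
        obtain ⟨p₁, h₁⟩ := e.surjective (QuaternionGroup.xa 0)
        obtain ⟨p₂, h₂⟩ := e.surjective (QuaternionGroup.a 1)
        rw [← h₁, ← h₂, ← map_mul, ← map_mul]
        exact congrArg e (Subtype.ext (hCab p₁ p₁.2 p₂ p₂.2))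
      rw [QuaternionGroup.xa_mul_a, QuaternionGroup.a_mul_xa] at hcomm
      simp only [QuaternionGroup.xa.injEq, zero_add, zero_sub] at hcomm
      have h2 : ((2 : ℕ) : ZMod (2 * 2 ^ q)) = 0 := by
        have hone : (1 : ZMod (2 * 2 ^ q)) + 1 = 0 := by
          nth_rewrite 1 [hcomm]
          exact neg_add_cancel 1
        rw [← hone]; push_cast; norm_num
      rw [ZMod.natCast_eq_zero_iff] at h2
      have := Nat.le_of_dvd two_pos h2
      have : 2 ≤ 2 ^ q := le_trans (by norm_num) (Nat.pow_le_pow_right (by norm_num) hq)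
      omega
  obtain ⟨⟨c, hc⟩, hgen⟩ := hCcyc.exists_generator
  have hceq : zpowers c = F.C := le_antisymm (zpowers_le.2 hc) fun w hw => by
    obtain ⟨k, hk⟩ := mem_zpowers_iff.1 (hgen ⟨w, hw⟩)
    exact mem_zpowers_iff.2 ⟨k, congrArg Subtype.val hk⟩
  exact
    { homo := ⟨n, hn3, ⟨iso⟩⟩
      disjoint := S.disjoint
      cyclic := ⟨c, fun h => hC (by rw [← hceq, h, zpowers_one_eq_bot]), hceq⟩
      central := fun e he he2 t => S.central e he he2 t
      fixed := fun v hv hv2 hv1 => (hinv v hv hv2 hv1).2.1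
      inverts := fun v hv hv2 hv1 => (hinv v hv hv2 hv1).2.2 }

end CfsgLib.NormalRankTwo
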