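import Cfsg.Agent.Lib.NormalRankTwo.Defs
import Cfsg.Agent.S0949

/-!
# The order of the Sylow two-subgroup, from the pieces
-/

set_option autoImplicit false

universe u

namespace CfsgLib.NormalRankTwo

open Subgroup

theorem order_of_pieces (h1 : SpecialClassesStmt.{u}) (h2 : FrameStmt.{u})
    (h3 : QuaternionStmt.{u}) (h4 : BoundStmt.{u}) (h5 : ThirtyTwoStmt.{u})
    (h6 : HomocyclicStmt.{u}) (h7 : TwistedStmt.{u})
    {G : Type u} [Group G] [Finite G] [IsSimpleGroup G] (hna : ¬ IsMulCommutative G)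
    (T : Sylow 2 G)
    (hd2 : ∀ A : Subgroup ↥T, A.Normal → IsMulCommutative A → ∃ a b : ↥T, closure {a, b} = A)
    (hN : ¬ Subgroup.normalizer ((T : Subgroup G) : Set G) ≤
      (T : Subgroup G) ⊔ Subgroup.centralizer ((T : Subgroup G) : Set G)) :
    Nat.card ↥T = 4 ∨ Nat.card ↥T = 64 ∨ Nat.card ↥T = 128 := by
  obtain ⟨F, hF⟩ := h2 G T hd2 hN
  by_cases hab : IsMulCommutative F.T1
  · rcases h6 ↥T F hab with ⟨hC, n, hn, ⟨e⟩⟩ | hw
    · have htop : F.T1 = ⊤ := by simpa [hC] using F.sup_eq
      let e' : ↥T ≃* Multiplicative (ZMod (2 ^ n) × ZMod (2 ^ n)) :=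
        topEquiv.symm.trans ((MulEquiv.subgroupCongr htop.symm).trans e)
      have hcard : Nat.card ↥T = 2 ^ n * 2 ^ n := by
        rw [Nat.card_congr e'.toEquiv, Nat.card_congr Multiplicative.toAdd, Nat.card_prod,
          Nat.card_zmod]
      by_cases hn2 : 2 ≤ n
      · exfalso
        have hO : ∀ N : Subgroup G, N.Normal → Odd (Nat.card N) → N = ⊥ := by
          intro N hN hodd
          refine hN.eq_bot_or_eq_top.resolve_right fun h => ?_
          have hdvd : 2 ∣ Nat.card G := (dvd_mul_of_dvd_left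
            (dvd_pow_self 2 (by omega : n ≠ 0)) (2 ^ n)).trans
              (hcard ▸ (T : Subgroup G).card_subgroup_dvd_card)
          rw [h, Nat.card_congr topEquiv.toEquiv] at hodd
          exact Nat.not_even_iff_odd.2 hodd (even_iff_two_dvd.2 hdvd)
        obtain ⟨hnorm, -, -⟩ := Cfsg.Agent.S0949.result T n hn2 e' hO
        have hne : (T : Subgroup G) ≠ ⊥ := fun h => by
          have : Nat.card ↥T = 1 := by
            rw [show Nat.card ↥T = Nat.card ↥(T : Subgroup G) from rfl, h, card_bot]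
          have h4 : 2 ^ 2 ≤ 2 ^ n := Nat.pow_le_pow_right (by norm_num) hn2
          nlinarith
        have htop' := hnorm.eq_bot_or_eq_top.resolve_left hne
        have hall : ∀ a : G, a ∈ (T : Subgroup G) := fun a => htop' ▸ mem_top a
        exact hna ⟨⟨fun a b => congrArg Subtype.val (e'.injective (by
          rw [map_mul, map_mul, mul_comm]) :
            (⟨a, hall a⟩ : ↥T) * ⟨b, hall b⟩ = ⟨b, hall b⟩ * ⟨a, hall a⟩)⟩⟩
      · left
        have : n = 1 := by omega
        rw [hcard, this]; norm_num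
    · exact (h7 G hna T F hw).elim
  · rcases h1 ↥F.T1 (F.isP.to_subgroup _) F.charE8_T1 F.rankFour_T1 hab F.A1 F.odd_A1 F.A1_gen
      with hQ | hS
    · exact (h3 G hna T F hF hQ).elim
    · rcases h4 ↥T F hS with h | h | h
      · exact (h5 G hna T F hS h).elim
      · exact Or.inr (Or.inl h)
      · exact Or.inr (Or.inr h)

end CfsgLib.NormalRankTwo
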