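import Cfsg.Agent.Lib.NormalRankTwo.Defs
import Cfsg.Agent.Lib.NormalRankTwo.Conj
import Cfsg.Agent.Lib.PGroups.Basic
import Cfsg.Agent.S4397

/-!
# The quaternion group of order eight is excluded

If `T₁` is quaternion, `T` is the central product of `T₁` with `C` and `T/T₁` is metacyclic, so the
square of every element of `C` lying over the cyclic normal subgroup is central when it is an
involution. A conjugate of the central involution of `T₁` is such a square.
-/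

set_option autoImplicit false
set_option linter.unusedSectionVars false

universe u

namespace CfsgLib.NormalRankTwo

open Subgroup
open scoped commutatorElement

namespace Quat

abbrev Q8 : Type := QuaternionGroup 2

/-- The central involution. -/
def qz : Q8 := .a 2

/-- Representatives modulo the centre. -/
def qrep : Fin 4 → Q8 := ![1, .a 1, .xa 0, .a 1 * .xa 0]

theorem qz_ne : qz ≠ 1 := by decide +kernel

theorem q_invol : ∀ x : Q8, x * x = 1 → x = 1 ∨ x = qz := by decide +kernel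

theorem q_sq : ∀ x : Q8, (x = 1 ∨ x = qz) ∨ x * x = qz := by decide +kernel

theorem q_central : ∀ x : Q8, x * qz = qz * x := by decide +kernel

theorem q_comm : ∀ x y : Q8, x * y * x⁻¹ * y⁻¹ = 1 ∨ x * y * x⁻¹ * y⁻¹ = qz := by decide +kernel

theorem q_gen : ∀ v w x : Q8, ¬(v = 1 ∨ v = qz) → ¬(w = 1 ∨ w = qz) →
    ¬(v⁻¹ * w = 1 ∨ v⁻¹ * w = qz) →
    ∃ i j k : Fin 2, x = v ^ i.val * w ^ j.val * qz ^ k.val := by decide +kernel

theorem qrep_inj : ∀ i j : Fin 4, ((qrep i)⁻¹ * qrep j = 1 ∨ (qrep i)⁻¹ * qrep j = qz) → i = j := by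
  decide +kernel

theorem q_noncentral : ¬((.a 1 : Q8) = 1 ∨ (.a 1 : Q8) = qz) ∧
    ¬((.xa 0 : Q8) = 1 ∨ (.xa 0 : Q8) = qz) ∧
    ¬((.a 1 : Q8) * .xa 0 = 1 ∨ (.a 1 : Q8) * .xa 0 = qz) := by decide +kernel

theorem q_commutator : (.a 1 : Q8) * .xa 0 * (.a 1)⁻¹ * (.xa 0)⁻¹ = qz := by decide +kernel

/-- The parametrisation of `T₁` and what follows from the odd automorphisms. -/
structure Base {X : Type*} [Group X] (F : Frame X) where
  e : Q8 →* X
  inj : Function.Injective e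
  mem : ∀ x, x ∈ F.T1 ↔ ∃ q, e q = x

variable {X : Type*} [Group X] [Finite X] {F : Frame X}

namespace Base

variable (B : Base F)
include B

/-- The central involution of `T₁`. -/
def z : X := B.e qz

theorem z_mem : B.z ∈ F.T1 := (B.mem _).2 ⟨_, rfl⟩

theorem z_ne : B.z ≠ 1 := fun h => qz_ne (B.inj (h.trans (map_one B.e).symm))

theorem z_sq : B.z * B.z = 1 := by
  rw [z, ← map_mul, show qz * qz = 1 by decide +kernel, map_one]

theorem invol {x : X} (hx : x ∈ F.T1) (h : x * x = 1) : x = 1 ∨ x = B.z := by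
  obtain ⟨q, rfl⟩ := (B.mem x).1 hx
  rw [← map_mul, ← map_one B.e] at h
  rcases q_invol q (B.inj h) with rfl | rfl
  · exact Or.inl (map_one _)
  · exact Or.inr rfl

theorem sq_cases {x : X} (hx : x ∈ F.T1) : (x = 1 ∨ x = B.z) ∨ x * x = B.z := by
  obtain ⟨q, rfl⟩ := (B.mem x).1 hx
  rcases q_sq q with (rfl | rfl) | h
  · exact Or.inl (Or.inl (map_one _))
  · exact Or.inl (Or.inr rfl)
  · exact Or.inr (by rw [← map_mul, h]; rfl)

theorem fix_z {φ : MulAut X} (hφ : ∀ x ∈ F.T1, φ x ∈ F.T1) : φ B.z = B.z := by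
  rcases B.invol (hφ _ B.z_mem) (by rw [← map_mul, B.z_sq, map_one]) with h | h
  · exact absurd ((map_eq_one_iff φ φ.injective).1 h) B.z_ne
  · exact h

theorem z_central : B.z ∈ center X := by
  rw [Subgroup.mem_center_iff]
  intro t
  have h : MulAut.conj t B.z = B.z :=
    B.fix_z fun x hx => F.normal.conj_mem x hx t
  rw [MulAut.conj_apply, mul_inv_eq_iff_eq_mul] at h
  exact h

theorem z_mem_C : B.z ∈ F.C := (F.mem_C _).2 fun _ ha => B.fix_z (F.map_T1 _ ha)

/-- The subgroup `{1, z}`. -/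
def Z : Subgroup X := zpowers B.z

theorem mem_Z {x : X} : x ∈ B.Z ↔ x = 1 ∨ x = B.z := by
  refine ⟨fun h => ?_, ?_⟩
  · obtain ⟨k, rfl⟩ := mem_zpowers_iff.1 h
    exact CfsgLib.PGroups.NoSCNThree.zpow_of_sq (by rw [pow_two, B.z_sq]) k
  · rintro (rfl | rfl)
    · exact one_mem _
    · exact mem_zpowers _

instance Z_normal : B.Z.Normal := ⟨fun x hx g => by
  rcases B.mem_Z.1 hx with rfl | rfl
  · simp
  · rw [(mem_center_iff.1 B.z_central g), mul_inv_cancel_right]; exact mem_zpowers _⟩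

/-- An element of `T₁` fixed by the odd group modulo `{1, z}` is `1` or `z`. -/
theorem mem_Z_of_fixed {x : X} (hx : x ∈ F.T1) (h : ∀ a ∈ F.A, x⁻¹ * a x ∈ B.Z) : x ∈ B.Z := by
  have hc : commutator F.T1 ≤ B.Z.subgroupOf F.T1 := by
    rw [commutator_def, commutator_le]
    rintro u - v -
    obtain ⟨p, hp⟩ := (B.mem u).1 u.2
    obtain ⟨q, hq⟩ := (B.mem v).1 v.2
    rw [mem_subgroupOf, commutatorElement_def]
    push_cast
    rw [← hp, ← hq, ← map_inv, ← map_inv, ← map_mul, ← map_mul, ← map_mul]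
    refine B.mem_Z.2 ((q_comm p q).imp (fun e => ?_) fun e => ?_)
    · rw [e, map_one]
    · rw [e]; rfl
  have hz : ∃ u v : F.T1, ((⁅u, v⁆ : F.T1) : X) = B.z := by
    refine ⟨⟨B.e (.a 1), (B.mem _).2 ⟨_, rfl⟩⟩, ⟨B.e (.xa 0), (B.mem _).2 ⟨_, rfl⟩⟩, ?_⟩
    rw [commutatorElement_def]
    push_cast
    rw [← map_inv, ← map_inv, ← map_mul, ← map_mul, ← map_mul, q_commutator]
    rfl
  have key := CfsgLib.PGroups.NoSCNThree.mem_commutator_of_fixed_mod (F.isP.to_subgroup F.T1)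
    F.A1 F.odd_A1 F.A1_gen (g := ⟨x, hx⟩) (by
      rintro _ ⟨a, rfl⟩
      rcases B.mem_Z.1 (h a a.2) with e | e
      · rw [show (⟨x, hx⟩ : F.T1)⁻¹ * F.act a ⟨x, hx⟩ = 1 from Subtype.ext e]
        exact one_mem _
      · obtain ⟨u, v, huv⟩ := hz
        rw [show (⟨x, hx⟩ : F.T1)⁻¹ * F.act a ⟨x, hx⟩ = ⁅u, v⁆ from Subtype.ext (e.trans huv.symm)]
        exact commutator_mem_commutator (mem_top u) (mem_top v))
  exact hc key

theorem inf_C {x : X} (hx : x ∈ F.T1) (hc : x ∈ F.C) : x = 1 ∨ x = B.z :=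
  B.mem_Z.1 (B.mem_Z_of_fixed hx fun a ha => by
    rw [(F.mem_C x).1 hc a ha, inv_mul_cancel]; exact one_mem _)

/-- Every element of `T` centralizes `T₁` modulo `{1, z}`. -/
theorem bracket_mem {t x : X} (hx : x ∈ F.T1) : t * x * t⁻¹ * x⁻¹ ∈ B.Z ∨ t ∉ F.C := by
  by_cases ht : t ∈ F.C
  swap
  · exact Or.inr ht
  left
  haveI : Fact (Nat.Prime 2) := ⟨Nat.prime_two⟩
  let π := QuotientGroup.mk' B.Z
  have hne : F.T1.map π ≠ ⊥ := by
    intro h
    have h1 : B.e (.a 1) ∈ B.Z := by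
      have h2 : π (B.e (.a 1)) ∈ F.T1.map π := mem_map_of_mem _ ((B.mem _).2 ⟨_, rfl⟩)
      rw [h, mem_bot] at h2
      exact (QuotientGroup.eq_one_iff _).1 h2
    rcases B.mem_Z.1 h1 with e | e
    · exact q_noncentral.1 (Or.inl (B.inj (e.trans (map_one B.e).symm)))
    · exact q_noncentral.1 (Or.inr (B.inj e))
  haveI : (F.T1.map π).Normal := F.normal.map π (QuotientGroup.mk'_surjective _)
  obtain ⟨⟨w, hwT, hwc⟩, hw1⟩ := ne_bot_iff_exists_ne_one.1
    (CfsgLib.PGroups.inf_center_ne_bot (F.isP.to_quotient B.Z) hne)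
  obtain ⟨v, hv, rfl⟩ := hwT
  have hvZ : v ∉ B.Z := fun h => hw1 (Subtype.ext ((QuotientGroup.eq_one_iff v).2 h))
  have hcen : ∀ s, s * v * s⁻¹ * v⁻¹ ∈ B.Z := fun s => by
    rw [← QuotientGroup.eq_one_iff]
    show π (s * v * s⁻¹ * v⁻¹) = 1
    rw [map_mul, map_mul, map_mul, map_inv, map_inv, Subgroup.mem_center_iff.1 hwc (π s)]
    group
  obtain ⟨a, ha, hva⟩ : ∃ a ∈ F.A, v⁻¹ * a v ∉ B.Z := by
    by_contra hall
    push Not at hall
    exact hvZ (B.mem_Z_of_fixed hv hall)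
  have hav : a v ∉ B.Z := fun h => by
    rcases B.mem_Z.1 h with e | e
    · exact hvZ ((map_eq_one_iff a a.injective).1 e ▸ one_mem _)
    · have : v = B.z := a.injective (e.trans (B.fix_z (F.map_T1 a ha)).symm)
      exact hvZ (this ▸ mem_zpowers _)
  obtain ⟨p, hp⟩ := (B.mem v).1 hv
  obtain ⟨q, hq⟩ := (B.mem _).1 (F.map_T1 a ha v hv)
  obtain ⟨y, hy⟩ := (B.mem x).1 hx
  have hlift : ∀ r : Q8, B.e r ∉ B.Z → ¬(r = 1 ∨ r = qz) := by
    rintro r hr (rfl | rfl)
    · exact hr (by rw [map_one]; exact one_mem _)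
    · exact hr (mem_zpowers _)
  obtain ⟨i, j, k, hy'⟩ := q_gen p q y (hlift p (hp ▸ hvZ)) (hlift q (hq ▸ hav))
    (hlift _ (by rw [map_mul, map_inv, hp, hq]; exact hva))
  have hx' : π x = π v ^ i.val * π (a v) ^ j.val := by
    rw [← hy, hy', map_mul B.e, map_mul B.e, map_pow B.e, map_pow B.e, map_pow B.e, hp, hq]
    have h0 : π (B.e qz) = 1 := (QuotientGroup.eq_one_iff _).2 (mem_zpowers _)
    rw [map_mul, map_mul, map_pow, map_pow, map_pow, h0, one_pow, mul_one]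
  have hvc : Commute (π t) (π v) := Subgroup.mem_center_iff.1 hwc (π t)
  have havc : Commute (π t) (π (a v)) := by
    have h := hcen t
    have h2 : a (t * v * t⁻¹ * v⁻¹) ∈ B.Z := by
      rcases B.mem_Z.1 h with e | e <;> rw [e]
      · rw [map_one]; exact one_mem _
      · rw [B.fix_z (F.map_T1 a ha)]; exact mem_zpowers _
    rw [map_mul, map_mul, map_mul, map_inv, map_inv, (F.mem_C t).1 ht a ha] at h2
    have h3 : π (t * a v * t⁻¹ * (a v)⁻¹) = 1 := (QuotientGroup.eq_one_iff _).2 h2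
    rw [map_mul, map_mul, map_mul, map_inv, map_inv, mul_inv_eq_one, mul_inv_eq_iff_eq_mul] at h3
    exact h3
  rw [← QuotientGroup.eq_one_iff]
  show π (t * x * t⁻¹ * x⁻¹) = 1
  have hc : Commute (π t) (π x) := hx' ▸ (hvc.pow_right _).mul_right (havc.pow_right _)
  rw [map_mul, map_mul, map_mul, map_inv, map_inv, hc.eq]
  group

/-- `C` centralizes `T₁`. -/
theorem comm {t x : X} (ht : t ∈ F.C) (hx : x ∈ F.T1) : t * x = x * t := by
  let h : F.T1 → X := fun y => t * (y : X) * t⁻¹ * (y : X)⁻¹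
  have hmem : ∀ y : F.T1, h y ∈ B.Z := fun y => (B.bracket_mem y.2).resolve_right fun n => n ht
  have hcen : ∀ y : F.T1, h y ∈ center X := fun y => by
    rcases B.mem_Z.1 (hmem y) with e | e <;> rw [e]
    · exact one_mem _
    · exact B.z_central
  let φ : F.T1 →* X := MonoidHom.mk' h fun y w => by
    show t * ((y * w : F.T1) : X) * t⁻¹ * ((y * w : F.T1) : X)⁻¹ = h y * h w
    push_cast
    calc t * ((y : X) * w) * t⁻¹ * ((y : X) * w)⁻¹ = t * y * t⁻¹ * h w * (y : X)⁻¹ := by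
          simp only [h]; group
      _ = h y * (y * h w * (y : X)⁻¹) := by simp only [h]; group
      _ = h y * h w := by rw [Subgroup.mem_center_iff.1 (hcen w) y, mul_inv_cancel_right]
  have hker : φ.ker = ⊤ := by
    rw [eq_top_iff, ← F.A1_gen, closure_le]
    rintro _ ⟨_, ⟨a, rfl⟩, y, rfl⟩
    show φ (y⁻¹ * F.act a y) = 1
    have ha : φ (F.act a y) = φ y := by
      show t * (a : MulAut X) (y : X) * t⁻¹ * ((a : MulAut X) (y : X))⁻¹ = h y
      have e : (a : MulAut X) (h y) = h y := by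
        rcases B.mem_Z.1 (hmem y) with e | e <;> rw [e]
        · exact map_one _
        · exact B.fix_z (F.map_T1 a a.2)
      conv_rhs => rw [← e]
      simp only [h, map_mul, map_inv, (F.mem_C t).1 ht a a.2]
    rw [map_mul, map_inv, ha, inv_mul_cancel]
  have h1 : φ ⟨x, hx⟩ = 1 := MonoidHom.mem_ker.1 (hker ▸ mem_top _)
  change t * x * t⁻¹ * x⁻¹ = 1 at h1
  rwa [mul_inv_eq_one, mul_inv_eq_iff_eq_mul] at h1

theorem exists_dec (t : X) : ∃ q ∈ F.T1, ∃ c ∈ F.C, q * c = t := by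
  have h : t ∈ F.T1 ⊔ F.C := F.sup_eq ▸ mem_top t
  exact Subgroup.mem_sup_of_normal_left.1 h

theorem C_normal : F.C.Normal := ⟨fun c hc g => by
  obtain ⟨q, hq, d, hd, rfl⟩ := B.exists_dec g
  have e : q * d * c * (q * d)⁻¹ = q * (d * c * d⁻¹) * q⁻¹ := by group
  rw [e, ← B.comm (mul_mem (mul_mem hd hc) (inv_mem hd)) hq, mul_inv_cancel_right]
  exact mul_mem (mul_mem hd hc) (inv_mem hd)⟩

theorem sq_mem_C (t : X) : t * t ∈ F.C := by
  obtain ⟨q, hq, c, hc, rfl⟩ := B.exists_dec t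
  have e : q * c * (q * c) = q * q * (c * c) := by
    rw [mul_assoc q c, ← mul_assoc c q, B.comm hc hq]; group
  rw [e]
  refine mul_mem ?_ (mul_mem hc hc)
  rcases B.sq_cases hq with (rfl | rfl) | h
  · rw [one_mul]; exact one_mem _
  · rw [B.z_sq]; exact one_mem _
  · rw [h]; exact B.z_mem_C

/-- `T/T₁` is metacyclic. -/
theorem metacyclic : Cfsg.IsMetacyclic (X ⧸ F.T1) := by
  classical
  haveI : Fact (Nat.Prime 2) := ⟨Nat.prime_two⟩
  refine Cfsg.Agent.S4397.result (F.isP.to_quotient F.T1) fun H N _ E hE h2 => ?_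
  by_contra hlt
  let π := QuotientGroup.mk' F.T1
  let ψ : (H.comap π) →* (H ⧸ N) := (QuotientGroup.mk' N).comp (π.subgroupComap H)
  have hψ : Function.Surjective ψ :=
    (QuotientGroup.mk'_surjective N).comp (π.subgroupComap_surjective_of_surjective H
      (QuotientGroup.mk'_surjective _))
  set L : Subgroup (H.comap π) := E.comap ψ with hL
  let ι : L →* X := (H.comap π).subtype.comp L.subtype
  have hι : Function.Injective ι := (H.comap π).subtype_injective.comp L.subtype_injective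
  set M : Subgroup L := (ψ.ker ⊓ F.C.comap (H.comap π).subtype).subgroupOf L with hM
  have hCn := B.C_normal
  haveI : M.Normal := by rw [hM]; infer_instance
  have hsq : ∀ l : L, l ^ 2 ∈ M := fun l => by
    refine mem_subgroupOf.2 ⟨?_, ?_⟩
    · show ψ ((l ^ 2 : L) : H.comap π) = 1
      rw [SubgroupClass.coe_pow, map_pow]
      exact h2 _ (mem_comap.1 l.2)
    · show ((H.comap π).subtype ((l ^ 2 : L) : H.comap π)) ∈ F.C
      rw [SubgroupClass.coe_pow, map_pow, pow_two]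
      exact B.sq_mem_C _
  have hfr : frattini L ≤ M :=
    CfsgLib.PGroups.NoSCNThree.frattini_le_of_squares (F.isP.of_injective ι hι) hsq
  -- `T₁` lies in `L` and in the kernel
  have hT1 : ∀ q : Fin 4, ∃ l : L, ((l : H.comap π) : X) = B.e (qrep q) ∧ ψ l = 1 := by
    intro q
    have h1 : π (B.e (qrep q)) = 1 := (QuotientGroup.eq_one_iff _).2 ((B.mem _).2 ⟨_, rfl⟩)
    have hm : B.e (qrep q) ∈ H.comap π := by rw [mem_comap, h1]; exact one_mem _
    have h2 : ψ ⟨_, hm⟩ = 1 := by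
      show QuotientGroup.mk' N (π.subgroupComap H ⟨_, hm⟩) = 1
      rw [show π.subgroupComap H ⟨_, hm⟩ = 1 from Subtype.ext h1, map_one]
    exact ⟨⟨⟨_, hm⟩, by rw [hL, mem_comap, h2]; exact one_mem _⟩, rfl, h2⟩
  choose r hr hrψ using hT1
  have hsurj : ∀ y : E, ∃ l : L, ψ l = (y : H ⧸ N) := fun y => by
    obtain ⟨l, hl⟩ := hψ y
    exact ⟨⟨l, by rw [hL, mem_comap, hl]; exact y.2⟩, hl⟩
  choose s hs using hsurj
  have hinj : Function.Injective fun p : E × Fin 4 => ((s p.1 * r p.2 : L) : L ⧸ M) := by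
    rintro ⟨y, i⟩ ⟨y', j⟩ h
    rw [QuotientGroup.eq, hM, mem_subgroupOf] at h
    obtain ⟨hk, hC⟩ := h
    have hy : y = y' := Subtype.ext (by
      have hk' : ψ ((((s y * r i)⁻¹ * (s y' * r j) : L)) : H.comap π) = 1 := hk
      push_cast at hk'
      rw [map_mul, map_inv, map_mul, map_mul, hs, hs, hrψ, hrψ, mul_one, mul_one,
        inv_mul_eq_one] at hk'
      exact hk')
    subst hy
    refine Prod.ext rfl (qrep_inj i j ?_)
    have hC' : (B.e (qrep i))⁻¹ * B.e (qrep j) ∈ F.C := by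
      have hC2 : (H.comap π).subtype ((((s y * r i)⁻¹ * (s y * r j) : L)) : H.comap π) ∈ F.C := hC
      rw [show (s y * r i)⁻¹ * (s y * r j) = (r i)⁻¹ * r j by group] at hC2
      push_cast at hC2
      rwa [map_mul, map_inv, coe_subtype, hr, hr] at hC2
    rw [← map_inv, ← map_mul] at hC'
    rcases B.inf_C ((B.mem _).2 ⟨_, rfl⟩) hC' with h | h
    · exact Or.inl (B.inj (h.trans (map_one _).symm))
    · exact Or.inr (B.inj h)
  have h1 := Nat.card_le_card_of_injective _ hinj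
  rw [Nat.card_prod, Nat.card_fin] at h1
  have h3 : M.index ≤ (frattini L).index :=
    Nat.le_of_dvd (Nat.pos_of_ne_zero index_ne_zero_of_finite) (index_dvd_of_le hfr)
  have h4 : (frattini L).index ≤ 16 :=
    CfsgLib.PGroups.MacWilliams.index_frattini_le_sixteen F.isP F.noE8 ι hι
  change _ ≤ Nat.card (L ⧸ M) at h1
  rw [← index_eq_card] at h1
  have h5 : (2 : ℕ) ^ 2 = 4 := by norm_num
  omega

end Base

/-- The square in `C` of an element over the cyclic normal subgroup. -/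
theorem Base.sq_central (B : Base F) {N : Subgroup (X ⧸ F.T1)} [N.Normal] [IsCyclic N] {w : X}
    (hw : w ∈ F.C) (hwN : (w : X ⧸ F.T1) ∈ N) (h4 : w * w * (w * w) = 1) : w * w ∈ center X := by
  obtain ⟨g, hg⟩ := IsCyclic.exists_generator (α := N)
  obtain ⟨a₀, ha₀⟩ := QuotientGroup.mk_surjective (g : X ⧸ F.T1)
  obtain ⟨q, hq, a, ha, rfl⟩ := B.exists_dec a₀
  have hag : (a : X ⧸ F.T1) = g := by
    rw [← ha₀, QuotientGroup.mk_mul, (QuotientGroup.eq_one_iff q).2 hq, one_mul]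
  have key : ∀ y ∈ F.C, (y : X ⧸ F.T1) ∈ N → ∃ n : ℤ, ∃ u ∈ B.Z, y = a ^ n * u := by
    intro y hy hyN
    obtain ⟨n, hn⟩ := mem_zpowers_iff.1 (hg ⟨_, hyN⟩)
    have hn' : (g : X ⧸ F.T1) ^ n = (y : X ⧸ F.T1) := congrArg Subtype.val hn
    rw [← hag, ← QuotientGroup.mk_zpow, QuotientGroup.eq] at hn'
    exact ⟨n, _, B.mem_Z.2 (B.inf_C hn' (mul_mem (inv_mem (zpow_mem ha n)) hy)),
      (mul_inv_cancel_left _ _).symm⟩
  have hu2 : ∀ u ∈ B.Z, u * u = 1 ∧ ∀ x : X, x * u = u * x := by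
    intro u hu
    rcases B.mem_Z.1 hu with rfl | rfl
    · simp
    · exact ⟨B.z_sq, fun x => mem_center_iff.1 B.z_central x⟩
  have hsq : ∀ (x u : X), u ∈ B.Z → x * u * (x * u) = x * x := fun x u hu => by
    obtain ⟨h1, h2⟩ := hu2 u hu
    calc x * u * (x * u) = x * (u * x) * u := by group
      _ = x * x * (u * u) := by rw [← h2 x]; group
      _ = x * x := by rw [h1, mul_one]
  obtain ⟨n, u, hu, rfl⟩ := key w hw hwN
  rw [hsq _ _ hu] at h4 ⊢
  have hc : ∀ c ∈ F.C, c * (a ^ n * a ^ n) = a ^ n * a ^ n * c := by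
    intro c hc
    have hN : ((c * a * c⁻¹ : X) : X ⧸ F.T1) ∈ N := by
      rw [QuotientGroup.mk_mul, QuotientGroup.mk_mul, QuotientGroup.mk_inv, hag]
      exact (inferInstance : N.Normal).conj_mem _ g.2 _
    obtain ⟨r, v, hv, hrv⟩ := key _ (mul_mem (mul_mem hc ha) (inv_mem hc)) hN
    have h1 : c * (a ^ n * a ^ n) * c⁻¹ = (a ^ n * a ^ n) ^ r := by
      have e : c * a ^ n * c⁻¹ = (a ^ n) ^ r * v ^ n := by
        rw [← conj_zpow, hrv, Commute.mul_zpow (show Commute (a ^ r) v from (hu2 v hv).2 _),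
          ← zpow_mul, ← zpow_mul, mul_comm r n]
      rw [show c * (a ^ n * a ^ n) * c⁻¹ = c * a ^ n * c⁻¹ * (c * a ^ n * c⁻¹) by group, e,
        hsq _ _ (zpow_mem hv n), (Commute.refl (a ^ n)).mul_zpow]
    obtain ⟨w', hw'⟩ : ∃ w', w' = a ^ n * a ^ n := ⟨_, rfl⟩
    rw [← hw'] at h4 h1 ⊢
    rcases CfsgLib.PGroups.NoSCNThree.zpow_of_sq (t := w') (by rw [pow_two]; exact h4) r with e | e
    · rw [e, conj_eq_one_iff] at h1
      rw [h1, mul_one, one_mul]
    · rw [e, mul_inv_eq_iff_eq_mul] at h1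
      exact h1
  rw [Subgroup.mem_center_iff]
  intro t
  obtain ⟨q', hq', c, hc', rfl⟩ := B.exists_dec t
  have hwC : a ^ n * a ^ n ∈ F.C := mul_mem (zpow_mem ha n) (zpow_mem ha n)
  rw [mul_assoc, hc c hc', ← mul_assoc, ← B.comm hwC hq', mul_assoc]

/-- One of three elements lies in a subgroup with cyclic quotient when the first two have squares
in it. -/
theorem exists_mem_of_cyclic {M : Type*} [Group M] [Finite M] (N : Subgroup M) [N.Normal]
    [IsCyclic (M ⧸ N)] {i j : M} (hi : i * i ∈ N) (hj : j * j ∈ N) :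
    i ∈ N ∨ j ∈ N ∨ i * j ∈ N := by
  classical
  haveI := Fintype.ofFinite (M ⧸ N)
  by_contra h
  push Not at h
  have e1 : (i : M ⧸ N) ^ 2 = 1 := by rw [pow_two, ← QuotientGroup.mk_mul]; exact (QuotientGroup.eq_one_iff _).2 hi
  have e2 : (j : M ⧸ N) ^ 2 = 1 := by rw [pow_two, ← QuotientGroup.mk_mul]; exact (QuotientGroup.eq_one_iff _).2 hj
  have hne : (i : M ⧸ N) ≠ (j : M ⧸ N) := fun e => h.2.2 (by
    rw [← QuotientGroup.eq_one_iff, QuotientGroup.mk_mul, e, ← pow_two]; exact e2)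
  have hle := IsCyclic.card_pow_eq_one_le (α := M ⧸ N) (n := 2) two_pos
  have h3 : ({1, (i : M ⧸ N), (j : M ⧸ N)} : Finset (M ⧸ N)).card ≤
      (Finset.univ.filter fun a : M ⧸ N => a ^ 2 = 1).card := by
    refine Finset.card_le_card fun a ha => ?_
    simp only [Finset.mem_insert, Finset.mem_singleton] at ha
    rcases ha with rfl | rfl | rfl <;> simp [e1, e2]
  rw [Finset.card_eq_three.2 ⟨1, _, _, fun e => h.1 ((QuotientGroup.eq_one_iff i).1 e.symm),
    fun e => h.2.1 ((QuotientGroup.eq_one_iff j).1 e.symm), hne, rfl⟩] at h3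
  omega

end Quat

open Quat in
/-- Piece three. -/
theorem quaternion : QuaternionStmt.{u} := by
  intro G _ _ _ hna T F hinv he
  obtain ⟨e⟩ := he
  haveI : Fact (Nat.Prime 2) := ⟨Nat.prime_two⟩
  let B : Base F :=
    { e := F.T1.subtype.comp e.symm.toMonoidHom
      inj := F.T1.subtype_injective.comp e.symm.injective
      mem := fun x => ⟨fun hx => ⟨e ⟨x, hx⟩, by simp⟩, fun ⟨q, hq⟩ => hq ▸ (e.symm q).2⟩ }
  obtain ⟨zt, hzt⟩ : ∃ z, z = B.z := ⟨_, rfl⟩
  have hzz : orderOf (zt : G) = 2 := by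
    rw [Subgroup.orderOf_coe]
    exact orderOf_eq_prime (by rw [pow_two, hzt, B.z_sq]) (hzt ▸ B.z_ne)
  have hzc : ∀ x ∈ (T : Subgroup G), x * (zt : G) = (zt : G) * x := fun x hx =>
    congrArg Subtype.val (mem_center_iff.1 (hzt ▸ B.z_central) ⟨x, hx⟩)
  -- a conjugate of `z` moves `z` back into `T`
  have move : ∀ t : ↥T, t ≠ zt → (∃ g₀ : G, g₀ * (t : G) * g₀⁻¹ = zt) → ∃ g : G,
      g * (t : G) * g⁻¹ = zt ∧
      (∀ x : ↥T, x * t = t * x → g * (x : G) * g⁻¹ ∈ (T : Subgroup G)) ∧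
      g * (zt : G) * g⁻¹ ≠ zt := by
    rintro t ht ⟨g₀, hg₀⟩
    obtain ⟨g, hg, hgT⟩ := exists_conj_into T hg₀ hzc
    exact ⟨g, hg, fun x hx => hgT x x.2 (congrArg Subtype.val hx), fun h =>
      ht (Subtype.ext (mul_left_cancel (mul_right_cancel (hg.trans h.symm))))⟩
  -- some conjugate different from `z` lies in `C`
  obtain ⟨t, htC, htne, htconj⟩ :
      ∃ t ∈ F.C, t ≠ zt ∧ ∃ g₀ : G, g₀ * (t : G) * g₀⁻¹ = zt := by
    obtain ⟨g₁, h1, h1'⟩ := exists_conj_ne hna T zt.2 hzz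
    obtain ⟨t, ht⟩ : ∃ t : ↥T, (t : G) = g₁ * zt * g₁⁻¹ := ⟨⟨_, h1⟩, rfl⟩
    have htc : ∃ g₀ : G, g₀ * (t : G) * g₀⁻¹ = zt := ⟨g₁⁻¹, by rw [ht]; group⟩
    have htne : t ≠ zt := fun e => h1' (ht ▸ congrArg Subtype.val e)
    have ht2 : t * t = 1 := Subtype.ext (by
      have h : (zt : G) * zt = 1 := by
        have h' := pow_orderOf_eq_one (zt : G)
        rwa [hzz, pow_two] at h'
      rw [Subgroup.coe_mul, ht, OneMemClass.coe_one,
        show g₁ * zt * g₁⁻¹ * (g₁ * zt * g₁⁻¹) = g₁ * ((zt : G) * zt) * g₁⁻¹ by group, h]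
      group)
    by_cases hC : t ∈ F.C
    · exact ⟨t, hC, htne, htc⟩
    obtain ⟨q, hq, c, hc, hqc⟩ := B.exists_dec t
    have hqz : q * q = zt := by
      rcases B.sq_cases hq with (rfl | rfl) | h
      · exact absurd (hqc ▸ (one_mul c).symm ▸ hc) hC
      · exact absurd (hqc ▸ mul_mem B.z_mem_C hc) hC
      · exact h.trans hzt.symm
    obtain ⟨g, hg, hgT, hgne⟩ := move t htne htc
    have hqt : q * t = t * q := by
      rw [← hqc, mul_assoc q c q, B.comm hc hq]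
    refine ⟨⟨g * zt * g⁻¹, hgT zt ((mem_center_iff.1 (hzt ▸ B.z_central) t).symm)⟩, ?_, fun e => hgne (congrArg Subtype.val e),
      g⁻¹, by show g⁻¹ * (g * zt * g⁻¹) * g⁻¹⁻¹ = zt; group⟩
    have e : (⟨g * zt * g⁻¹, hgT zt ((mem_center_iff.1 (hzt ▸ B.z_central) t).symm)⟩ : ↥T) =
        ⟨g * q * g⁻¹, hgT q hqt⟩ * ⟨g * q * g⁻¹, hgT q hqt⟩ := Subtype.ext (by
      show g * (zt : G) * g⁻¹ = g * (q : G) * g⁻¹ * (g * (q : G) * g⁻¹)
      rw [← hqz, Subgroup.coe_mul]; group)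
    rw [e]
    exact B.sq_mem_C _
  -- the image of `T₁`
  obtain ⟨g, hg, hgT, hgne⟩ := move t htne htconj
  have hcm : ∀ p : Q8, B.e p * t = t * B.e p := fun p =>
    (B.comm htC ((B.mem _).2 ⟨p, rfl⟩)).symm
  let φ : Q8 →* ↥T := MonoidHom.mk' (fun p => ⟨g * (B.e p : G) * g⁻¹, hgT _ (hcm p)⟩) fun p r =>
    Subtype.ext (by
      show g * ((B.e (p * r) : ↥T) : G) * g⁻¹ = g * (B.e p : G) * g⁻¹ * (g * (B.e r : G) * g⁻¹)
      rw [map_mul, Subgroup.coe_mul]; group)
  have hφz : (φ qz : G) = g * zt * g⁻¹ := by rw [hzt]; rfl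
  have hφne : φ qz ≠ zt := fun h => hgne (by rw [← hφz, h])
  have hφ1 : φ qz ≠ 1 := fun h => by
    have h' := congrArg Subtype.val h
    rw [hφz, OneMemClass.coe_one, conj_eq_one_iff] at h'
    rw [h', orderOf_one] at hzz
    omega
  obtain ⟨N, hN, hcyc, hcycq⟩ := B.metacyclic
  haveI := hN; haveI := hcyc; haveI := hcycq
  let ρ : Q8 →* (↥T ⧸ F.T1) := (QuotientGroup.mk' F.T1).comp φ
  have hzN : ρ qz ∈ N := by
    have h : commutator (↥T ⧸ F.T1) ≤ N := by
      rw [commutator_def, commutator_le]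
      intro a _ b _
      rw [← QuotientGroup.eq_one_iff]
      show QuotientGroup.mk' N ⁅a, b⁆ = 1
      rw [map_commutatorElement, commutatorElement_eq_one_iff_commute]
      letI := IsCyclic.commGroup (α := (↥T ⧸ F.T1) ⧸ N)
      exact mul_comm _ _
    rw [← q_commutator, map_mul, map_mul, map_mul, map_inv, map_inv, ← commutatorElement_def]
    exact h (commutator_mem_commutator (mem_top _) (mem_top _))
  have hsq : ∀ p : Q8, ¬(p = 1 ∨ p = qz) → p * p = qz := fun p hp => (q_sq p).resolve_left hp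
  obtain ⟨hi, hj, hk⟩ := q_noncentral
  obtain ⟨p, hp, hpN⟩ : ∃ p : Q8, p * p = qz ∧ ρ p ∈ N := by
    rcases exists_mem_of_cyclic N (i := ρ (.a 1)) (j := ρ (.xa 0))
        (by rw [← map_mul, hsq _ hi]; exact hzN) (by rw [← map_mul, hsq _ hj]; exact hzN) with h | h | h
    · exact ⟨_, hsq _ hi, h⟩
    · exact ⟨_, hsq _ hj, h⟩
    · exact ⟨_, hsq _ hk, by rw [map_mul]; exact h⟩
  obtain ⟨q, hq, w, hw, hqw⟩ := B.exists_dec (φ p)
  have hz' : φ qz = q * q * (w * w) := by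
    rw [← hp, map_mul, ← hqw, mul_assoc q w, ← mul_assoc w q, B.comm hw hq]; group
  have hqq : q * q = 1 ∨ q * q = zt := by
    rcases B.sq_cases hq with (rfl | rfl) | h
    · exact Or.inl (one_mul 1)
    · exact Or.inl B.z_sq
    · exact Or.inr (h.trans hzt.symm)
  have hztc : zt ∈ center ↥T := hzt ▸ B.z_central
  have hzt2 : zt * zt = 1 := hzt ▸ B.z_sq
  have hφ2 : φ qz * φ qz = 1 := by
    rw [← map_mul, show qz * qz = 1 by decide +kernel, map_one]
  have hw4 : w * w * (w * w) = 1 := by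
    have e : w * w = q * q * φ qz := by
      rw [hz']
      rcases hqq with h | h <;> rw [h]
      · simp
      · rw [← mul_assoc, hzt2, one_mul]
    rw [e]
    rcases hqq with h | h <;> rw [h]
    · rw [one_mul, hφ2]
    · rw [show zt * φ qz * (zt * φ qz) = zt * (φ qz * zt) * φ qz by group,
        mem_center_iff.1 hztc (φ qz), ← mul_assoc, hzt2, one_mul, hφ2]
  have hwN : ((w : ↥T) : ↥T ⧸ F.T1) ∈ N := by
    have h : (φ p : ↥T ⧸ F.T1) ∈ N := hpN
    rwa [← hqw, QuotientGroup.mk_mul, (QuotientGroup.eq_one_iff q).2 hq, one_mul] at h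
  have hzc' : φ qz ∈ center ↥T := by
    rw [hz']
    refine mul_mem ?_ (B.sq_central hw hwN hw4)
    rcases hqq with h | h <;> rw [h]
    · exact one_mem _
    · exact hztc
  -- Burnside
  obtain ⟨n, hn, hconj⟩ := CfsgLib.Transfer.exists_mem_normalizer_conj T (x := (zt : G)) (g := g)
    (mem_centralizer_iff.2 fun a ha => hzc a ha)
    (mem_centralizer_iff.2 fun a ha => congrArg Subtype.val (mem_center_iff.1 hzc' ⟨a, ha⟩))
    hφz.symm
  have hmem := hinv n hn zt (φ qz) hconj.symm (hzt ▸ B.z_mem)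
  rcases B.invol hmem hφ2 with h | h
  · exact hφ1 h
  · exact hφne (h.trans hzt.symm)

end CfsgLib.NormalRankTwo
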