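import Cfsg.Agent.Lib.NormalRankTwo.Defs

/-!
# The central four-group moved by an automorphism of odd order
-/

set_option autoImplicit false
set_option linter.unusedSectionVars false

namespace CfsgLib.NormalRankTwo.Special

open Subgroup CfsgLib.PGroups CfsgLib.PGroups.NoSCNThree
open scoped commutatorElement

variable {X : Type*} [Group X] [Finite X]

/-- The subgroup of central elements of exponent two. -/
def omegaCenter (X : Type*) [Group X] : Subgroup X where
  carrier := {x | x ∈ center X ∧ x ^ 2 = 1}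
  one_mem' := ⟨one_mem _, one_pow 2⟩
  mul_mem' := fun {a b} ha hb => ⟨mul_mem ha.1 hb.1, by
    rw [Commute.mul_pow (Subgroup.mem_center_iff.1 hb.1 a), ha.2, hb.2, one_mul]⟩
  inv_mem' := fun {a} ha => ⟨inv_mem ha.1, by rw [inv_pow, ha.2, inv_one]⟩

theorem mem_omegaCenter {x : X} : x ∈ omegaCenter X ↔ x ∈ center X ∧ x ^ 2 = 1 := Iff.rfl

theorem omegaCenter_le : omegaCenter X ≤ center X := fun _ h => h.1

instance omegaCenter_normal : (omegaCenter X).Normal := normal_of_le_center omegaCenter_le

theorem map_mem_center (φ : MulAut X) {x : X} (hx : x ∈ center X) : φ x ∈ center X := by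
  rw [Subgroup.mem_center_iff] at hx ⊢
  intro y
  have h := congrArg φ (hx (φ.symm y))
  rwa [map_mul, map_mul, MulEquiv.apply_symm_apply] at h

theorem map_mem_omegaCenter (φ : MulAut X) {x : X} (hx : x ∈ omegaCenter X) :
    φ x ∈ omegaCenter X :=
  ⟨map_mem_center φ hx.1, by rw [← map_pow, hx.2, map_one]⟩

instance omegaCenter_char : (omegaCenter X).Characteristic :=
  characteristic_iff_map_le.2 fun φ => by
    rintro _ ⟨x, hx, rfl⟩
    exact map_mem_omegaCenter φ hx

theorem omegaCenter_comm : IsMulCommutative (omegaCenter X) :=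
  ⟨⟨fun a b => Subtype.ext (Subgroup.mem_center_iff.1 b.2.1 (a : X))⟩⟩

/-- An automorphism of the given group of odd order moves a central involution. -/
structure Moved (A : Subgroup (MulAut X)) where
  φ : MulAut X
  mem : φ ∈ A
  z : X
  z_mem : z ∈ omegaCenter X
  moved : φ z ≠ z

variable {A : Subgroup (MulAut X)} (M : Moved A) (h8 : CharE8 X) (hA : Odd (Nat.card A))

include h8 in
theorem Moved.card_le : Nat.card (omegaCenter X) ≤ 4 :=
  h8 _ inferInstance omegaCenter_comm fun _ h => h.2

include h8 hA in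
theorem Moved.fixed {e : X} (he : e ∈ omegaCenter X) (hf : M.φ e = e) : e = 1 := by
  by_contra h
  exact M.moved (fix_of_card_four hA (odd_pow_eq_one M.mem) (Moved.card_le h8)
    (fun w hw => map_mem_omegaCenter M.φ hw) he h hf M.z_mem)

include h8 hA in
theorem Moved.cases {e : X} (he : e ∈ omegaCenter X) (he1 : e ≠ 1) {x : X}
    (hx : x ∈ omegaCenter X) : x = 1 ∨ x = e ∨ x = M.φ e ∨ x = M.φ (M.φ e) := by
  classical
  by_contra hcon
  rw [not_or, not_or, not_or] at hcon
  obtain ⟨h1, h2, h3, h4⟩ := hcon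
  have hφe : M.φ e ≠ e := fun h => he1 (M.fixed h8 hA he h)
  have hφ2 : M.φ (M.φ e) ≠ e := fun h => hφe (pow_odd_fix hA (odd_pow_eq_one M.mem) h)
  have hφ3 : M.φ (M.φ e) ≠ M.φ e := fun h => hφe (M.φ.injective h)
  have h5 : M.φ e ≠ 1 := fun h => he1 (M.φ.injective (h.trans (map_one M.φ).symm))
  have h6 : M.φ (M.φ e) ≠ 1 := fun h => h5 (M.φ.injective (h.trans (map_one M.φ).symm))
  have hsub : ({1, e, M.φ e, M.φ (M.φ e), x} : Finset X) ⊆
      (Set.toFinite (omegaCenter X : Set X)).toFinset := by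
    intro y hy
    simp only [Finset.mem_insert, Finset.mem_singleton] at hy
    rw [Set.Finite.mem_toFinset]
    rcases hy with rfl | rfl | rfl | rfl | rfl
    exacts [one_mem _, he, map_mem_omegaCenter _ he,
      map_mem_omegaCenter _ (map_mem_omegaCenter _ he), hx]
  have hcard := Finset.card_le_card hsub
  have hW : (Set.toFinite (omegaCenter X : Set X)).toFinset.card = Nat.card (omegaCenter X) :=
    (Nat.card_eq_card_finite_toFinset _).symm
  have h7 := Moved.card_le h8 (X := X)
  simp [he1.symm, h5.symm, h6.symm, Ne.symm h1, hφe.symm, hφ2.symm, hφ3.symm, Ne.symm h2,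
    Ne.symm h3, Ne.symm h4] at hcard
  omega

include h8 hA in
theorem Moved.prod {e : X} (he : e ∈ omegaCenter X) :
    e * M.φ e * M.φ (M.φ e) = 1 ∧ M.φ (M.φ (M.φ e)) = e := by
  have hc : ∀ a : X, ∀ b ∈ omegaCenter X, a * b = b * a := fun a b hb =>
    Subgroup.mem_center_iff.1 hb.1 a
  have h1 := map_mem_omegaCenter M.φ he
  have h2 := map_mem_omegaCenter M.φ h1
  have h3 := map_mem_omegaCenter M.φ h2
  by_cases he1 : e = 1
  · simp [he1]
  have hne : M.φ e ≠ e := fun h => he1 (M.fixed h8 hA he h)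
  have hcube : M.φ (M.φ (M.φ e)) = e := by
    rcases M.cases h8 hA he he1 h3 with h | h | h | h
    · exact absurd (M.φ.injective (M.φ.injective (M.φ.injective
        (h.trans (by simp only [map_one]) : M.φ (M.φ (M.φ e)) = M.φ (M.φ (M.φ 1)))))) he1
    · exact h
    · exact absurd (pow_odd_fix hA (odd_pow_eq_one M.mem) (M.φ.injective h)) hne
    · exact absurd (M.φ.injective (M.φ.injective h)) hne
  refine ⟨M.fixed h8 hA (mul_mem (mul_mem he h1) h2) ?_, hcube⟩
  rw [map_mul, map_mul, hcube, hc _ _ he, mul_assoc]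

include h8 hA in
/-- Every member of the group acts on the four-group as a power of `φ`. -/
theorem Moved.act {b : MulAut X} (hb : b ∈ A) :
    (∀ e ∈ omegaCenter X, b e = e) ∨ (∀ e ∈ omegaCenter X, b e = M.φ e) ∨
      (∀ e ∈ omegaCenter X, b e = M.φ (M.φ e)) := by
  have hz1 : M.z ≠ 1 := fun h => M.moved (by rw [h, map_one])
  have key : ∀ c ∈ A, c M.z = M.z → ∀ e ∈ omegaCenter X, c e = e := fun c hc hcz e he =>
    fix_of_card_four hA (odd_pow_eq_one hc) (Moved.card_le h8)
      (fun w hw => map_mem_omegaCenter c hw) M.z_mem hz1 hcz he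
  rcases M.cases h8 hA M.z_mem hz1 (map_mem_omegaCenter b M.z_mem) with h | h | h | h
  · exact absurd (b.injective (h.trans (map_one b).symm)) hz1
  · exact Or.inl (key b hb h)
  · refine Or.inr (Or.inl fun e he => ?_)
    have h' := key (M.φ⁻¹ * b) (mul_mem (inv_mem M.mem) hb)
      (by rw [MulAut.mul_apply, h, MulAut.inv_def, MulEquiv.symm_apply_apply]) e he
    rwa [MulAut.mul_apply, MulAut.inv_def, MulEquiv.symm_apply_eq] at h'
  · refine Or.inr (Or.inr fun e he => ?_)
    have h' := key (M.φ⁻¹ * (M.φ⁻¹ * b)) (mul_mem (inv_mem M.mem) (mul_mem (inv_mem M.mem) hb))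
      (by simp only [MulAut.mul_apply, h, MulAut.inv_def, MulEquiv.symm_apply_apply]) e he
    rwa [MulAut.mul_apply, MulAut.mul_apply, MulAut.inv_def, MulEquiv.symm_apply_eq,
      MulEquiv.symm_apply_eq] at h'

include M h8 hA in
theorem Moved.four_le : 4 ≤ Nat.card (omegaCenter X) := by
  classical
  have hz1 : M.z ≠ 1 := fun h => M.moved (by rw [h, map_one])
  have h1 := map_mem_omegaCenter M.φ M.z_mem
  have h2 := map_mem_omegaCenter M.φ h1
  have hsub : ({1, M.z, M.φ M.z, M.φ (M.φ M.z)} : Finset X) ⊆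
      (Set.toFinite (omegaCenter X : Set X)).toFinset := by
    intro y hy
    simp only [Finset.mem_insert, Finset.mem_singleton] at hy
    rw [Set.Finite.mem_toFinset]
    rcases hy with rfl | rfl | rfl | rfl
    exacts [one_mem _, M.z_mem, h1, h2]
  have hcard := Finset.card_le_card hsub
  have hW : (Set.toFinite (omegaCenter X : Set X)).toFinset.card = Nat.card (omegaCenter X) :=
    (Nat.card_eq_card_finite_toFinset _).symm
  have hb : M.φ (M.φ M.z) ≠ M.z := fun h =>
    M.moved (pow_odd_fix hA (odd_pow_eq_one M.mem) h)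
  have hc : M.φ (M.φ M.z) ≠ M.φ M.z := fun h => M.moved (M.φ.injective h)
  have hd : M.φ M.z ≠ 1 := fun h => hz1 (M.φ.injective (h.trans (map_one M.φ).symm))
  have he : M.φ (M.φ M.z) ≠ 1 := fun h => hd (M.φ.injective (h.trans (map_one M.φ).symm))
  simp [hz1.symm, hd.symm, he.symm, M.moved.symm, hb.symm, hc.symm] at hcard
  omega

end CfsgLib.NormalRankTwo.Special
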