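import Cfsg.Agent.Lib.NormalRankTwo.SpecialReduce
import Cfsg.Agent.Lib.PGroups.MacWilliams.Main
import Cfsg.Agent.Lib.PGroups.UniqueOrderP

/-!
# The special groups occurring
-/

set_option autoImplicit false
set_option linter.unusedSectionVars false
set_option linter.style.haveILetI false

namespace CfsgLib.NormalRankTwo.Special

open Subgroup CfsgLib.PGroups CfsgLib.PGroups.NoSCNThree
open scoped commutatorElement

variable {X : Type*} [Group X] [Finite X]

/-- If the noncentral squares all coincide and there are at least eight cosets of the centre,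
the group is abelian. -/
theorem false_of_const_squares (hna : ¬ IsMulCommutative X)
    (h2 : ∀ z ∈ center X, z ^ 2 = 1) {c : X} (hc : c ∈ center X)
    (hall : ∀ x : X, x ∉ center X → x ^ 2 = c) (h8 : 8 ≤ (center X).index) : False := by
  classical
  have hcc : c * c = 1 := by rw [← pow_two]; exact h2 c hc
  have hcz : ∀ g : X, g * c = c * g := Subgroup.mem_center_iff.1 hc
  have key : ∀ u v : X, u ∉ center X → v ∉ center X → u * v ∉ center X → v * u = u * v * c := by
    intro u v hu hv huv
    have h1 : u * v * (u * v) = c := by rw [← pow_two]; exact hall _ huv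
    have h3 : v * u = u⁻¹ * c * v⁻¹ := by
      calc v * u = u⁻¹ * (u * v * (u * v)) * v⁻¹ := by group
        _ = u⁻¹ * c * v⁻¹ := by rw [h1]
    have hu' : u⁻¹ = u * c := inv_eq_of_mul_eq_one_right (by
      rw [← mul_assoc, ← pow_two, hall u hu, hcc])
    have hv' : v⁻¹ = v * c := inv_eq_of_mul_eq_one_right (by
      rw [← mul_assoc, ← pow_two, hall v hv, hcc])
    rw [h3, hu', hv', mul_assoc u c c, hcc, mul_one, ← mul_assoc]
  let π := QuotientGroup.mk' (center X)
  have hπ : ∀ g : X, π g = 1 ↔ g ∈ center X := QuotientGroup.eq_one_iff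
  letI := Fintype.ofFinite (X ⧸ center X)
  have hQ : 8 ≤ Fintype.card (X ⧸ center X) := by
    rwa [← Nat.card_eq_fintype_card, ← Subgroup.index_eq_card]
  have pick : ∀ F : Finset (X ⧸ center X), F.card < 8 → ∃ g : X, π g ∉ F := by
    intro F hF
    obtain ⟨q, -, hq⟩ := Finset.exists_mem_notMem_of_card_lt_card
      (show F.card < (Finset.univ : Finset (X ⧸ center X)).card by
        rw [Finset.card_univ]; omega)
    obtain ⟨g, rfl⟩ := QuotientGroup.mk'_surjective (center X) q
    exact ⟨g, hq⟩
  obtain ⟨u, hu⟩ := pick {1} (by simp)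
  obtain ⟨v, hv⟩ := pick {1, (π u)⁻¹} (Finset.card_le_two.trans_lt (by norm_num))
  obtain ⟨w, hw⟩ := pick {1, (π u)⁻¹, (π v)⁻¹, (π u * π v)⁻¹}
    (Finset.card_le_four.trans_lt (by norm_num))
  simp only [Finset.mem_insert, Finset.mem_singleton, not_or] at hu hv hw
  obtain ⟨hw1, hwu, hwv, hwuv⟩ := hw
  have n : ∀ g : X, π g ≠ 1 → g ∉ center X := fun g h hg => h ((hπ g).2 hg)
  have huv : u * v ∉ center X := n _ (by
    rw [map_mul]; exact fun h => hv.2 (eq_inv_of_mul_eq_one_right h))
  have huw : u * w ∉ center X := n _ (by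
    rw [map_mul]; exact fun h => hwu (eq_inv_of_mul_eq_one_right h))
  have hvw : v * w ∉ center X := n _ (by
    rw [map_mul]; exact fun h => hwv (eq_inv_of_mul_eq_one_right h))
  have huvw : u * (v * w) ∉ center X := n _ (by
    rw [map_mul, map_mul, ← mul_assoc]; exact fun h => hwuv (eq_inv_of_mul_eq_one_right h))
  have e1 := key u v (n _ hu) (n _ hv.1) huv
  have e2 := key u w (n _ hu) (n _ hw1) huw
  have e3 := key u (v * w) (n _ hu) hvw huvw
  have hc1 : c = 1 := by
    have : u * (v * w) = u * (v * w) * c := by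
      rw [← e3]
      calc u * (v * w) = u * v * c * (c * w) := by
            rw [mul_assoc (u * v), ← mul_assoc c, hcc, one_mul, mul_assoc]
        _ = v * u * (c * w) := by rw [e1]
        _ = v * (u * (w * c)) := by rw [hcz, mul_assoc v]
        _ = v * (w * u) := by rw [e2, mul_assoc u w c]
        _ = v * w * u := (mul_assoc _ _ _).symm
    exact (left_eq_mul.1 this)
  have hall' : ∀ x : X, x ^ 2 = 1 := fun x => by
    by_cases hx : x ∈ center X
    · exact h2 x hx
    · rw [hall x hx, hc1]
  exact hna ⟨⟨comm_of_sq_one hall'⟩⟩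

theorem not_isCyclic_center_quotient (hna : ¬ IsMulCommutative X) :
    ¬ IsCyclic (X ⧸ center X) := fun h => hna <|
  haveI := h
  MonoidHom.isMulCommutative_of_isCyclic_of_ker_le_center (QuotientGroup.mk' (center X))
    (le_of_eq (QuotientGroup.ker_mk' _))

/-- The group acts on the cosets of the centre. -/
@[instance_reducible]
def actCenter (A : Subgroup (MulAut X)) : MulAction A (X ⧸ center X) where
  smul a q := QuotientGroup.map (center X) (center X) (a : MulAut X).toMonoidHom
    (fun _ hx => map_mem_center (a : MulAut X) hx) q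
  one_smul q := by
    induction q using QuotientGroup.induction_on with
    | _ x => rfl
  mul_smul a b q := by
    induction q using QuotientGroup.induction_on with
    | _ x => rfl

/-- With at most eight cosets of the centre, the noncentral squares all coincide, provided the
action on the central involutions is trivial when there are four cosets. -/
theorem const_squares (hX : IsPGroup 2 X) (A : Subgroup (MulAut X)) (hA : Odd (Nat.card A))
    (hXA : Subgroup.closure {g : X | ∃ φ ∈ A, ∃ x : X, g = x⁻¹ * φ x} = ⊤)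
    (hcm : commutator X = center X) (h2 : ∀ z ∈ center X, z ^ 2 = 1)
    (hΦ : ∀ x : X, x ^ 2 ∈ center X) (hZ : Nat.card (center X) ≤ 4)
    (hidx : (center X).index = 8 ∨ ((center X).index = 4 ∧ Nat.card (center X) ≤ 2)) :
    ∃ c ∈ center X, ∀ x : X, x ∉ center X → x ^ 2 = c := by
  classical
  letI : MulAction A (X ⧸ center X) := actCenter A
  have hsm : ∀ (a : A) (x : X), a • (x : X ⧸ center X) = (((a : MulAut X) x : X) : X ⧸ center X) :=
    fun a x => rfl
  have hodd : ∀ q : X ⧸ center X, Odd ((MulAction.orbit A q).ncard) := fun q => by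
    rw [← MulAction.index_stabilizer]; exact hA.of_dvd_nat (Subgroup.index_dvd_card _)
  have horb : ∀ q : X ⧸ center X, q ≠ 1 → 3 ≤ (MulAction.orbit A q).ncard := by
    intro q hq
    obtain ⟨x, rfl⟩ := QuotientGroup.mk_surjective q
    by_contra hlt
    obtain ⟨j, hj⟩ := hodd (x : X ⧸ center X)
    have h1 : (MulAction.orbit A (x : X ⧸ center X)).ncard = 1 := by omega
    obtain ⟨w, hw⟩ := Set.ncard_eq_one.1 h1
    refine hq ((QuotientGroup.eq_one_iff x).2 (hcm ▸ mem_commutator_of_fixed_mod hX A hA hXA ?_))
    intro a ha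
    rw [hcm, ← QuotientGroup.eq_one_iff, QuotientGroup.mk_mul, QuotientGroup.mk_inv,
      inv_mul_eq_one]
    have h3 := MulAction.mem_orbit (x : X ⧸ center X) (⟨a, ha⟩ : A)
    have h4 := MulAction.mem_orbit_self (M := A) (x : X ⧸ center X)
    rw [hw, Set.mem_singleton_iff] at h3 h4
    exact h4.trans h3.symm
  have h1notmem : ∀ q : X ⧸ center X, q ≠ 1 → (1 : X ⧸ center X) ∉ MulAction.orbit A q := by
    intro q hq h
    obtain ⟨a, ha⟩ := h
    refine hq ((eq_inv_smul_iff.2 ha).trans ?_)
    rw [← QuotientGroup.mk_one, hsm, map_one]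
  have hQ : Nat.card (X ⧸ center X) ≤ 8 := by
    rw [← Subgroup.index_eq_card]; rcases hidx with h | ⟨h, -⟩ <;> omega
  have hdisj : ∀ q r : X ⧸ center X, r ∉ MulAction.orbit A q →
      Disjoint (MulAction.orbit A q) (MulAction.orbit A r) := by
    intro q r h
    rw [Set.disjoint_left]
    intro s hs hs'
    refine h ?_
    rw [← MulAction.orbit_eq_iff.2 hs, MulAction.orbit_eq_iff.2 hs']
    exact MulAction.mem_orbit_self r
  have htrans : ∀ q r : X ⧸ center X, q ≠ 1 → r ≠ 1 → r ∈ MulAction.orbit A q := by
    intro q r hq hr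
    by_contra hrq
    have hd := hdisj q r hrq
    obtain ⟨i, hi⟩ := hodd q
    obtain ⟨j, hj⟩ := hodd r
    have hsub : MulAction.orbit A q ∪ MulAction.orbit A r ⊆ ({1}ᶜ : Set (X ⧸ center X)) := by
      intro s hs h
      rw [Set.mem_singleton_iff] at h
      subst h
      rcases hs with h | h
      · exact h1notmem q hq h
      · exact h1notmem r hr h
    have hc1 : ({1}ᶜ : Set (X ⧸ center X)).ncard = Nat.card (X ⧸ center X) - 1 := by
      rw [Set.ncard_compl, Set.ncard_singleton]
    have hcard := Set.ncard_le_ncard hsub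
    rw [Set.ncard_union_eq hd, hc1] at hcard
    have := horb q hq
    have := horb r hr
    by_cases hall : MulAction.orbit A q ∪ MulAction.orbit A r = ({1}ᶜ : Set (X ⧸ center X))
    · have := congrArg Set.ncard hall
      rw [Set.ncard_union_eq hd, hc1] at this
      rcases hidx with h | ⟨h, -⟩ <;> rw [Subgroup.index_eq_card] at h <;> omega
    · obtain ⟨s, hs1, hs⟩ := Set.exists_of_ssubset (lt_of_le_of_ne hsub hall)
      rw [Set.mem_compl_iff, Set.mem_singleton_iff] at hs1
      rw [Set.mem_union, not_or] at hs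
      have hd2 : Disjoint (MulAction.orbit A q ∪ MulAction.orbit A r) (MulAction.orbit A s) :=
        Set.disjoint_union_left.2 ⟨hdisj q s hs.1, hdisj r s hs.2⟩
      have hsub2 : MulAction.orbit A q ∪ MulAction.orbit A r ∪ MulAction.orbit A s ⊆
          ({1}ᶜ : Set (X ⧸ center X)) := Set.union_subset hsub (by
        intro t ht h
        rw [Set.mem_singleton_iff] at h
        exact h1notmem s hs1 (h ▸ ht))
      have := Set.ncard_le_ncard hsub2
      rw [Set.ncard_union_eq hd2, Set.ncard_union_eq hd, hc1] at this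
      have := horb s hs1
      omega
  have hsq : ∀ x y : X, (x : X ⧸ center X) = y → x ^ 2 = y ^ 2 := by
    intro x y h
    obtain ⟨z, hz, rfl⟩ : ∃ z ∈ center X, y = x * z :=
      ⟨x⁻¹ * y, QuotientGroup.eq.1 h, (mul_inv_cancel_left _ _).symm⟩
    rw [Commute.mul_pow (Subgroup.mem_center_iff.1 hz x), h2 z hz, mul_one]
  obtain ⟨u, hu⟩ : ∃ u : X, u ∉ center X := by
    by_contra h
    push Not at h
    have : center X = ⊤ := eq_top_iff.2 fun x _ => h x
    rw [this, Subgroup.index_top] at hidx
    omega
  have hu1 : (u : X ⧸ center X) ≠ 1 := fun h => hu ((QuotientGroup.eq_one_iff u).1 h)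
  have hfix : ∀ a : A, (a : MulAut X) (u ^ 2) = u ^ 2 := by
    letI : MulAction A X := MulAction.compHom X A.subtype
    have hX' : ∀ (a : A) (y : X), a • y = (a : MulAut X) y := fun _ _ => rfl
    have hle : MulAction.stabilizer A (u : X ⧸ center X) ≤ MulAction.stabilizer A (u ^ 2) := by
      intro a ha
      rw [MulAction.mem_stabilizer_iff] at ha ⊢
      rw [hX', map_pow]
      exact hsq _ _ ((hsm a u).symm.trans ha)
    have hdvd := Subgroup.index_dvd_of_le hle
    rw [MulAction.index_stabilizer, MulAction.index_stabilizer] at hdvd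
    have hN : (MulAction.orbit A (u : X ⧸ center X)).ncard = (center X).index - 1 := by
      have : MulAction.orbit A (u : X ⧸ center X) = ({1}ᶜ : Set (X ⧸ center X)) := by
        ext s
        exact ⟨fun hs h => h1notmem _ hu1 (Set.mem_singleton_iff.1 h ▸ hs),
          fun hs => htrans _ _ hu1 hs⟩
      rw [this, Set.ncard_compl, Set.ncard_singleton, Subgroup.index_eq_card]
    have hZ' : (MulAction.orbit A (u ^ 2)).ncard ≤ Nat.card (center X) := by
      refine (Set.ncard_le_ncard (t := (center X : Set X)) ?_).trans_eq (Nat.card_coe_set_eq _).symm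
      rintro _ ⟨a, rfl⟩
      exact map_mem_center (a : MulAut X) (hΦ u)
    have hodd' : Odd (MulAction.orbit A (u ^ 2)).ncard := by
      rw [← MulAction.index_stabilizer]; exact hA.of_dvd_nat (Subgroup.index_dvd_card _)
    have h1 : (MulAction.orbit A (u ^ 2)).ncard = 1 := by
      obtain ⟨j, hj⟩ := hodd'
      rw [hN] at hdvd
      rcases hidx with h | ⟨h, hZ2⟩
      · rw [h] at hdvd
        rcases (Nat.dvd_prime (by norm_num)).1 hdvd with h' | h' <;> omega
      · omega
    obtain ⟨w, hw⟩ := Set.ncard_eq_one.1 h1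
    intro a
    have h3 := MulAction.mem_orbit (u ^ 2) a
    have h4 := MulAction.mem_orbit_self (M := A) (u ^ 2)
    rw [hw, Set.mem_singleton_iff] at h3 h4
    exact h3.trans h4.symm
  refine ⟨u ^ 2, hΦ u, fun x hx => ?_⟩
  obtain ⟨a, ha⟩ := htrans (u : X ⧸ center X) x hu1 (fun h => hx ((QuotientGroup.eq_one_iff x).1 h))
  rw [← hfix a, map_pow]
  exact hsq _ _ (((hsm a u).symm.trans ha).symm)

theorem card_center_of_index_four (hna : ¬ IsMulCommutative X)
    (hidx : (center X).index = 4) (h2 : ∀ z ∈ center X, z ^ 2 = 1)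
    (hcm : commutator X = center X) : Nat.card (center X) ≤ 2 := by
  classical
  let π := QuotientGroup.mk' (center X)
  have hπ : ∀ g : X, π g = 1 ↔ g ∈ center X := QuotientGroup.eq_one_iff
  obtain ⟨u, v, huv⟩ : ∃ u v : X, u * v ≠ v * u := by
    by_contra h; push Not at h; exact hna ⟨⟨h⟩⟩
  have hc : ∀ g h : X, ⁅g, h⁆ ∈ center X := fun g h => by
    rw [← hcm, _root_.commutator_def]; exact commutator_mem_commutator (mem_top g) (mem_top h)
  set c := ⁅u, v⁆ with hcdef
  have hcz : c ∈ center X := hc u v
  haveI : (zpowers c).Normal := normal_of_le_center (zpowers_le.2 hcz)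
  have hu : π u ≠ 1 := fun h => huv (Subgroup.mem_center_iff.1 ((hπ u).1 h) v).symm
  have hv : π v ≠ 1 := fun h => huv (Subgroup.mem_center_iff.1 ((hπ v).1 h) u)
  have huv' : π u ≠ π v := fun h => huv (by
    have hm : u⁻¹ * v ∈ center X := QuotientGroup.eq.1 h
    have e := Subgroup.mem_center_iff.1 hm u
    calc u * v = u * (u * (u⁻¹ * v)) := by group
      _ = u * (u⁻¹ * v * u) := by rw [e]
      _ = v * u := by group)
  have h3 : π u * π v ≠ 1 := fun h => huv (by
    rw [← map_mul, hπ] at h
    exact ((mul_left_cancel ((Subgroup.mem_center_iff.1 h u).trans (mul_assoc u v u)))))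
  letI := Fintype.ofFinite (X ⧸ center X)
  have hall : ∀ q : X ⧸ center X, q ∈ ({1, π u, π v, π u * π v} : Finset _) := by
    have : ({1, π u, π v, π u * π v} : Finset (X ⧸ center X)) = Finset.univ := by
      refine Finset.eq_univ_of_card _ ?_
      rw [← Nat.card_eq_fintype_card, ← Subgroup.index_eq_card, hidx]
      have h4 : π u * π v ≠ π u := fun h => hv (mul_eq_left.1 h)
      have h5 : π u * π v ≠ π v := fun h => hu (mul_eq_right.1 h)
      simp [hu.symm, hv.symm, huv', h3.symm, h4.symm, h5.symm]
    intro q; rw [this]; exact Finset.mem_univ q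
  let π' := QuotientGroup.mk' (zpowers c)
  have hcomm : Commute (π' u) (π' v) := by
    rw [← commutatorElement_eq_one_iff_commute, ← map_commutatorElement]
    exact (QuotientGroup.eq_one_iff c).2 (mem_zpowers c)
  have hz : ∀ z ∈ center X, ∀ g : X, Commute (π' z) (π' g) := fun z hz g =>
    (Commute.map ((Subgroup.mem_center_iff.1 hz g).symm : Commute z g) π')
  have hrep : ∀ g : X, ∀ h ∈ ({π' u, π' v} : Set (X ⧸ zpowers c)), Commute (π' g) h := by
    intro g
    have hg := hall (π g)
    simp only [Finset.mem_insert, Finset.mem_singleton, ← map_mul] at hg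
    intro h hh
    have key : ∀ r : X, π g = π r → Commute (π' r) h → Commute (π' g) h := by
      intro r hr hc'
      have hm : r⁻¹ * g ∈ center X := QuotientGroup.eq.1 hr.symm
      have e : π' g = π' r * π' (r⁻¹ * g) := by rw [← map_mul, mul_inv_cancel_left]
      rw [e]
      refine hc'.mul_left ?_
      rcases hh with rfl | rfl <;> exact hz _ hm _
    rcases hh with rfl | rfl <;> rcases hg with e | e | e | e
    · exact key 1 (e.trans (map_one π).symm) (by rw [map_one]; exact Commute.one_left _)
    · exact key u e (Commute.refl _)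
    · exact key v e hcomm.symm
    · exact key _ e (by rw [map_mul]; exact (Commute.refl _).mul_left hcomm.symm)
    · exact key 1 (e.trans (map_one π).symm) (by rw [map_one]; exact Commute.one_left _)
    · exact key u e hcomm
    · exact key v e (Commute.refl _)
    · exact key _ e (by rw [map_mul]; exact hcomm.mul_left (Commute.refl _))
  have habel : ∀ g h : X, Commute (π' g) (π' h) := by
    intro g h
    have hh := hall (π h)
    simp only [Finset.mem_insert, Finset.mem_singleton, ← map_mul] at hh
    have key : ∀ r : X, π h = π r → Commute (π' g) (π' r) → Commute (π' g) (π' h) := by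
      intro r hr hc'
      have hm : r⁻¹ * h ∈ center X := QuotientGroup.eq.1 hr.symm
      have e : π' h = π' r * π' (r⁻¹ * h) := by rw [← map_mul, mul_inv_cancel_left]
      rw [e]
      exact hc'.mul_right (hz _ hm g).symm
    rcases hh with e | e | e | e
    · exact key 1 (e.trans (map_one π).symm) (by rw [map_one]; exact Commute.one_right _)
    · exact key u e (hrep g _ (Or.inl rfl))
    · exact key v e (hrep g _ (Or.inr rfl))
    · exact key _ e (by rw [map_mul]; exact (hrep g _ (Or.inl rfl)).mul_right (hrep g _ (Or.inr rfl)))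
  have hle : center X ≤ zpowers c := by
    rw [← hcm, _root_.commutator_def, Subgroup.commutator_le]
    intro g _ h _
    rw [← QuotientGroup.eq_one_iff]
    show π' ⁅g, h⁆ = 1
    rw [map_commutatorElement, commutatorElement_eq_one_iff_commute]
    exact habel g h
  refine (Subgroup.card_le_of_le hle).trans ?_
  rw [Nat.card_zpowers]
  exact Nat.le_of_dvd (by norm_num) (orderOf_dvd_of_pow_eq_one (h2 c hcz))

/-- The classification. -/
theorem classification (hX : IsPGroup 2 X) (h8 : CharE8 X) (hR : RankFour X)
    (hna : ¬ IsMulCommutative X) (A : Subgroup (MulAut X)) (hA : Odd (Nat.card A))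
    (hXA : Subgroup.closure {g : X | ∃ φ ∈ A, ∃ x : X, g = x⁻¹ * φ x} = ⊤) :
    Nonempty (X ≃* QuaternionGroup 2) ∨ SpecialSixteen X := by
  classical
  haveI : Fact (Nat.Prime 2) := ⟨Nat.prime_two⟩
  obtain ⟨hsp, h2, hZ⟩ := isSpecial_of_not_scn3 hX h8 hR hna A hA hXA
  have hcm := hsp.2.2
  have hΦ : ∀ x : X, x ^ 2 ∈ center X := fun x => hsp.2.1 ▸ pow_mem_frattini hX x
  have hidx16 : (center X).index ≤ 16 := by
    have hdvd : (frattini X).index ≤ (frattini (⊤ : Subgroup X)).index := by
      rw [← relIndex_top_right (frattini X)]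
      exact Nat.le_of_dvd (Nat.pos_of_ne_zero index_ne_zero_of_finite)
        (index_dvd_of_le (frattini_le_of_squares (hX.to_subgroup ⊤)
          (N := (frattini X).subgroupOf ⊤) fun w => pow_mem_frattini hX (w : X)))
    rw [← hsp.2.1]
    exact hdvd.trans (hR ⊤)
  obtain ⟨j, hj⟩ := index_eq_pow hX (center X)
  obtain ⟨i, hi⟩ := card_subgroup_eq_pow hX (center X)
  have hj4 : j ≤ 4 := by
    by_contra h
    have : 2 ^ 5 ≤ 2 ^ j := Nat.pow_le_pow_right (by norm_num) (by omega)
    omega
  have hi2 : i ≤ 2 := by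
    by_contra h
    have : 2 ^ 3 ≤ 2 ^ i := Nat.pow_le_pow_right (by norm_num) (by omega)
    omega
  have hi0 : i ≠ 0 := fun h => hna ⟨⟨fun a b =>
    commutatorElement_eq_one_iff_commute.1 (by
      have h1 : center X = ⊥ := Subgroup.card_eq_one.1 (by rw [hi, h, pow_zero])
      exact Subgroup.mem_bot.1 (h1 ▸ hcm ▸
        commutator_mem_commutator (mem_top a) (mem_top b)))⟩⟩
  have hj1 : 2 ≤ j := by
    by_contra h
    refine not_isCyclic_center_quotient hna ?_
    refine isCyclic_of_card_dvd_prime (p := 2) ?_
    rw [← Subgroup.index_eq_card, hj]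
    interval_cases j <;> norm_num
  have hcardX : Nat.card X = 2 ^ (i + j) := by
    rw [← Subgroup.card_mul_index (center X), hi, hj, pow_add]
  interval_cases j
  · -- four cosets
    left
    have hle := card_center_of_index_four hna hj h2 hcm
    have hi1 : i = 1 := by
      interval_cases i <;> omega
    subst hi1
    obtain ⟨c, hc, hall⟩ := const_squares hX A hA hXA hcm h2 hΦ hZ (Or.inr ⟨hj, hle⟩)
    have hc1 : c ≠ 1 := fun h => hna ⟨⟨comm_of_sq_one fun x => by
      by_cases hx : x ∈ center X
      · exact h2 x hx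
      · rw [hall x hx, h]⟩⟩
    have huniq : ∀ y : X, y ^ 2 = 1 → y ∈ zpowers c := by
      intro y hy
      have hyZ : y ∈ center X := by
        by_contra h; exact hc1 ((hall y h).symm.trans hy)
      have heq : zpowers c = center X := Subgroup.eq_of_le_of_card_ge (zpowers_le.2 hc) (by
        rw [hi, Nat.card_zpowers, orderOf_eq_prime (h2 c hc) hc1, pow_one])
      rwa [heq]
    rcases isCyclic_or_quaternion_of_unique hX (h2 c hc) huniq with h | ⟨-, n, -, ⟨e⟩⟩
    · haveI := h
      exact absurd (inferInstance : IsMulCommutative X) hna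
    · haveI : NeZero (2 ^ n) := ⟨by positivity⟩
      have hcard := Nat.card_congr e.toEquiv
      rw [hcardX, Nat.card_eq_fintype_card, QuaternionGroup.card] at hcard
      have hn : 2 ^ n = 2 := by omega
      have hn1 : n = 1 := Nat.pow_right_injective le_rfl (hn.trans (pow_one 2).symm)
      subst hn1
      exact ⟨e⟩
  · -- eight cosets
    exfalso
    obtain ⟨c, hc, hall⟩ := const_squares hX A hA hXA hcm h2 hΦ hZ (Or.inl hj)
    exact false_of_const_squares hna h2 hc hall (by rw [hj]; norm_num)
  · -- sixteen cosets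
    right
    refine ⟨hsp, h2, hj.trans (by norm_num), ?_⟩
    rw [hi]
    obtain rfl | rfl : i = 1 ∨ i = 2 := by omega
    · exact Or.inl (by norm_num)
    · exact Or.inr (by norm_num)

end CfsgLib.NormalRankTwo.Special

namespace CfsgLib.NormalRankTwo

universe u

/-- Piece one. -/
theorem specialClasses : SpecialClassesStmt.{u} := fun _ _ _ hX h8 hR hna A hA hXA =>
  Special.classification hX h8 hR hna A hA hXA

end CfsgLib.NormalRankTwo
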