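import Cfsg.Agent.Lib.NormalRankTwo.SpecialLevels
import Cfsg.Agent.Lib.PGroups.TrivialOnCharAbelian

/-!
# Reduction to special groups
-/

set_option autoImplicit false
set_option linter.unusedSectionVars false
set_option linter.style.haveILetI false

namespace CfsgLib.NormalRankTwo.Special

open Subgroup CfsgLib.PGroups CfsgLib.PGroups.NoSCNThree
open scoped commutatorElement

variable {X : Type*} [Group X] [Finite X]

theorem Tower.exists_of_moved (hX : IsPGroup 2 X) (h8 : CharE8 X) (hR : RankFour X) {A : Subgroup (MulAut X)}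
    (hA : Odd (Nat.card A))
    (hXA : Subgroup.closure {g : X | ∃ φ ∈ A, ∃ x : X, g = x⁻¹ * φ x} = ⊤) (M : Moved A) :
    Nonempty (Tower A) := by
  classical
  obtain ⟨B, hB⟩ := Set.Finite.exists_maximal
    (s := {B : Subgroup X | B.Characteristic ∧ IsMulCommutative B ∧ omegaCenter X ≤ B})
    (Set.toFinite _) ⟨omegaCenter X, inferInstance, omegaCenter_comm, le_rfl⟩
  obtain ⟨hBc, hBab, hBle⟩ := hB.1
  obtain ⟨n, hn⟩ := IsPGroup.iff_card.1 hX
  have hex : ∃ k, ∀ b ∈ B, b ^ 2 ^ k = 1 := ⟨n, fun b _ => by rw [← hn]; exact pow_card_eq_one'⟩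
  have hz1 : M.z ≠ 1 := fun h => M.moved (by rw [h, map_one])
  refine ⟨{ toMoved := M, two := hX, noE8 := h8, rank := hR, odd := hA, gen := hXA, B := B, char := hBc,
            comm := fun a ha b hb => congrArg Subtype.val (hBab.is_comm.comm ⟨a, ha⟩ ⟨b, hb⟩),
            le := hBle, max := fun D hD hDab hle => hB.2 ⟨hD, hDab, hBle.trans hle⟩ hle,
            k := Nat.find hex, exp := Nat.find_spec hex, sharp := ?_ }⟩
  have h0 : Nat.find hex ≠ 0 := fun h => hz1 (by
    have := Nat.find_spec hex M.z (hBle M.z_mem)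
    rwa [h, pow_zero, pow_one] at this)
  have := Nat.find_min hex (show Nat.find hex - 1 < Nat.find hex by omega)
  push Not at this
  exact this

theorem Tower.conclusion {A : Subgroup (MulAut X)} (T : Tower A) (hna : ¬ IsMulCommutative X) :
    center X = omegaCenter X ∧ frattini X ≤ omegaCenter X := by
  have hne : T.B ≠ ⊤ := fun h => hna ⟨⟨fun a b =>
    T.comm a (h ▸ mem_top a) b (h ▸ mem_top b)⟩⟩
  have hk : T.k = 1 ∨ T.k = 2 := by have := T.one_le_k; have := T.k_le_two hne; omega
  rcases hk with hk | hk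
  · have hBE : T.B = omegaCenter X := le_antisymm (fun b hb => T.mem_E hb (by
      have := T.exp b hb; rwa [hk, pow_one] at this)) T.le
    have hcen : center X ≤ omegaCenter X :=
      hBE ▸ T.max (center X) inferInstance inferInstance (hBE ▸ omegaCenter_le)
    refine ⟨le_antisymm hcen omegaCenter_le, ?_⟩
    by_contra hΦ
    haveI : (frattini X).Characteristic := inferInstance
    haveI hCchar : (omegaCenter X ⊔ frattini X).Characteristic :=
      characteristic_iff_map_le.2 fun φ => by
        rw [Subgroup.map_sup]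
        exact sup_le_sup (characteristic_iff_map_le.1 inferInstance φ)
          (characteristic_iff_map_le.1 inferInstance φ)
    have hlt : omegaCenter X < omegaCenter X ⊔ frattini X :=
      lt_of_le_not_ge le_sup_left fun h => hΦ (le_sup_right.trans h)
    set U := layer (omegaCenter X) (omegaCenter X ⊔ frattini X) with hU
    haveI : U.Characteristic := layer_characteristic
    have hsq : ∀ x : X, x ^ 2 ∈ centralizer (U : Set X) := fun x => mem_centralizer_iff.2 fun u hu =>
      (commutatorElement_eq_one_iff_commute.1 (by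
        have hE : ⁅x, u⁆ ∈ omegaCenter X := (mem_layer.1 hu).2.2 x
        rw [Tower.br_sq_left (g := x) (b := u),
          commutatorElement_eq_one_iff_commute.2 (T.central hE x), one_mul,
          T.mul_self hE] : ⁅x ^ 2, u⁆ = 1)).eq.symm
    have hCU : omegaCenter X ⊔ frattini X ≤ centralizer (U : Set X) :=
      sup_le (fun e he => mem_centralizer_iff.2 fun u _ => T.central he u)
        (frattini_le_of_squares T.two hsq)
    have hUab : IsMulCommutative U := (isMulCommutative_iff_le_centralizer U).2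
      fun u hu => hCU (mem_layer.1 hu).1
    obtain ⟨u, hu, huE⟩ := exists_mem_layer T.two hlt
    refine huE (hBE ▸ T.max U inferInstance hUab ?_ hu)
    intro b hb
    rw [hBE] at hb
    exact mem_layer.2 ⟨mem_sup_left hb, pow_mem hb 2, fun x => by
      rw [commutatorElement_eq_one_iff_commute.2 (T.central hb x)]; exact one_mem _⟩
  · exact ⟨le_antisymm (fun z hz => T.center_two hk hne hz) omegaCenter_le,
      frattini_le_of_squares T.two (T.sq_two hk)⟩

theorem isSpecial_of_not_scn3 (hX : IsPGroup 2 X) (h8 : CharE8 X) (hR : RankFour X) (hna : ¬ IsMulCommutative X)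
    (A : Subgroup (MulAut X)) (hA : Odd (Nat.card A))
    (hXA : Subgroup.closure {g : X | ∃ φ ∈ A, ∃ x : X, g = x⁻¹ * φ x} = ⊤) :
    Cfsg.IsSpecial 2 X ∧ (∀ z ∈ center X, z ^ 2 = 1) ∧ Nat.card (center X) ≤ 4 := by
  haveI : Fact (Nat.Prime 2) := ⟨Nat.prime_two⟩
  have hcard : (∀ z ∈ center X, z ^ 2 = 1) → Nat.card (center X) ≤ 4 := fun h =>
    h8 _ inferInstance inferInstance h
  by_cases hM : ∃ φ ∈ A, ∃ z ∈ omegaCenter X, φ z ≠ z
  · obtain ⟨φ, hφ, z, hz, hne⟩ := hM
    obtain ⟨T⟩ := Tower.exists_of_moved hX h8 hR hA hXA ⟨φ, hφ, z, hz, hne⟩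
    obtain ⟨hc, hΦ⟩ := T.conclusion hna
    have h2 : ∀ z ∈ center X, z ^ 2 = 1 := fun z hz => (hc ▸ hz : z ∈ omegaCenter X).2
    have hle : commutator X ≤ omegaCenter X := (commutator_le_frattini hX).trans hΦ
    have hne' : commutator X ≠ ⊥ := fun h => hna ⟨⟨fun a b =>
      commutatorElement_eq_one_iff_commute.1 (Subgroup.mem_bot.1 (h ▸
        commutator_mem_commutator (mem_top a) (mem_top b)))⟩⟩
    obtain ⟨c, hc', hc1⟩ := (Subgroup.bot_or_exists_ne_one (commutator X)).resolve_left hne'
    have hge : omegaCenter X ≤ commutator X := fun x hx => by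
      rcases T.cases (hle hc') hc1 hx with rfl | rfl | rfl | rfl
      · exact one_mem _
      · exact hc'
      · exact map_mem_of_char (commutator X) T.φ hc'
      · exact map_mem_of_char (commutator X) T.φ (map_mem_of_char (commutator X) T.φ hc')
    have hcomm : commutator X = center X := by rw [hc]; exact le_antisymm hle hge
    refine ⟨⟨hX, le_antisymm ?_ (hcomm ▸ commutator_le_frattini hX), hcomm⟩, h2, hcard h2⟩
    rw [hc]; exact hΦ
  · push Not at hM
    have hchar : ∀ H : Subgroup X, H.Characteristic → IsMulCommutative H →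
        ∀ a ∈ A, ∀ h ∈ H, a h = h := by
      intro H hH hab a ha
      haveI := hH
      refine fix_of_fix_involutions hX hA (odd_pow_eq_one ha) hab
        (fun d hd => map_mem_of_char H a hd) ?_
      intro d hd hd2
      by_cases hd1 : d = 1
      · rw [hd1, map_one]
      let W : Subgroup X :=
        { carrier := {b | b ∈ H ∧ b ^ 2 = 1}
          one_mem' := ⟨one_mem _, one_pow 2⟩
          mul_mem' := fun {u v} hu hv => ⟨mul_mem hu.1 hv.1, by
            rw [Commute.mul_pow (congrArg Subtype.val (hab.is_comm.comm ⟨u, hu.1⟩ ⟨v, hv.1⟩)),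
              hu.2, hv.2, one_mul]⟩
          inv_mem' := fun {u} hu => ⟨inv_mem hu.1, by rw [inv_pow, hu.2, inv_one]⟩ }
      haveI hW : W.Characteristic := characteristic_iff_map_le.2 fun φ => by
        rintro _ ⟨w, hw, rfl⟩
        exact ⟨map_mem_of_char H φ hw.1, show (φ w) ^ 2 = 1 by rw [← map_pow, hw.2, map_one]⟩
      have hW4 : Nat.card W ≤ 4 :=
        h8 W hW ⟨⟨fun u v => Subtype.ext
          (congrArg Subtype.val (hab.is_comm.comm ⟨u, u.2.1⟩ ⟨v, v.2.1⟩) :)⟩⟩ fun _ h => h.2
      have hWne : W ≠ ⊥ := fun h => hd1 (Subgroup.mem_bot.1 (h ▸ (⟨hd, hd2⟩ : d ∈ W)))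
      obtain ⟨w, hw, hw1⟩ :=
        (Subgroup.bot_or_exists_ne_one _).resolve_left (inf_center_ne_bot hX hWne)
      exact fix_of_card_four hA (odd_pow_eq_one ha) hW4
        (fun u hu => ⟨map_mem_of_char H a hu.1, by rw [← map_pow, hu.2, map_one]⟩)
        hw.1 hw1 (hM a ha w ⟨hw.2, hw.1.2⟩) ⟨hd, hd2⟩
    have hgen : Subgroup.closure {x : X | ∃ g : X, ∃ a ∈ A, x = g⁻¹ * a g} = ⊤ := by
      rw [← hXA]; congr 1; ext x
      constructor
      · rintro ⟨g, a, ha, rfl⟩; exact ⟨a, ha, g, rfl⟩
      · rintro ⟨a, ha, g, rfl⟩; exact ⟨g, a, ha, rfl⟩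
    obtain ⟨hsp, -⟩ :=
      TrivialOnCharAbelian.isSpecial A hX (Nat.coprime_two_right.2 hA) hgen hchar
    have h2 : ∀ z ∈ center X, z ^ 2 = 1 := by
      intro z hz
      rw [← hsp.2.2, commutator_def] at hz
      revert z hz
      suffices ∀ z ∈ ⁅(⊤ : Subgroup X), (⊤ : Subgroup X)⁆, z ∈ omegaCenter X from
        fun z hz => (this z hz).2
      refine fun z hz => (Subgroup.commutator_le.2 ?_) hz
      intro a _ b _
      have hcz : ∀ u v : X, ⁅u, v⁆ ∈ center X := fun u v => by
        rw [← hsp.2.2, commutator_def]; exact commutator_mem_commutator (mem_top u) (mem_top v)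
      refine ⟨hcz a b, ?_⟩
      have hsq : a ^ 2 ∈ center X := hsp.2.1 ▸ pow_mem_frattini hX a
      have h1 : ⁅a ^ 2, b⁆ = 1 :=
        commutatorElement_eq_one_iff_commute.2 (Subgroup.mem_center_iff.1 hsq b).symm
      rw [Tower.br_sq_left, commutatorElement_eq_one_iff_commute.2
        (Subgroup.mem_center_iff.1 (hcz a b) a), one_mul, ← pow_two] at h1
      exact h1
    exact ⟨hsp, h2, hcard h2⟩

end CfsgLib.NormalRankTwo.Special
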