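import Cfsg.Agent.Lib.NormalRankTwo.Defs
import Cfsg.Agent.Lib.NormalRankTwo.Conj

/-!
# The extraspecial group of order thirty-two is excluded
-/

set_option autoImplicit false

universe u

namespace CfsgLib.NormalRankTwo

open Subgroup
open scoped commutatorElement

/-- Piece five. -/
theorem thirtyTwo : ThirtyTwoStmt.{u} := by
  intro G _ _ _ hna T F hS h32
  classical
  obtain ⟨hcard, hZ2⟩ : Nat.card F.T1 = Nat.card ↥T ∧ Nat.card (center F.T1) = 2 := by
    have h1 : Nat.card F.T1 = Nat.card (center F.T1) * 16 := by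
      rw [← hS.index, card_mul_index]
    have h2 : Nat.card F.T1 ≤ 32 :=
      h32 ▸ Nat.le_of_dvd Nat.card_pos (card_subgroup_dvd_card F.T1)
    rcases hS.card with h | h <;> rw [h] at h1 <;> omega
  have htop : F.T1 = ⊤ := Subgroup.eq_top_of_card_eq F.T1 hcard
  let e : F.T1 ≃* ↥T := (MulEquiv.subgroupCongr htop).trans topEquiv
  -- the centre of `T`
  obtain ⟨z, hz1, hzc, hzall, hsq⟩ : ∃ z : ↥T, z ≠ 1 ∧ z ∈ center ↥T ∧
      (∀ x ∈ center ↥T, x = 1 ∨ x = z) ∧ ∀ x : ↥T, x ^ 2 ∈ center ↥T := by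
    have hmem : ∀ y : F.T1, y ∈ center F.T1 ↔ e y ∈ center ↥T := fun y => by
      simp only [Subgroup.mem_center_iff]
      exact ⟨fun h x => by obtain ⟨w, rfl⟩ := e.surjective x; rw [← map_mul, ← map_mul, h w],
        fun h x => e.injective (by rw [map_mul, map_mul, h])⟩
    obtain ⟨z₀, hz₀, huniq⟩ := (Nat.card_eq_two_iff' (1 : center F.T1)).1 hZ2
    refine ⟨e z₀, fun h => hz₀ (Subtype.ext ((map_eq_one_iff e e.injective).1 h)),
      (hmem _).1 z₀.2, fun x hx => ?_, fun x => ?_⟩
    · obtain ⟨w, rfl⟩ := e.surjective x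
      by_cases hw : w = 1
      · exact Or.inl (by rw [hw, map_one])
      · exact Or.inr (congrArg (fun v : center F.T1 => e (v : F.T1))
          (huniq ⟨w, (hmem w).2 hx⟩ fun h => hw (congrArg Subtype.val h)))
    · obtain ⟨w, rfl⟩ := e.surjective x
      rw [← map_pow, ← hmem, ← hS.isSpecial.2.1]
      exact CfsgLib.PGroups.pow_mem_frattini (F.isP.to_subgroup F.T1) w
  have hzz : z * z = 1 := by
    rcases hzall _ (mul_mem hzc hzc) with h | h
    · exact h
    · exact absurd (mul_eq_left.1 h) hz1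
  have hcomm : ∀ a b : ↥T, ⁅a, b⁆ ∈ center ↥T := fun a b => by
    rw [← QuotientGroup.eq_one_iff]
    show (QuotientGroup.mk' (center ↥T)) ⁅a, b⁆ = 1
    rw [map_commutatorElement, commutatorElement_eq_one_iff_commute]
    exact CfsgLib.PGroups.NoSCNThree.comm_of_sq_one (fun q => by
      induction q using QuotientGroup.induction_on with
      | _ x => rw [← QuotientGroup.mk_pow, QuotientGroup.eq_one_iff]; exact hsq x) _ _
  have hzord : orderOf (z : G) = 2 := by
    rw [Subgroup.orderOf_coe]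
    exact orderOf_eq_prime (by rw [pow_two, hzz]) hz1
  -- a second conjugate of `z` in `T`
  obtain ⟨g₀, hgT, hgne⟩ := exists_conj_ne hna T (z := (z : G)) z.2 hzord
  set t : ↥T := ⟨g₀ * z * g₀⁻¹, hgT⟩ with htdef
  obtain ⟨g, hgt, hgC⟩ := exists_conj_into T (t := (t : G)) (z := (z : G)) (g₀ := g₀⁻¹)
    (by simp [htdef, mul_assoc]) fun x hx =>
      congrArg Subtype.val (Subgroup.mem_center_iff.1 hzc ⟨x, hx⟩)
  have htne : t ≠ z := fun h => hgne (congrArg Subtype.val h)
  have ht2 : t ^ 2 = 1 := by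
    refine Subtype.ext ?_
    show (g₀ * (z : G) * g₀⁻¹) ^ 2 = 1
    rw [conj_pow, orderOf_dvd_iff_pow_eq_one.1 (dvd_of_eq hzord), mul_one, mul_inv_cancel]
  -- some element commuting with `t` squares to `z`
  obtain ⟨x, hxt, hx2⟩ : ∃ x : ↥T, x * t = t * x ∧ x ^ 2 = z := by
    by_contra hno
    push Not at hno
    set K := centralizer ({t} : Set ↥T) with hK
    have hK2 : ∀ x ∈ K, x ^ 2 = 1 := fun x hx =>
      (hzall _ (hsq x)).resolve_right (hno x (mem_centralizer_singleton_iff.1 hx))
    have hKab : IsMulCommutative K := ⟨⟨fun a b => CfsgLib.PGroups.NoSCNThree.comm_of_sq_one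
      (fun q : K => Subtype.ext (hK2 q q.2)) a b⟩⟩
    have hKn : K.Normal := by
      refine ⟨fun x hx g => mem_centralizer_singleton_iff.2 ?_⟩
      have hc := hcomm g x
      have h := mem_centralizer_singleton_iff.1 hx
      have hg : g * x * g⁻¹ = ⁅g, x⁆ * x := by simp [commutatorElement_def]
      rw [hg, mul_assoc, h, ← mul_assoc, ← Subgroup.mem_center_iff.1 hc t, mul_assoc]
    have h4 := F.noE8 K hKn hKab hK2
    let f : ↥T →* center ↥T :=
      { toFun := fun x => ⟨⁅x, t⁆, hcomm x t⟩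
        map_one' := Subtype.ext (commutatorElement_one_left t)
        map_mul' := fun a b => Subtype.ext (by
          show ⁅a * b, t⁆ = ⁅a, t⁆ * ⁅b, t⁆
          rw [show ⁅a * b, t⁆ = a * ⁅b, t⁆ * a⁻¹ * ⁅a, t⁆ by
              simp only [commutatorElement_def]; group,
            Subgroup.mem_center_iff.1 (hcomm b t) a, mul_inv_cancel_right,
            Subgroup.mem_center_iff.1 (hcomm a t)]) }
    have hker : f.ker ≤ K := fun x hx => mem_centralizer_singleton_iff.2
      (commutatorElement_eq_one_iff_commute.1 (congrArg Subtype.val hx))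
    have hcen : Nat.card (center ↥T) ≤ 2 := by
      refine (Nat.card_le_card_of_injective (fun x : center ↥T => decide ((x : ↥T) = 1)) ?_).trans
        (by simp)
      intro a b hab
      simp only [decide_eq_decide] at hab
      refine Subtype.ext ?_
      rcases hzall _ a.2 with ha | ha <;> rcases hzall _ b.2 with hb | hb <;> rw [ha, hb]
      · exact absurd ((hb.symm.trans (hab.1 ha))) hz1
      · exact absurd ((ha.symm.trans (hab.2 hb))) hz1
    have h1 := card_mul_index f.ker
    rw [index_ker, h32] at h1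
    have h2 : Nat.card f.range ≤ 2 := (card_le_card_group f.range).trans hcen
    have h3 : Nat.card f.ker ≤ 4 := (card_le_of_le hker).trans h4
    have := Nat.mul_le_mul h3 h2
    omega
  have hxT : g * (x : G) * g⁻¹ ∈ (T : Subgroup G) := hgC x x.2 (congrArg Subtype.val hxt)
  have hsqG : ((⟨_, hxT⟩ : ↥T) ^ 2 : ↥T) ≠ 1 := by
    intro h
    have h' : g * (z : G) * g⁻¹ = 1 := by
      rw [← hx2, Subgroup.coe_pow, ← conj_pow]; exact congrArg Subtype.val h
    rw [conj_eq_one_iff] at h'
    exact hz1 (Subtype.ext h')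
  have hzg : g * (z : G) * g⁻¹ = (z : G) := by
    rw [← hx2, Subgroup.coe_pow, ← conj_pow]
    exact congrArg Subtype.val ((hzall _ (hsq _)).resolve_left hsqG |>.trans hx2.symm)
  exact htne (Subtype.ext (mul_left_cancel (mul_right_cancel (hgt.trans hzg.symm))))

end CfsgLib.NormalRankTwo
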