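import Cfsg.Agent.Lib.NormalRankTwo.Defs
import Cfsg.Agent.Lib.NormalRankTwo.Conj
import Cfsg.Agent.S3225

/-!
# The twisted homocyclic case is excluded
-/

set_option autoImplicit false

universe u

namespace CfsgLib.NormalRankTwo

open Subgroup

theorem two_torsion {n : ℕ} (hn : 2 ≤ n) :
    (∀ a : ZMod (2 ^ n), a + a = 0 → ∃ b, b + b = a) ∧
      Nat.card {a : ZMod (2 ^ n) // a + a = 0} = 2 := by
  obtain ⟨m, rfl⟩ := Nat.exists_eq_add_of_le hn
  set h : ZMod (2 ^ (2 + m)) := ((2 ^ (1 + m) : ℕ) : ZMod (2 ^ (2 + m))) with hdef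
  have hpow : (2 : ℕ) ^ (2 + m) = 2 * 2 ^ (1 + m) := by
    rw [show 2 + m = (1 + m) + 1 by omega, pow_succ']
  have hh : h + h = 0 := by
    rw [hdef, ← Nat.cast_add, ← two_mul, ← hpow, ZMod.natCast_self]
  have hh0 : h ≠ 0 := by
    rw [hdef, Ne, ZMod.natCast_eq_zero_iff]
    intro hd
    have := Nat.le_of_dvd (by positivity) hd
    have h1 : 0 < 2 ^ (1 + m) := by positivity
    omega
  have hall : ∀ a : ZMod (2 ^ (2 + m)), a + a = 0 → a = 0 ∨ a = h := fun a ha => by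
    have hd : 2 ^ (2 + m) ∣ a.val + a.val := by
      rw [← ZMod.natCast_eq_zero_iff, Nat.cast_add, ZMod.natCast_rightInverse a, ha]
    obtain ⟨q, hq⟩ := hd
    have hlt := a.val_lt
    have hq2 : q < 2 := by
      by_contra hge
      have := Nat.mul_le_mul_left (2 ^ (2 + m)) (not_lt.1 hge)
      omega
    interval_cases q
    · exact Or.inl ((ZMod.val_eq_zero a).1 (by omega))
    · refine Or.inr ?_
      rw [← ZMod.natCast_rightInverse a, hdef]
      congr 1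
      omega
  refine ⟨fun a ha => ?_, ?_⟩
  · rcases hall a ha with rfl | rfl
    · exact ⟨0, add_zero 0⟩
    · exact ⟨((2 ^ m : ℕ) : ZMod (2 ^ (2 + m))), by
        rw [hdef, ← Nat.cast_add, ← two_mul, ← pow_succ', add_comm m 1]⟩
  · rw [Nat.card_eq_two_iff' (⟨0, add_zero 0⟩ : {a : ZMod (2 ^ (2 + m)) // a + a = 0})]
    exact ⟨⟨h, hh⟩, fun e => hh0 (congrArg Subtype.val e), fun b hb =>
      Subtype.ext ((hall b b.2).resolve_left fun e => hb (Subtype.ext e))⟩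

theorem mem_normalizer_of_conj_mem {G : Type*} [Group G] [Finite G] {H : Subgroup G} {g : G}
    (h : ∀ x ∈ H, g * x * g⁻¹ ∈ H) : g ∈ Subgroup.normalizer (H : Set G) := by
  rw [Subgroup.mem_normalizer_iff]
  intro x
  refine ⟨h x, fun hx => ?_⟩
  have hsurj := Finite.surjective_of_injective (α := H)
    (f := fun y => ⟨g * y * g⁻¹, h y y.2⟩) fun a b hab => Subtype.ext
      (mul_left_cancel (mul_right_cancel (congrArg Subtype.val hab)))
  obtain ⟨y, hy⟩ := hsurj ⟨_, hx⟩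
  rw [← mul_left_cancel (mul_right_cancel (congrArg Subtype.val hy))]
  exact y.2

/-- Piece seven. -/
theorem twisted : TwistedStmt.{u} := by
  intro G _ _ _ hna T F hw
  classical
  have : Fact (Nat.Prime 2) := ⟨Nat.prime_two⟩
  obtain ⟨n, hn, ⟨iso⟩⟩ := hw.homo
  obtain ⟨c, hc1, hcC⟩ := hw.cyclic
  obtain ⟨hdbl, htwo⟩ := two_torsion (n := n) (by omega)
  have hcom : ∀ x ∈ F.T1, ∀ y ∈ F.T1, x * y = y * x := fun x hx y hy =>
    congrArg Subtype.val (iso.injective (by rw [map_mul, map_mul, mul_comm]) :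
      (⟨x, hx⟩ : F.T1) * ⟨y, hy⟩ = ⟨y, hy⟩ * ⟨x, hx⟩)
  let q := QuotientGroup.mk' F.T1
  have hq : ∀ x, q x = 1 ↔ x ∈ F.T1 := fun x => QuotientGroup.eq_one_iff x
  have hqc : ∀ i : ℤ, q (c ^ i) = 1 ↔ c ^ i = 1 := fun i => by
    refine ⟨fun h => ?_, fun h => by rw [h, map_one]⟩
    have : c ^ i ∈ F.T1 ⊓ F.C := ⟨(hq _).1 h, hcC ▸ zpow_mem (mem_zpowers c) i⟩
    rwa [hw.disjoint, Subgroup.mem_bot] at this
  have hord : orderOf (q c) = orderOf c := by
    refine orderOf_eq_orderOf_iff.2 fun j => ?_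
    rw [← map_pow]
    simpa using hqc j
  have hdec : ∀ t : ↥T, ∃ x ∈ F.T1, ∃ i : ℤ, t = x * c ^ i := fun t => by
    have ht : t ∈ F.T1 ⊔ F.C := F.sup_eq ▸ mem_top t
    obtain ⟨x, hx, y, hy, rfl⟩ := mem_sup_of_normal_left.1 ht
    rw [← hcC] at hy
    obtain ⟨i, rfl⟩ := mem_zpowers_iff.1 hy
    exact ⟨x, hx, i, rfl⟩
  obtain ⟨k₀, hk₀⟩ := (IsPGroup.iff_orderOf.1 F.isP) c
  obtain ⟨k, rfl⟩ : ∃ k, k₀ = k + 1 := ⟨k₀ - 1, by
    rcases k₀ with _ | k
    · rw [pow_zero, orderOf_eq_one_iff] at hk₀; exact absurd hk₀ hc1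
    · rfl⟩
  set v : ↥T := c ^ 2 ^ k with hvdef
  have hvord : orderOf v = 2 := by
    rw [hvdef, orderOf_pow' c (by positivity), hk₀, pow_succ, Nat.gcd_mul_right_left,
      Nat.mul_div_cancel_left _ (by positivity)]
  have hv2 : v ^ 2 = 1 := orderOf_dvd_iff_pow_eq_one.1 (dvd_of_eq hvord)
  have hv1 : v ≠ 1 := fun h => by rw [h, orderOf_one] at hvord; omega
  have hvC : v ∈ F.C := hcC ▸ pow_mem (mem_zpowers c) _
  have hvT1 : v ∉ F.T1 := fun h => hv1 (by
    have : v ∈ F.T1 ⊓ F.C := ⟨h, hvC⟩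
    rwa [hw.disjoint, Subgroup.mem_bot] at this)
  -- involutions lie in the two cosets
  have hinv : ∀ t : ↥T, t ^ 2 = 1 → t ∈ F.T1 ∨ ∃ x ∈ F.T1, t = x * v := by
    intro t ht
    obtain ⟨x, hx, i, rfl⟩ := hdec t
    have h1 : c ^ (i * 2) = 1 := (hqc _).1 (by
      have := congrArg q ht
      rw [map_pow, map_mul, (hq x).2 hx, one_mul, map_one, ← map_pow, ← zpow_natCast,
        ← zpow_mul] at this
      exact this)
    rw [← orderOf_dvd_iff_zpow_eq_one, hk₀, pow_succ] at h1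
    push_cast at h1
    obtain ⟨j, rfl⟩ := (mul_dvd_mul_iff_right (two_ne_zero : (2 : ℤ) ≠ 0)).1 h1
    rw [show ((2 : ℤ) ^ k * j) = ((2 ^ k : ℕ) : ℤ) * j by push_cast; rfl, zpow_mul, zpow_natCast]
    rcases CfsgLib.PGroups.NoSCNThree.zpow_of_sq hv2 j with h | h <;> rw [h]
    · exact Or.inl (by rwa [mul_one])
    · exact Or.inr ⟨x, hx, rfl⟩
  -- the four group
  let E : Subgroup ↥T :=
    { carrier := {x | x ∈ F.T1 ∧ x ^ 2 = 1}
      one_mem' := ⟨one_mem _, one_pow 2⟩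
      mul_mem' := fun {a b} ha hb => ⟨mul_mem ha.1 hb.1, by
        rw [Commute.mul_pow (hcom a ha.1 b hb.1), ha.2, hb.2, one_mul]⟩
      inv_mem' := fun {a} ha => ⟨inv_mem ha.1, by rw [inv_pow, ha.2, inv_one]⟩ }
  have hiso : ∀ x : F.T1, x ^ 2 = 1 ↔
      (iso x).toAdd.1 + (iso x).toAdd.1 = 0 ∧ (iso x).toAdd.2 + (iso x).toAdd.2 = 0 := fun x => by
    rw [← map_eq_one_iff iso iso.injective, map_pow, pow_two]
    exact ⟨fun h => ⟨congrArg (fun p => p.toAdd.1) h, congrArg (fun p => p.toAdd.2) h⟩,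
      fun h => Multiplicative.toAdd.injective (Prod.ext h.1 h.2)⟩
  have hcoe : ∀ x : F.T1, x ^ 2 = 1 ↔ (x : ↥T) ^ 2 = 1 := fun x =>
    ⟨fun h => congrArg Subtype.val h, fun h => Subtype.ext h⟩
  have hE4 : Nat.card E = 4 := by
    let P := {a : ZMod (2 ^ n) // a + a = 0}
    have e : E ≃ P × P :=
      { toFun := fun x => (⟨_, ((hiso ⟨x, x.2.1⟩).1 ((hcoe ⟨x, x.2.1⟩).2 x.2.2)).1⟩,
          ⟨_, ((hiso ⟨x, x.2.1⟩).1 ((hcoe ⟨x, x.2.1⟩).2 x.2.2)).2⟩)
        invFun := fun p => ⟨iso.symm (Multiplicative.ofAdd (p.1.1, p.2.1)), Subtype.coe_prop _,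
          (hcoe _).1 ((hiso _).2 (by
            rw [MulEquiv.apply_symm_apply]; exact ⟨p.1.2, p.2.2⟩))⟩
        left_inv := fun x => Subtype.ext
          (show (iso.symm (iso ⟨x, x.2.1⟩) : ↥T) = x by rw [MulEquiv.symm_apply_apply])
        right_inv := fun p => by
          refine Prod.ext (Subtype.ext ?_) (Subtype.ext ?_) <;> simp }
    rw [Nat.card_congr e, Nat.card_prod, htwo]
  have hroot : ∀ a ∈ E, ∃ y ∈ F.T1, y ^ 4 = 1 ∧ y ^ 2 = a := by
    intro a ha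
    obtain ⟨h1, h2⟩ := (hiso ⟨a, ha.1⟩).1 ((hcoe ⟨a, ha.1⟩).2 ha.2)
    obtain ⟨b₁, hb₁⟩ := hdbl _ h1
    obtain ⟨b₂, hb₂⟩ := hdbl _ h2
    refine ⟨iso.symm (Multiplicative.ofAdd (b₁, b₂)), Subtype.coe_prop _, ?_⟩
    have e : (iso.symm (Multiplicative.ofAdd (b₁, b₂))) ^ 2 = ⟨a, ha.1⟩ := by
      apply iso.injective
      rw [map_pow, MulEquiv.apply_symm_apply, pow_two]
      exact Multiplicative.toAdd.injective (Prod.ext hb₁ hb₂)
    have e' := congrArg Subtype.val e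
    rw [Subgroup.coe_pow] at e'
    exact ⟨by rw [show 4 = 2 * 2 by rfl, pow_mul, e', ha.2], e'⟩
  -- a subgroup of order eight and exponent two of `T` contains the four group
  have height : ∀ X : Subgroup G, X ≤ (T : Subgroup G) → Nat.card X = 8 →
      (∀ x ∈ X, x ^ 2 = 1) → ∀ a ∈ E, (a : G) ∈ X := by
    intro X hXT hX8 hX2
    set X' := X.subgroupOf (T : Subgroup G) with hX'
    have hc8 : Nat.card X' = 8 := by rw [Nat.card_congr (subgroupOfEquivOfLe hXT).toEquiv, hX8]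
    have hsq : ∀ x ∈ X', x ^ 2 = 1 := fun x hx => Subtype.ext (hX2 _ hx)
    let f : X' →* ↥T ⧸ F.T1 := q.comp X'.subtype
    have hrange : Nat.card f.range ≤ 2 := by
      refine (Nat.card_le_card_of_surjective
        (fun b : Bool => if hb : ∃ x : X', f x = (if b then q v else 1) then
          (⟨_, hb⟩ : f.range) else 1) ?_).trans (by simp)
      rintro ⟨_, x, rfl⟩
      rcases hinv x (hsq x x.2) with h | ⟨y, hy, h⟩
      · exact ⟨false, Subtype.ext (by simp [show f x = 1 from (hq _).2 h])⟩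
      · have hx : f x = q v := by
          show q (x : ↥T) = q v
          rw [h, map_mul, (hq y).2 hy, one_mul]
        refine ⟨true, ?_⟩
        simp only [if_true]
        rw [dif_pos ⟨x, hx⟩]
        exact Subtype.ext hx.symm
    have hker : 4 ≤ Nat.card f.ker := by
      have h := card_mul_index f.ker
      rw [index_ker, hc8] at h
      have := Nat.mul_le_mul_left (Nat.card f.ker) hrange
      omega
    have hle : f.ker.map X'.subtype ≤ E := by
      rintro _ ⟨x, hx, rfl⟩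
      exact ⟨(hq _).1 hx, hsq x x.2⟩
    have heq := Subgroup.eq_of_le_of_card_ge hle (by
      rw [← Nat.card_congr (f.ker.equivMapOfInjective X'.subtype X'.subtype_injective).toEquiv]
      exact hE4.le.trans hker)
    intro a ha
    rw [← heq] at ha
    obtain ⟨x, -, rfl⟩ := ha
    exact x.2
  -- step one: `v` is conjugate to an element of the four group
  have hsimp2 : ∀ H : Subgroup G, H.index ≠ 2 := by
    intro H hH
    have := Subgroup.normal_of_index_eq_two hH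
    rcases (inferInstance : H.Normal).eq_bot_or_eq_top with rfl | rfl
    · rw [index_bot] at hH
      have := isCyclic_of_prime_card hH
      exact hna inferInstance
    · rw [index_top] at hH; omega
  set M₀ := (zpowers (q (c ^ 2))).comap q with hM₀
  have hmemM : ∀ x ∈ F.T1, ∀ i : ℤ, x * c ^ i ∈ M₀ ↔ Even i := by
    intro x hx i
    rw [hM₀, mem_comap, map_mul, (hq x).2 hx, one_mul, mem_zpowers_iff]
    constructor
    · rintro ⟨j, hj⟩
      rw [← map_zpow, ← zpow_natCast, ← zpow_mul] at hj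
      have h1 : c ^ (i - 2 * j) = 1 := (hqc _).1 (by
        rw [zpow_sub, map_mul, map_inv, ← hj]; simp)
      rw [← orderOf_dvd_iff_zpow_eq_one, hk₀] at h1
      have h2 : (2 : ℤ) ∣ i - 2 * j := (by
        push_cast
        exact dvd_pow_self 2 (by omega) : (2 : ℤ) ∣ ((2 ^ (k + 1) : ℕ) : ℤ)).trans h1
      rw [even_iff_two_dvd]; omega
    · rintro ⟨j, rfl⟩
      exact ⟨j, by rw [← map_zpow, ← zpow_natCast, ← zpow_mul, ← two_mul]; rfl⟩
  have hM₀i : M₀.index = 2 := by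
    refine index_eq_two_iff.2 ⟨c, fun b => ?_⟩
    obtain ⟨x, hx, i, rfl⟩ := hdec b
    rw [mul_assoc, ← zpow_add_one, hmemM x hx, hmemM x hx, Int.even_add_one]
    rcases Classical.em (Even i) with h | h
    · exact Or.inr ⟨h, not_not.2 h⟩
    · exact Or.inl ⟨h, h⟩
  set M := M₀.map (T : Subgroup G).subtype with hM
  have hMrel : M.relIndex (T : Subgroup G) = 2 := by
    show (M.subgroupOf (T : Subgroup G)).index = 2
    rw [hM, Subgroup.subgroupOf, comap_map_eq_self_of_injective (Subgroup.subtype_injective _), hM₀i]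
  have hTcard : Even (Nat.card G) := even_iff_two_dvd.2
    (((dvd_of_eq hvord.symm).trans (orderOf_dvd_natCard v)).trans (card_subgroup_dvd_card _))
  obtain ⟨g₀, hg₀⟩ := Cfsg.Agent.S3225.result hTcard hsimp2 T M (map_subtype_le _) hMrel (k + 1)
    (by omega) (fun y hyT hyM => by
      obtain ⟨x, hx, i, hxi⟩ := hdec ⟨y, hyT⟩
      have hi : ¬ Even i := fun h => hyM ⟨_, (hmemM x hx i).2 h, by rw [← hxi]; rfl⟩
      have h1 : orderOf (q c) ∣ orderOf (q ⟨y, hyT⟩) := by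
        rw [hxi, map_mul, (hq x).2 hx, one_mul]
        rw [Int.not_even_iff_odd] at hi
        obtain ⟨j, rfl⟩ := hi
        obtain ⟨a, b, hab⟩ : IsCoprime (2 * j + 1) ((2 ^ (k + 1) : ℕ) : ℤ) := by
          push_cast
          exact IsCoprime.pow_right ⟨1, -j, by ring⟩
        have e : q c = (q (c ^ (2 * j + 1))) ^ a := by
          rw [← map_zpow, ← zpow_mul]
          conv_lhs => rw [← zpow_one c, ← hab, zpow_add, mul_comm b,
            zpow_mul c ((2 ^ (k + 1) : ℕ) : ℤ), zpow_natCast, ← hk₀, pow_orderOf_eq_one, one_zpow,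
            mul_one, mul_comm a]
        rw [e]
        exact orderOf_dvd_of_mem_zpowers (zpow_mem (mem_zpowers _) a)
      rw [hord, hk₀] at h1
      have h2 := Nat.le_of_dvd (orderOf_pos _) (h1.trans (orderOf_map_dvd q _))
      rw [show orderOf y = orderOf (⟨y, hyT⟩ : ↥T) from Subgroup.orderOf_coe (⟨y, hyT⟩ : ↥T)]
      exact lt_of_lt_of_le (Nat.pow_lt_pow_right (by norm_num) (by omega)) h2)
    (c : G) c.2 (by rw [Subgroup.orderOf_coe, hk₀])
  obtain ⟨y₀, hy₀, hy₀e⟩ := hg₀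
  set e : ↥T := y₀ ^ 2 ^ k with hedef
  have hev : (e : G) = g₀ * (v : G) * g₀⁻¹ := by
    rw [hedef, hvdef, Subgroup.coe_pow, Subgroup.coe_pow, ← conj_pow, ← hy₀e]; rfl
  have he2 : e ^ 2 = 1 := by
    refine Subtype.ext ?_
    rw [Subgroup.coe_pow, hev, conj_pow]
    simp [← Subgroup.coe_pow, hv2]
  have heE : e ∈ E := by
    refine ⟨(hq _).1 ?_, he2⟩
    obtain ⟨j, hj⟩ := mem_zpowers_iff.1 (mem_comap.1 hy₀)
    rw [hedef, map_pow, ← hj, ← map_zpow, ← map_pow, ← zpow_natCast, ← zpow_natCast, ← zpow_mul,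
      ← zpow_mul]
    refine (hqc _).2 (orderOf_dvd_iff_zpow_eq_one.1 ⟨j, ?_⟩)
    rw [hk₀]; push_cast; ring
  have hEcen : ∀ a ∈ E, ∀ t : ↥T, t * a = a * t := fun a ha => hw.central a ha.1 ha.2
  -- step two: move the centraliser of `v` into `T`
  obtain ⟨g, hge, hgC⟩ := exists_conj_into T (t := (v : G)) (z := (e : G)) hev.symm fun x hx =>
    congrArg Subtype.val (hEcen e heE ⟨x, hx⟩)
  set X₁ := E ⊔ zpowers v with hX₁
  have hEn : E.Normal := ⟨fun a ha t => by rw [hEcen a ha t, mul_inv_cancel_right]; exact ha⟩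
  have hX₁mem : ∀ x ∈ X₁, x ∈ E ∨ ∃ a ∈ E, x = a * v := fun x hx =>
    CfsgLib.PGroups.NoSCNThree.mem_sup_zpowers hv2 hx
  have hX₁sq : ∀ x ∈ X₁, x ^ 2 = 1 := fun x hx => by
    rcases hX₁mem x hx with h | ⟨a, ha, rfl⟩
    · exact h.2
    · rw [Commute.mul_pow (hEcen a ha v).symm, ha.2, hv2, one_mul]
  have hX₁8 : Nat.card X₁ = 8 := by
    rw [← card_mul_index (E.subgroupOf X₁), Nat.card_congr (subgroupOfEquivOfLe le_sup_left).toEquiv,
      hE4]
    rw [show (E.subgroupOf X₁).index = 2 from index_eq_two_iff.2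
      ⟨⟨v, mem_sup_right (mem_zpowers v)⟩, fun b => by
        have hvv : v * v = 1 := by rw [← pow_two, hv2]
        rcases hX₁mem b b.2 with h | ⟨a, ha, hb⟩
        · exact Or.inr ⟨h, fun h' => hvT1 ((mul_mem_cancel_left h.1).1 (h' : (b : ↥T) * v ∈ E).1)⟩
        · refine Or.inl ⟨?_, fun h' => hvT1 ?_⟩
          · show (b : ↥T) * v ∈ E
            rwa [hb, mul_assoc, hvv, mul_one]
          · have h'' : (b : ↥T) ∈ E := h'
            rw [hb] at h''
            exact (mul_mem_cancel_left ha.1).1 h''.1⟩]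
  have hgT : ∀ x ∈ X₁, g * (x : G) * g⁻¹ ∈ (T : Subgroup G) := fun x hx =>
    hgC x x.2 (congrArg Subtype.val (show x * v = v * x by
      rcases hX₁mem x hx with h | ⟨a, ha, rfl⟩
      · exact (hEcen x h v).symm
      · rw [mul_assoc, ← mul_assoc v a v, hEcen a ha v, mul_assoc a v v]))
  set X₂ := (X₁.map (T : Subgroup G).subtype).map (MulAut.conj g).toMonoidHom with hX₂
  have hX₂mem : ∀ x, x ∈ X₂ ↔ ∃ b ∈ X₁, g * (b : G) * g⁻¹ = x := fun x =>
    ⟨fun ⟨_, ⟨b, hb, rfl⟩, hx⟩ => ⟨b, hb, hx⟩, fun ⟨b, hb, hx⟩ => ⟨_, ⟨b, hb, rfl⟩, hx⟩⟩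
  have hX₂T : X₂ ≤ (T : Subgroup G) := fun x hx => by
    obtain ⟨b, hb, rfl⟩ := (hX₂mem x).1 hx
    exact hgT b hb
  have hX₂sq : ∀ x ∈ X₂, x ^ 2 = 1 := fun x hx => by
    obtain ⟨b, hb, rfl⟩ := (hX₂mem x).1 hx
    rw [conj_pow, ← Subgroup.coe_pow, hX₁sq b hb, Subgroup.coe_one, mul_one, mul_inv_cancel]
  have hX₂8 : Nat.card X₂ = 8 := by
    rw [hX₂, card_map_of_injective (MulAut.conj g).injective,
      card_map_of_injective (Subgroup.subtype_injective _)]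
    exact hX₁8
  have hEX₂ : ∀ a ∈ E, (a : G) ∈ X₂ := height X₂ hX₂T hX₂8 hX₂sq
  set E₁ := E.map (T : Subgroup G).subtype with hE₁
  set E₂ := E₁.map (MulAut.conj g).toMonoidHom with hE₂
  have hE₁4 : Nat.card E₁ = 4 := by
    rw [hE₁, card_map_of_injective (Subgroup.subtype_injective _)]
    exact hE4
  have hE₁X : E₁ ≤ X₂ := by rintro _ ⟨a, ha, rfl⟩; exact hEX₂ a ha
  have hE₂X : E₂ ≤ X₂ := by
    rintro _ ⟨_, ⟨a, ha, rfl⟩, rfl⟩
    exact (hX₂mem _).2 ⟨a, mem_sup_left ha, rfl⟩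
  have heE₁ : (e : G) ∈ E₁ := ⟨e, heE, rfl⟩
  have heE₂ : (e : G) ∉ E₂ := by
    rintro ⟨_, ⟨a, ha, rfl⟩, h⟩
    have : (a : G) = (v : G) :=
      mul_left_cancel (mul_right_cancel ((h : g * (a : G) * g⁻¹ = e).trans hge.symm))
    exact hvT1 (Subtype.ext this ▸ ha.1)
  have hXcomm : ∀ x ∈ X₂, ∀ y ∈ X₂, x * y = y * x := fun x hx y hy =>
    congrArg Subtype.val (CfsgLib.PGroups.NoSCNThree.comm_of_sq_one
      (fun p : X₂ => Subtype.ext (hX₂sq p p.2)) ⟨x, hx⟩ ⟨y, hy⟩)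
  obtain ⟨l, hl₁, hl₂, hl1⟩ : ∃ l, l ∈ E₁ ∧ l ∈ E₂ ∧ l ≠ 1 := by
    by_contra hno
    push Not at hno
    have hinj : Function.Injective (fun p : E₁ × E₂ =>
        (⟨p.1 * p.2, mul_mem (hE₁X p.1.2) (hE₂X p.2.2)⟩ : X₂)) := by
      rintro ⟨⟨a, ha⟩, ⟨b, hb⟩⟩ ⟨⟨a', ha'⟩, ⟨b', hb'⟩⟩ h
      have h' : a * b = a' * b' := congrArg Subtype.val h
      have hl : a'⁻¹ * a = b' * b⁻¹ := by
        rw [eq_mul_inv_iff_mul_eq, mul_assoc, h', inv_mul_cancel_left]
      have h1 := hno _ (mul_mem (inv_mem ha') ha) (hl ▸ mul_mem hb' (inv_mem hb))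
      have ha'' : a = a' := by rw [inv_mul_eq_one] at h1; exact h1.symm
      subst ha''
      simp [mul_left_cancel h']
    have := Nat.card_le_card_of_injective _ hinj
    rw [Nat.card_prod, show Nat.card E₂ = Nat.card E₁ from
      (Nat.card_congr (E₁.equivMapOfInjective _ (MulAut.conj g).injective).toEquiv).symm,
      hE₁4, hX₂8] at this
    omega
  -- the group of elements normalising both and fixing `l`
  set L := Subgroup.normalizer (X₂ : Set G) ⊓ Subgroup.normalizer (E₁ : Set G) ⊓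
    centralizer ({l} : Set G) with hL
  have hyfix : ∀ y ∈ F.T1, y ^ 4 = 1 → ∀ t : ↥T, t ^ 2 = 1 → t ∉ E →
      y * t * y⁻¹ = y ^ 2 * t := by
    intro y hy hy4 t ht htE
    rcases hinv t ht with h | ⟨x, hx, rfl⟩
    · exact absurd ⟨h, ht⟩ htE
    · have hu := hw.inverts v hvC hv2 hv1 y hy hy4
      have hu' : v * y⁻¹ = y * v := by
        refine mul_inv_eq_iff_eq_mul.1 ?_
        have h := congrArg (·⁻¹) hu
        simp only [mul_inv_rev, inv_inv, mul_assoc] at h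
        rw [mul_assoc]
        exact h
      rw [pow_two, mul_assoc y (x * v), mul_assoc x, hu', ← mul_assoc x y, hcom x hx y hy]
      group
  have hyL : ∀ y ∈ F.T1, y ^ 4 = 1 → (y : G) ∈ L := by
    intro y hy hy4
    have hyE : ∀ a ∈ E₁, (y : G) * a * (y : G)⁻¹ = a := by
      rintro _ ⟨a, ha, rfl⟩
      exact congrArg Subtype.val (show y * a * y⁻¹ = a by
        rw [hEcen a ha y, mul_inv_cancel_right])
    refine ⟨⟨mem_normalizer_of_conj_mem fun x hx => ?_, mem_normalizer_of_conj_mem fun x hx => ?_⟩,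
      mem_centralizer_singleton_iff.2 (mul_inv_eq_iff_eq_mul.1 (hyE l hl₁))⟩
    · by_cases h : (⟨x, hX₂T hx⟩ : ↥T) ∈ E
      · have := hyE x ⟨_, h, rfl⟩
        rwa [this]
      · have := congrArg Subtype.val (hyfix y hy hy4 ⟨x, hX₂T hx⟩ (Subtype.ext (hX₂sq x hx)) h)
        have h' : (y : G) * x * (y : G)⁻¹ = (y : G) ^ 2 * x := this
        rw [h']
        exact mul_mem (hEX₂ _ ⟨pow_mem hy 2, by rw [← pow_mul]; exact hy4⟩) hx
    · rw [hyE x hx]; exact hx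
  have hX₂L : X₂ ≤ L := fun x hx => by
    refine ⟨⟨mem_normalizer_of_conj_mem fun y hy => mul_mem (mul_mem hx hy) (inv_mem hx),
      mem_normalizer_of_conj_mem fun y hy => ?_⟩,
      mem_centralizer_singleton_iff.2 (hXcomm x hx l (hE₁X hl₁))⟩
    rw [hXcomm x hx y (hE₁X hy), mul_inv_cancel_right]; exact hy
  -- the members of `E₁`
  have hel : (e : G) ≠ l := fun h => heE₂ (h ▸ hl₂)
  have he1 : (e : G) ≠ 1 := fun h => heE₂ (h ▸ one_mem _)
  have hmul_ne : (e : G) * l ≠ 1 ∧ (e : G) * l ≠ l ∧ (e : G) * l ≠ e := by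
    refine ⟨fun h => hel ?_, fun h => he1 (mul_eq_right.1 h), fun h => hl1 (mul_eq_left.1 h)⟩
    have hll : l * l = 1 := by rw [← pow_two]; exact hX₂sq l (hE₁X hl₁)
    calc (e : G) = e * l * l := by rw [mul_assoc, hll, mul_one]
      _ = l := by rw [h, one_mul]
  have hE₁all : ∀ a ∈ E₁, a = 1 ∨ a = l ∨ a = (e : G) ∨ a = (e : G) * l := by
    intro a ha
    by_contra hcon
    simp only [not_or] at hcon
    obtain ⟨h1, h2, h3, h4⟩ := hcon
    have hsub : ({1, l, (e : G), (e : G) * l, a} : Finset G) ⊆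
        (Set.toFinite (E₁ : Set G)).toFinset := by
      intro x hx
      simp only [Finset.mem_insert, Finset.mem_singleton] at hx
      rw [Set.Finite.mem_toFinset]
      rcases hx with rfl | rfl | rfl | rfl | rfl
      exacts [one_mem _, hl₁, heE₁, mul_mem heE₁ hl₁, ha]
    have hcard := Finset.card_le_card hsub
    have hW : (Set.toFinite (E₁ : Set G)).toFinset.card = Nat.card E₁ :=
      (Nat.card_eq_card_finite_toFinset _).symm
    obtain ⟨q1, q2, q3⟩ := hmul_ne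
    simp [Ne.symm hl1, Ne.symm he1, Ne.symm q1, Ne.symm hel, Ne.symm q2, Ne.symm q3, Ne.symm h1,
      Ne.symm h2, Ne.symm h3, Ne.symm h4] at hcard
    omega
  -- the element `w`
  obtain ⟨r, hrE, hrl⟩ : ∃ r ∈ E, g * (r : G) * g⁻¹ = l := by
    obtain ⟨_, ⟨r, hr, rfl⟩, h⟩ := hl₂
    exact ⟨r, hr, h⟩
  obtain ⟨y₁, hy₁, hy₁4, hy₁2⟩ := hroot r hrE
  set w := g * (y₁ : G) * g⁻¹ with hwdef
  have hwfix : ∀ a ∈ E, w * (g * (a : G) * g⁻¹) * w⁻¹ = g * (a : G) * g⁻¹ := fun a ha => by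
    have h : (y₁ : G) * a * (y₁ : G)⁻¹ = a := congrArg Subtype.val
      (show y₁ * a * y₁⁻¹ = a by rw [hEcen a ha y₁, mul_inv_cancel_right])
    rw [hwdef]
    conv_rhs => rw [← h]
    group
  have hwv : w * (e : G) * w⁻¹ = l * e := by
    have h : (y₁ : G) * v * (y₁ : G)⁻¹ = (r : G) * v := congrArg Subtype.val
      (show y₁ * v * y₁⁻¹ = r * v by
        rw [← hy₁2]; exact hyfix y₁ hy₁ hy₁4 v hv2 fun h => hvT1 h.1)
    rw [hwdef, ← hge, ← hrl]
    calc g * (y₁ : G) * g⁻¹ * (g * v * g⁻¹) * (g * (y₁ : G) * g⁻¹)⁻¹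
        = g * ((y₁ : G) * v * (y₁ : G)⁻¹) * g⁻¹ := by group
      _ = g * (r : G) * g⁻¹ * (g * v * g⁻¹) := by rw [h]; group
  have hwl : w * l * w⁻¹ = l := by rw [← hrl]; exact hwfix r hrE
  have hwL : w ∈ L := by
    refine ⟨⟨mem_normalizer_of_conj_mem fun x hx => ?_, mem_normalizer_of_conj_mem fun x hx => ?_⟩,
      mem_centralizer_singleton_iff.2 (mul_inv_eq_iff_eq_mul.1 hwl)⟩
    · obtain ⟨b, hb, rfl⟩ := (hX₂mem x).1 hx
      rcases hX₁mem b hb with h | ⟨a, ha, rfl⟩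
      · rw [hwfix b h]; exact hx
      · have e1 : g * ((a * v : ↥T) : G) * g⁻¹ = g * (a : G) * g⁻¹ * e := by
          rw [Subgroup.coe_mul, ← hge]; group
        rw [e1, ← conj_mul, hwfix a ha, hwv]
        exact mul_mem ((hX₂mem _).2 ⟨a, mem_sup_left ha, rfl⟩)
          (mul_mem (hE₁X hl₁) (hE₁X heE₁))
    · rcases hE₁all x hx with rfl | rfl | rfl | rfl
      · simp
      · rw [hwl]; exact hl₁
      · rw [hwv]; exact mul_mem hl₁ heE₁
      · rw [← conj_mul, hwv, hwl]; exact mul_mem (mul_mem hl₁ heE₁) hl₁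
  -- fourth powers in `L` centralise `X₂`
  have hfour : ∀ z ∈ L, ∀ x ∈ X₂, z ^ 4 * x = x * z ^ 4 := by
    intro z hz x hx
    obtain ⟨⟨hzX, hzE⟩, hzl⟩ := hz
    have hzl' : z * l * z⁻¹ = l := by
      rw [mem_centralizer_singleton_iff.1 hzl, mul_inv_cancel_right]
    have hconj : ∀ a, z ^ 2 * a * (z ^ 2)⁻¹ = z * (z * a * z⁻¹) * z⁻¹ := fun a => by
      rw [pow_two, mul_inv_rev]; group
    have h2e : z ^ 2 * (e : G) * (z ^ 2)⁻¹ = e := by
      rw [hconj]
      have he' := (Subgroup.mem_normalizer_iff.1 hzE _).1 heE₁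
      rcases hE₁all _ he' with h | h | h | h
      · exact absurd (conj_eq_one_iff.1 h) he1
      · exact absurd (mul_left_cancel (mul_right_cancel (h.trans hzl'.symm))) hel
      · rw [h, h]
      · rw [h, ← conj_mul, h, hzl', mul_assoc, ← pow_two l, hX₂sq l (hE₁X hl₁), mul_one]
    have hfix : ∀ a ∈ E₁, z ^ 2 * a * (z ^ 2)⁻¹ = a := fun a ha => by
      rcases hE₁all a ha with rfl | rfl | rfl | rfl
      · simp
      · rw [hconj, hzl', hzl']
      · exact h2e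
      · rw [← conj_mul, h2e, hconj, hzl', hzl']
    have hz2X : ∀ a ∈ X₂, z ^ 2 * a * (z ^ 2)⁻¹ ∈ X₂ := fun a ha =>
      (Subgroup.mem_normalizer_iff.1 (pow_mem hzX 2) a).1 ha
    have h4 : z ^ 2 * (z ^ 2 * x * (z ^ 2)⁻¹) * (z ^ 2)⁻¹ = x := by
      by_cases hxE : x ∈ E₁
      · rw [hfix x hxE, hfix x hxE]
      · have hidx : (E₁.subgroupOf X₂).index = 2 := by
          have := card_mul_index (E₁.subgroupOf X₂)
          rw [Nat.card_congr (subgroupOfEquivOfLe hE₁X).toEquiv, hE₁4, hX₂8] at this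
          omega
        have hprod : ∀ p ∈ X₂, ∀ p' ∈ X₂, p ∉ E₁ → p' ∉ E₁ → p * p' ∈ E₁ := fun p hp p' hp' h h' =>
          mem_subgroupOf.1 ((Subgroup.mul_mem_iff_of_index_two hidx (a := ⟨p, hp⟩)
            (b := ⟨p', hp'⟩)).2 (iff_of_false h h'))
        have himg : z ^ 2 * x * (z ^ 2)⁻¹ ∉ E₁ := fun h =>
          hxE ((Subgroup.mem_normalizer_iff.1 (pow_mem hzE 2) x).2 h)
        set a := z ^ 2 * x * (z ^ 2)⁻¹ * x with hadef
        have ha : a ∈ E₁ := hprod _ (hz2X x hx) x hx himg hxE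
        have hxx : x * x = 1 := by rw [← pow_two]; exact hX₂sq x hx
        have hax : z ^ 2 * x * (z ^ 2)⁻¹ = a * x := by
          rw [hadef, mul_assoc (z ^ 2 * x * (z ^ 2)⁻¹) x x, hxx, mul_one]
        rw [hax, ← conj_mul, hfix a ha, hax, ← mul_assoc, ← pow_two a, hX₂sq a (hE₁X ha), one_mul]
    calc z ^ 4 * x = z ^ 2 * (z ^ 2 * x * (z ^ 2)⁻¹) * (z ^ 2)⁻¹ * z ^ 4 := by group
      _ = x * z ^ 4 := by rw [h4]
  -- a Sylow subgroup of `L` induces everything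
  set D := (centralizer (X₂ : Set G)).subgroupOf L with hD
  have hDn : D.Normal := ⟨fun d hd z => mem_subgroupOf.2 <| mem_centralizer_iff.2 fun x hx => by
    have hx' : (z : G)⁻¹ * x * (z : G) ∈ X₂ :=
      (Subgroup.mem_normalizer_iff''.1 z.2.1.1 x).1 hx
    have h := mem_centralizer_iff.1 (mem_subgroupOf.1 hd) _ hx'
    simp only [Subgroup.coe_mul, Subgroup.coe_inv]
    calc x * ((z : G) * d * (z : G)⁻¹)
        = (z : G) * ((z : G)⁻¹ * x * z * d) * (z : G)⁻¹ := by group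
      _ = (z : G) * (d * ((z : G)⁻¹ * x * z)) * (z : G)⁻¹ := by rw [h]
      _ = (z : G) * d * (z : G)⁻¹ * x := by group⟩
  have hquot : IsPGroup 2 (L ⧸ D) := fun z => by
    induction z using QuotientGroup.induction_on with
    | _ z =>
      refine ⟨2, ?_⟩
      rw [← QuotientGroup.mk_pow, QuotientGroup.eq_one_iff, mem_subgroupOf, mem_centralizer_iff]
      exact fun x hx => (hfour z z.2 x hx).symm
  obtain ⟨P⟩ := (inferInstance : Nonempty (Sylow 2 L))
  have hPD : ∀ z : L, ∃ p ∈ (P : Subgroup L), p⁻¹ * z ∈ D := fun z => by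
    set P' := P.mapSurjective (QuotientGroup.mk'_surjective D) with hP'
    have htop : (P' : Subgroup (L ⧸ D)) = ⊤ :=
      (P'.3 (hquot.of_injective (⊤ : Subgroup (L ⧸ D)).subtype
        (Subgroup.subtype_injective _)) le_top).symm
    have hz : (QuotientGroup.mk' D z) ∈ (P' : Subgroup (L ⧸ D)) := htop ▸ mem_top _
    obtain ⟨p, hp, hpz⟩ := hz
    exact ⟨p, hp, QuotientGroup.eq.1 hpz⟩
  obtain ⟨h, -, hhT⟩ := CfsgLib.Transfer.exists_conj_le_of_isPGroup (p := 2) T.isPGroup'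
    (K := ⊤) le_top (by rw [relIndex_top_right]; exact T.not_dvd_index)
    (V := (P : Subgroup L).map L.subtype) (P.isPGroup'.map _) le_top
  have hX₂P : ∀ x ∈ X₂, h⁻¹ * x * h ∈ (T : Subgroup G) := fun x hx => by
    have : (X₂.subgroupOf L).Normal := ⟨fun a ha z =>
      (Subgroup.mem_normalizer_iff.1 z.2.1.1 (a : G)).1 ha⟩
    have hp : IsPGroup 2 (X₂.subgroupOf L) :=
      ((T.isPGroup'.to_le hX₂T).of_equiv (subgroupOfEquivOfLe hX₂L).symm)
    exact hhT x ⟨⟨x, hX₂L hx⟩, IsPGroup.le_sylow_of_normal hp P (show (⟨x, hX₂L hx⟩ : L) ∈ _ from hx), rfl⟩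
  set X₃ := X₂.map (MulAut.conj h⁻¹).toMonoidHom with hX₃
  have hX₃mem : ∀ a ∈ E, h * (a : G) * h⁻¹ ∈ X₂ := fun a ha => by
    obtain ⟨x, hx, hxa⟩ := height X₃
      (by rintro _ ⟨x, hx, rfl⟩; simpa using hX₂P x hx)
      (by rw [hX₃, card_map_of_injective (MulAut.conj h⁻¹).injective, hX₂8])
      (by
        rintro _ ⟨x, hx, rfl⟩
        rw [← map_pow, hX₂sq x hx, map_one]) a ha
    rw [← hxa]
    simpa [mul_assoc] using hx
  have hLfix : ∀ z ∈ L, ∀ a ∈ E, z * (h * (a : G) * h⁻¹) * z⁻¹ = h * (a : G) * h⁻¹ := by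
    intro z hz a ha
    obtain ⟨p, hp, hd⟩ := hPD ⟨z, hz⟩
    have hd' := mem_centralizer_iff.1 (mem_subgroupOf.1 hd) _ (hX₃mem a ha)
    simp only [Subgroup.coe_mul, Subgroup.coe_inv] at hd'
    have hpT := hhT _ (⟨p, hp, rfl⟩ : (p : G) ∈ (P : Subgroup L).map L.subtype)
    have hc' : h⁻¹ * (p : G) * h * (a : G) = (a : G) * (h⁻¹ * (p : G) * h) :=
      congrArg Subtype.val (hEcen a ha ⟨_, hpT⟩)
    set b := h * (a : G) * h⁻¹ with hb
    calc z * b * z⁻¹ = (p : G) * ((p : G)⁻¹ * z * b) * z⁻¹ := by group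
      _ = (p : G) * (b * ((p : G)⁻¹ * z)) * z⁻¹ := by rw [hd']
      _ = h * (h⁻¹ * (p : G) * h * (a : G)) * h⁻¹ * (p : G)⁻¹ := by rw [hb]; group
      _ = b := by rw [hc', hb]; group
  -- the fixed points lie in `E₁`
  obtain ⟨y₂, hy₂, hy₂4, hy₂2⟩ := hroot e heE
  have hin : ∀ a ∈ E, h * (a : G) * h⁻¹ ∈ E₁ := fun a ha => by
    by_contra hout
    have hb := hX₃mem a ha
    have hnE : (⟨_, hX₂T hb⟩ : ↥T) ∉ E := fun hmem => hout ⟨_, hmem, rfl⟩
    have h1 := congrArg Subtype.val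
      (hyfix y₂ hy₂ hy₂4 ⟨_, hX₂T hb⟩ (Subtype.ext (hX₂sq _ hb)) hnE)
    change (y₂ : G) * (h * (a : G) * h⁻¹) * (y₂ : G)⁻¹ = ((y₂ ^ 2 : ↥T) : G) * (h * (a : G) * h⁻¹)
      at h1
    rw [hLfix _ (hyL y₂ hy₂ hy₂4) a ha, right_eq_mul] at h1
    exact he1 (by rw [← hy₂2]; exact h1)
  have heq := Subgroup.eq_of_le_of_card_ge
    (show E₁.map (MulAut.conj h).toMonoidHom ≤ E₁ by
      rintro _ ⟨_, ⟨a, ha, rfl⟩, rfl⟩; exact hin a ha)
    (Nat.card_congr (E₁.equivMapOfInjective _ (MulAut.conj h).injective).toEquiv).le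
  obtain ⟨_, ⟨a, ha, rfl⟩, hae⟩ : (e : G) ∈ E₁.map (MulAut.conj h).toMonoidHom := heq.symm ▸ heE₁
  have h1 := hLfix w hwL a ha
  rw [show h * (a : G) * h⁻¹ = e from hae, hwv] at h1
  exact hl1 (mul_eq_right.1 h1)

end CfsgLib.NormalRankTwo
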